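import Cfsg.Agent.Schur.Alternating
import Cfsg.Prelude.Def_SporadicB

/-!
Two non-split double covers of the alternating group of degree eight are isomorphic.
-/

set_option autoImplicit false
set_option linter.style.haveILetI false

namespace Cfsg.Lib.McLRecog.Cover

open Equiv Cfsg.Lib.Schur.Alt

/-- The point `0`. -/
def pa : Fin 8 := 0
/-- The point `1`. -/
def pb : Fin 8 := 1
/-- The other points. -/
def pt (k : ℕ) : Fin 8 := ⟨(k + 2) % 8, Nat.mod_lt _ (by norm_num)⟩

theorem pt_ne {k : ℕ} (hk : k < 6) : pt k ≠ pa ∧ pt k ≠ pb := by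
  constructor <;> intro h <;> have := congrArg Fin.val h <;> simp [pt, pa, pb] at this <;> omega

theorem pt_inj {j k : ℕ} (hj : j < 6) (hk : k < 6) (h : pt j = pt k) : j = k := by
  have := congrArg Fin.val h
  simp only [pt] at this
  omega

theorem pt_surj {i : Fin 8} (ha : i ≠ pa) (hb : i ≠ pb) : ∃ k < 6, pt k = i := by
  have h0 : i.val ≠ 0 := fun h => ha (Fin.ext (by simp [pa, h]))
  have h1 : i.val ≠ 1 := fun h => hb (Fin.ext (by simp [pb, h]))
  have h8 := i.2
  exact ⟨i.val - 2, by omega, Fin.ext (by simp only [pt]; omega)⟩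

variable {Γ : Type*} [Group Γ] [Finite Γ]

/-- The chosen lifts of six three-cycles. -/
structure Lifts (ρ : Γ →* Perm (Fin 8)) (z : Γ) (X : ℕ → Γ) : Prop where
  ker : ∀ g, ρ g = 1 ↔ g = 1 ∨ g = z
  ne : z ≠ 1
  img : ∀ k < 6, ρ (X k) = cyc pa pb (pt k)
  cube : ∀ k < 6, X k ^ 3 = 1
  sq : ∀ j < 6, ∀ k < 6, j ≠ k → (X j * X k) ^ 2 = z
  gen : ∀ g, g ∈ Subgroup.closure (X '' Set.Iio 6)
  center : ∀ g, Commute g z

theorem ab_ne : pa ≠ pb := by decide

theorem exists_lifts (h : Cfsg.IsNonsplitDoubleCover Γ ↥(alternatingGroup (Fin 8))) :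
    ∃ ρ : Γ →* Perm (Fin 8), ∃ z X, Lifts ρ z X := by
  classical
  obtain ⟨hc2, ⟨q⟩, hsplit⟩ := h
  let ρ : Γ →* Perm (Fin 8) :=
    (alternatingGroup (Fin 8)).subtype.comp (q.toMonoidHom.comp (QuotientGroup.mk' (Subgroup.center Γ)))
  have hker : ρ.ker = Subgroup.center Γ := by
    ext g
    simp [ρ, MonoidHom.mem_ker]
  have hr : ρ.range = alternatingGroup (Fin 8) := by
    simp only [ρ, MonoidHom.range_comp]
    rw [MonoidHom.range_eq_top.2 (QuotientGroup.mk'_surjective _), ← MonoidHom.range_eq_map,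
      MonoidHom.range_eq_top.2 q.surjective, ← MonoidHom.range_eq_map, Subgroup.range_subtype]
  have hc : ρ.ker ≤ Subgroup.center Γ := hker.le
  obtain ⟨z, hz, hzu⟩ : ∃ z : Γ, z ≠ 1 ∧ ∀ g, g ∈ Subgroup.center Γ ↔ g = 1 ∨ g = z := by
    obtain ⟨⟨u, hu⟩, ⟨v, hv⟩, hne, huniv⟩ := Nat.card_eq_two_iff.1 hc2
    have hu' : ∀ g ∈ Subgroup.center Γ, g = u ∨ g = v := fun g hg => by
      have : (⟨g, hg⟩ : Subgroup.center Γ) ∈ ({⟨u, hu⟩, ⟨v, hv⟩} : Set _) := huniv ▸ Set.mem_univ _
      simpa using this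
    have huv : u ≠ v := fun e => hne (Subtype.ext e)
    rcases hu' 1 (one_mem _) with e | e
    · exact ⟨v, fun h => huv (by rw [h, ← e]), fun g => ⟨fun hg => (hu' g hg).imp (·.trans e.symm) id,
        fun hg => hg.elim (fun h => h ▸ one_mem _) (fun h => h ▸ hv)⟩⟩
    · exact ⟨u, fun h => huv (by rw [h, ← e]), fun g => ⟨fun hg => (hu' g hg).symm.imp (·.trans e.symm) id,
        fun hg => hg.elim (fun h => h ▸ one_mem _) (fun h => h ▸ hu)⟩⟩
  have hkz : ∀ g, ρ g = 1 ↔ g = 1 ∨ g = z := fun g => by rw [← MonoidHom.mem_ker, hker, hzu]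
  have hzc : ∀ g, Commute g z := fun g => comm_of_ker hc ((hkz z).2 (Or.inr rfl)) g
  have hex : ∀ k, ∃ T, k < 6 → IsGoodLift ρ pa pb (pt k) T := fun k => by
    by_cases hk : k < 6
    · obtain ⟨T, hT⟩ := exists_goodLift hc hr (by norm_num) ab_ne (pt_ne hk).1.symm (pt_ne hk).2.symm
      exact ⟨T, fun _ => hT⟩
    · exact ⟨1, fun h => absurd h hk⟩
  choose X hX using hex
  have huniq : ∀ {i : Fin 8} {U : Γ} {k : ℕ}, k < 6 → pt k = i → IsGoodLift ρ pa pb i U → U = X k :=
    fun hk e hU => by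
      subst e
      exact hU.unique hc hr (by norm_num) (by norm_num) (by norm_num) ab_ne (pt_ne hk).1.symm (pt_ne hk).2.symm (hX _ hk)
  let s : ℕ → ℕ → Γ := fun i j => (X i * X j) ^ 2
  have hs1 : ∀ i < 6, ∀ j < 6, i ≠ j → ρ (s i j) = 1 := fun i hi j hj hne => by
    rw [map_pow, map_mul, (hX i hi).1, (hX j hj).1, cyc_mul_sq ab_ne (pt_ne hi).1.symm (pt_ne hi).2.symm
      (pt_ne hj).1.symm (pt_ne hj).2.symm fun e => hne (pt_inj hi hj e)]
  have hsymm : ∀ i < 6, ∀ j < 6, i ≠ j → s j i = s i j := fun i hi j hj hne => by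
    have h := comm_of_ker hc (hs1 i hi j hj hne) (X i)⁻¹
    calc s j i = (X i)⁻¹ * s i j * X i := by simp only [s, pow_two]; group
      _ = s i j := by rw [h.eq, inv_mul_cancel_right]
  -- shifting one index
  have shift : ∀ i < 6, ∀ j < 6, ∀ k < 6, i ≠ j → i ≠ k → j ≠ k → s i j = s i k := by
    intro i hi j hj k hk hij hik hjk
    have hne : ∀ {a b : ℕ}, a < 6 → b < 6 → a ≠ b → pt a ≠ pt b := fun ha hb h e => h (pt_inj ha hb e)
    obtain ⟨m, hm, m1, m2, m3⟩ : ∃ m < 6, m ≠ i ∧ m ≠ j ∧ m ≠ k := by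
      by_contra hcon
      push Not at hcon
      have hsub : Finset.range 6 ⊆ {i, j, k} := fun m hm => by
        rw [Finset.mem_range] at hm
        simp only [Finset.mem_insert, Finset.mem_singleton]
        by_cases h1 : m = i
        · exact Or.inl h1
        by_cases h2 : m = j
        · exact Or.inr (Or.inl h2)
        exact Or.inr (Or.inr (hcon m hm h1 h2))
      have := (Finset.card_le_card hsub).trans Finset.card_le_three
      simp at this
    -- an even permutation fixing `a`, `b`, `i` and sending `j` to `k`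
    let π : Perm (Fin 8) := cyc (pt j) (pt k) (pt m)
    have hπ : π ∈ alternatingGroup (Fin 8) := cyc_mem _ _ _ (hne hj hk hjk) (hne hj hm m2.symm)
    obtain ⟨g, hg⟩ := exists_lift hr hπ
    have hfix : ∀ p : Fin 8, p ≠ pt j → p ≠ pt k → p ≠ pt m → π p = p := fun p => cyc_apply_ne
    have c1 := (hX i hi).conj g
    have c2 := (hX j hj).conj g
    rw [hg, hfix pa (pt_ne hj).1.symm (pt_ne hk).1.symm (pt_ne hm).1.symm,
      hfix pb (pt_ne hj).2.symm (pt_ne hk).2.symm (pt_ne hm).2.symm] at c1 c2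
    rw [hfix (pt i) (hne hi hj hij) (hne hi hk hik) (hne hi hm m1.symm)] at c1
    rw [show π (pt j) = pt k from cyc_apply₁ (hne hj hk hjk) (hne hk hm m3.symm)] at c2
    have hzg := comm_of_ker hc (hs1 i hi j hj hij) g
    calc s i j = g * s i j * g⁻¹ := by rw [hzg.eq, mul_inv_cancel_right]
      _ = (g * X i * g⁻¹ * (g * X j * g⁻¹)) ^ 2 := by simp only [s, pow_two]; group
      _ = _ := by rw [huniq hi rfl c1, huniq hk rfl c2]
  have hconst : ∀ i < 6, ∀ j < 6, i ≠ j → s i j = s 0 1 := by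
    have h0 : ∀ j < 6, j ≠ 0 → s 0 j = s 0 1 := fun j hj hj0 => by
      by_cases h : j = 1
      · rw [h]
      · exact shift 0 (by norm_num) j hj 1 (by norm_num) hj0.symm (by norm_num) h
    intro i hi j hj hij
    by_cases hi0 : i = 0
    · subst hi0
      exact h0 j hj (Ne.symm hij)
    by_cases hj0 : j = 0
    · subst hj0
      rw [hsymm 0 (by norm_num) i hi (Ne.symm hi0)]
      exact h0 i hi hi0
    rw [shift i hi j hj 0 (by norm_num) hij hi0 hj0, hsymm 0 (by norm_num) i hi (Ne.symm hi0)]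
    exact h0 i hi hi0
  let H := Subgroup.closure (X '' Set.Iio 6)
  have hmap : alternatingGroup (Fin 8) ≤ H.map ρ := fun p hp => mem_of_cyc_mem ab_ne (H := H.map ρ) (fun i hia hib => by
    obtain ⟨k, hk, rfl⟩ := pt_surj hia hib
    exact ⟨X k, Subgroup.subset_closure ⟨k, hk, rfl⟩, (hX k hk).1⟩) hp
  have hcover : ∀ g : Γ, ∃ h ∈ H, ρ h = ρ g := fun g =>
    hmap (hr ▸ ⟨g, rfl⟩)
  have hz' : s 0 1 = z := by
    rcases (hkz _).1 (hs1 0 (by norm_num) 1 (by norm_num) (by norm_num)) with h1 | h1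
    · exfalso
      -- a complement
      have hcard := card_closure_le X 6 (fun i hi => (hX i hi).2.1) fun i hi j hj hij =>
        (hconst i hi j hj hij).trans h1
      have hA : Nat.card (alternatingGroup (Fin 8)) = 20160 := by
        rw [nat_card_alternatingGroup, Nat.card_fin]
        rfl
      have hle : Nat.card H ≤ 20160 := by
        have : (8 : ℕ).factorial = 40320 := rfl
        have h2 : Nat.card H * 2 ≤ (8 : ℕ).factorial := hcard
        omega
      have hbij : Function.Bijective (fun h : H => (⟨ρ h.1, hr ▸ ⟨h.1, rfl⟩⟩ : alternatingGroup (Fin 8))) := by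
        have hsurj : Function.Surjective (fun h : H => (⟨ρ h.1, hr ▸ ⟨h.1, rfl⟩⟩ : alternatingGroup (Fin 8))) := by
          rintro ⟨p, hp⟩
          obtain ⟨h, hh, e⟩ := hmap hp
          exact ⟨⟨h, hh⟩, Subtype.ext e⟩
        exact (Nat.bijective_iff_surjective_and_card _).2 ⟨hsurj,
          le_antisymm (hle.trans hA.ge) (Nat.card_le_card_of_surjective _ hsurj)⟩
      refine hsplit H (Subgroup.isComplement'_of_disjoint_and_mul_eq_univ ?_ ?_)
      · rw [Subgroup.disjoint_def]
        intro x hx hxH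
        rw [← hker, MonoidHom.mem_ker] at hx
        exact congrArg Subtype.val (@hbij.1 ⟨x, hxH⟩ 1 (Subtype.ext (hx.trans (map_one ρ).symm)))
      · refine Set.eq_univ_of_forall fun g => ?_
        obtain ⟨h, hh, e⟩ := hcover g
        refine ⟨g * h⁻¹, ?_, h, hh, inv_mul_cancel_right g h⟩
        rw [SetLike.mem_coe, ← hker, MonoidHom.mem_ker, map_mul, map_inv, e, mul_inv_cancel]
    · exact h1
  refine ⟨ρ, z, X, hkz, hz, fun k hk => (hX k hk).1, fun k hk => (hX k hk).2.1,
    fun j hj k hk hne => (hconst j hj k hk hne).trans hz', fun g => ?_, hzc⟩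
  have hzH : z ∈ H := by
    have h0 : X 0 ∈ H := Subgroup.subset_closure ⟨0, Set.mem_Iio.2 (by norm_num), rfl⟩
    have h1 : X 1 ∈ H := Subgroup.subset_closure ⟨1, Set.mem_Iio.2 (by norm_num), rfl⟩
    rw [← hz']
    exact pow_mem (mul_mem h0 h1) 2
  obtain ⟨h, hh, e⟩ := hcover g
  rcases (hkz (g * h⁻¹)).1 (by rw [map_mul, map_inv, e, mul_inv_cancel]) with h1 | h1
  · exact (mul_inv_eq_one.1 h1) ▸ hh
  · rw [mul_inv_eq_iff_eq_mul.1 h1]
    exact mul_mem hzH hh

/-- The isomorphism, mapping the central involution to the central involution. -/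
theorem exists_iso {Δ : Type*} [Group Δ] [Finite Δ] (h : Cfsg.IsNonsplitDoubleCover Γ ↥(alternatingGroup (Fin 8)))
    (h' : Cfsg.IsNonsplitDoubleCover Δ ↥(alternatingGroup (Fin 8))) :
    ∃ e : Γ ≃* Δ, ∀ a : Γ, a ≠ 1 → (∀ g, Commute g a) → ∀ b : Δ, b ≠ 1 → (∀ g, Commute g b) → e a = b := by
  have hcardA : Nat.card (alternatingGroup (Fin 8)) = 20160 := by
    rw [nat_card_alternatingGroup, Nat.card_fin]
    rfl
  have hcard : ∀ {Λ : Type _} [Group Λ] [Finite Λ], Cfsg.IsNonsplitDoubleCover Λ ↥(alternatingGroup (Fin 8)) →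
      Nat.card Λ = 40320 := fun {Λ} _ _ hh => by
    obtain ⟨hc, ⟨q⟩, -⟩ := hh
    rw [Subgroup.card_eq_card_quotient_mul_card_subgroup (Subgroup.center Λ), Nat.card_congr q.toEquiv, hc, hcardA]
  have hcard' : Nat.card Δ = 40320 := by
    obtain ⟨hc, ⟨q⟩, -⟩ := h'
    rw [Subgroup.card_eq_card_quotient_mul_card_subgroup (Subgroup.center Δ), Nat.card_congr q.toEquiv, hc, hcardA]
  obtain ⟨ρ, z, X, L⟩ := exists_lifts h
  obtain ⟨ρ', z', X', L'⟩ := exists_lifts h'
  let Y : ℕ → Γ × Δ := fun k => (X k, X' k)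
  let D := Subgroup.closure (Y '' Set.Iio 6)
  have hrel : ∀ p ∈ D, ρ p.1 = ρ' p.2 := by
    intro p hp
    induction hp using Subgroup.closure_induction with
    | mem x hx =>
      obtain ⟨k, hk, rfl⟩ := hx
      exact (L.img k hk).trans (L'.img k hk).symm
    | one => simp
    | mul a b _ _ ha hb => simp [ha, hb]
    | inv a _ ha => simp [ha]
  have hw : ((z, z') : Γ × Δ) ∈ D := by
    have := pow_mem (mul_mem (Subgroup.subset_closure (k := Y '' Set.Iio 6) ⟨0, by norm_num, rfl⟩)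
      (Subgroup.subset_closure (k := Y '' Set.Iio 6) ⟨1, by norm_num, rfl⟩)) 2
    convert this using 1
    exact Prod.ext (L.sq 0 (by norm_num) 1 (by norm_num) (by norm_num)).symm
      (L'.sq 0 (by norm_num) 1 (by norm_num) (by norm_num)).symm
  -- the order of the graph
  have hD : Nat.card D ≤ 40320 := by
    let w : D := ⟨(z, z'), hw⟩
    haveI : (Subgroup.zpowers w).Normal := ⟨fun n hn g => by
      obtain ⟨k, rfl⟩ := Subgroup.mem_zpowers_iff.1 hn
      have hgw : Commute g w := Subtype.ext (Prod.ext (L.center g.1.1).eq (L'.center g.1.2).eq)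
      rw [(hgw.zpow_right k).eq, mul_inv_cancel_right]
      exact Subgroup.zpow_mem _ (Subgroup.mem_zpowers w) k⟩
    have hw2 : w ^ 2 = 1 := by
      have e1 : z * z = 1 := by
        have := (L.ker (z * z)).1 (by rw [map_mul, (L.ker z).2 (Or.inr rfl), one_mul])
        rcases this with h | h
        · exact h
        · exact absurd (mul_left_cancel (h.trans (mul_one z).symm)) L.ne
      have e2 : z' * z' = 1 := by
        have := (L'.ker (z' * z')).1 (by rw [map_mul, (L'.ker z').2 (Or.inr rfl), one_mul])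
        rcases this with h | h
        · exact h
        · exact absurd (mul_left_cancel (h.trans (mul_one z').symm)) L'.ne
      rw [pow_two]
      exact Subtype.ext (Prod.ext e1 e2)
    let Z : ℕ → D ⧸ Subgroup.zpowers w := fun k =>
      if hk : k < 6 then QuotientGroup.mk ⟨Y k, Subgroup.subset_closure ⟨k, hk, rfl⟩⟩ else 1
    have hle := card_closure_le Z 6 (fun i hi => by
      simp only [Z, dif_pos hi, ← QuotientGroup.mk_pow]
      refine (QuotientGroup.eq_one_iff _).2 ?_
      rw [show (⟨Y i, _⟩ : D) ^ 3 = 1 from Subtype.ext (Prod.ext (L.cube i hi) (L'.cube i hi))]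
      exact one_mem _) fun i hi j hj hij => by
      simp only [Z, dif_pos hi, dif_pos hj, ← QuotientGroup.mk_mul, ← QuotientGroup.mk_pow]
      refine (QuotientGroup.eq_one_iff _).2 ?_
      rw [show ((⟨Y i, _⟩ : D) * ⟨Y j, _⟩) ^ 2 = w from
        Subtype.ext (Prod.ext (L.sq i hi j hj hij) (L'.sq i hi j hj hij))]
      exact Subgroup.mem_zpowers w
    have htop : Subgroup.closure (Z '' Set.Iio 6) = ⊤ := by
      rw [eq_top_iff]
      rintro q -
      obtain ⟨⟨p, hp⟩, rfl⟩ := QuotientGroup.mk_surjective q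
      induction hp using Subgroup.closure_induction with
      | mem x hx =>
        obtain ⟨k, hk, rfl⟩ := hx
        exact Subgroup.subset_closure ⟨k, hk, by simp only [Z]; rw [dif_pos (Set.mem_Iio.1 hk)]⟩
      | one => exact one_mem _
      | mul a b ha hb ia ib => exact mul_mem ia ib
      | inv a ha ia => exact inv_mem ia
    rw [htop, Subgroup.card_top] at hle
    have h2 : Nat.card (Subgroup.zpowers w) ≤ 2 := by
      rw [Nat.card_zpowers]
      exact orderOf_le_of_pow_eq_one (by norm_num) hw2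
    rw [Subgroup.card_eq_card_quotient_mul_card_subgroup (Subgroup.zpowers w)]
    calc _ ≤ Nat.card (D ⧸ Subgroup.zpowers w) * 2 := Nat.mul_le_mul_left _ h2
      _ ≤ 40320 := hle
  let f₁ : D →* Γ := (MonoidHom.fst Γ Δ).comp D.subtype
  let f₂ : D →* Δ := (MonoidHom.snd Γ Δ).comp D.subtype
  have s₁ : Function.Surjective f₁ := fun g => by
    have h : Subgroup.closure (X '' Set.Iio 6) ≤ f₁.range := (Subgroup.closure_le _).2 (by
      rintro _ ⟨k, hk, rfl⟩
      exact ⟨⟨Y k, Subgroup.subset_closure ⟨k, hk, rfl⟩⟩, rfl⟩)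
    exact h (L.gen g)
  have s₂ : Function.Surjective f₂ := fun g => by
    have h : Subgroup.closure (X' '' Set.Iio 6) ≤ f₂.range := (Subgroup.closure_le _).2 (by
      rintro _ ⟨k, hk, rfl⟩
      exact ⟨⟨Y k, Subgroup.subset_closure ⟨k, hk, rfl⟩⟩, rfl⟩)
    exact h (L'.gen g)
  have b₁ : Function.Bijective f₁ := (Nat.bijective_iff_surjective_and_card _).2
    ⟨s₁, le_antisymm (hD.trans (hcard h).ge) (Nat.card_le_card_of_surjective _ s₁)⟩
  have b₂ : Function.Bijective f₂ := (Nat.bijective_iff_surjective_and_card _).2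
    ⟨s₂, le_antisymm (hD.trans hcard'.ge) (Nat.card_le_card_of_surjective _ s₂)⟩
  refine ⟨(MulEquiv.ofBijective f₁ b₁).symm.trans (MulEquiv.ofBijective f₂ b₂), fun a ha hac b hb hbc => ?_⟩
  have hcen : ∀ {u : Γ}, u ≠ 1 → (∀ g, Commute g u) → u = z := fun {u} hu huc => by
    by_contra hne
    obtain ⟨hc, -, -⟩ := h
    have hzc : z ∈ Subgroup.center Γ := Subgroup.mem_center_iff.2 fun g => (L.center g).eq
    obtain ⟨p, q, -, huniv⟩ := Nat.card_eq_two_iff.1 hc
    have hall : ∀ x : Subgroup.center Γ, x = p ∨ x = q := fun x => by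
      have := huniv ▸ Set.mem_univ x
      simpa using this
    have h1 := hall 1
    have h2 := hall ⟨z, hzc⟩
    have h3 := hall ⟨u, Subgroup.mem_center_iff.2 fun g => (huc g).eq⟩
    have n1 : (1 : Subgroup.center Γ) ≠ ⟨z, hzc⟩ := fun e => L.ne (congrArg Subtype.val e).symm
    have n2 : (1 : Subgroup.center Γ) ≠ ⟨u, Subgroup.mem_center_iff.2 fun g => (huc g).eq⟩ :=
      fun e => hu (congrArg Subtype.val e).symm
    have n3 : (⟨z, hzc⟩ : Subgroup.center Γ) ≠ ⟨u, Subgroup.mem_center_iff.2 fun g => (huc g).eq⟩ :=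
      fun e => hne (congrArg Subtype.val e).symm
    rcases h1 with e1 | e1 <;> rcases h2 with e2 | e2 <;> rcases h3 with e3 | e3 <;>
      first
        | exact n1 (e1.trans e2.symm)
        | exact n2 (e1.trans e3.symm)
        | exact n3 (e2.trans e3.symm)
  rw [hcen ha hac]
  show f₂ ((MulEquiv.ofBijective f₁ b₁).symm z) = b
  have e : (MulEquiv.ofBijective f₁ b₁).symm z = ⟨(z, z'), hw⟩ := by
    rw [MulEquiv.symm_apply_eq]
    rfl
  rw [e]
  show z' = b
  obtain ⟨hc, -, -⟩ := h'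
  obtain ⟨p, q, -, huniv⟩ := Nat.card_eq_two_iff.1 hc
  have hall : ∀ x : Subgroup.center Δ, x = p ∨ x = q := fun x => by
    have := huniv ▸ Set.mem_univ x
    simpa using this
  by_contra hne
  rcases hall 1 with e1 | e1 <;> rcases hall ⟨z', Subgroup.mem_center_iff.2 fun g => (L'.center g).eq⟩ with e2 | e2 <;>
    rcases hall ⟨b, Subgroup.mem_center_iff.2 fun g => (hbc g).eq⟩ with e3 | e3 <;>
    first
      | exact L'.ne (congrArg Subtype.val (e1.trans e2.symm)).symm
      | exact hb (congrArg Subtype.val (e1.trans e3.symm)).symm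
      | exact hne (congrArg Subtype.val (e2.trans e3.symm))

end Cfsg.Lib.McLRecog.Cover
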