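import Cfsg.Agent.McLRecog.Iso
import Cfsg.Agent.McLRecog.Cover
import Cfsg.Agent.Coprime.Hall
import Cfsg.Agent.OddChar.PF.OddOrder
import Cfsg.Agent.InvolCalc.ZStarApps

/-!
No larger group: recognition of the McLaughlin group.
-/

set_option autoImplicit false
set_option maxRecDepth 20000
set_option linter.style.haveILetI false

namespace Cfsg.Lib.McLRecog

open Cfsg Cfsg.Lib.CosetCert Cfsg.Lib.CosetCert.OutCert
open Cfsg.Lib.McLModel (data valid_data grp_eq)
open Cfsg.Lib.McLModel.Inv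

theorem count_invol : Nat.card {x : data.grp // orderOf x = 2} = 22275 := by
  classical
  have horb : MulAction.orbit (ConjAct data.grp) tG = {x | orderOf x = 2} := by
    ext x
    constructor
    · intro hx
      obtain ⟨g, hg⟩ := MulAction.mem_orbit_iff.1 hx
      rw [ConjAct.smul_def] at hg
      show orderOf x = 2
      rw [← hg, ← MulAut.conj_apply, MulEquiv.orderOf_eq]
      exact tG_order
    · intro hx
      obtain ⟨g, hg⟩ := isConj_iff.1 (isConj_tG hx)
      exact MulAction.mem_orbit_iff.2 ⟨ConjAct.toConjAct g, by rw [ConjAct.smul_def, ConjAct.ofConjAct_toConjAct, hg]⟩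
  have h := Nat.card_congr (MulAction.orbitProdStabilizerEquivGroup (ConjAct data.grp) tG)
  have hs : Nat.card (MulAction.stabilizer (ConjAct data.grp) tG) = 40320 := by
    rw [← centP_eq.2, ← Nat.card_congr centEquiv.toEquiv]
    refine Nat.card_congr (ConjAct.ofConjAct.toEquiv.subtypeEquiv fun g => ?_)
    rw [Subgroup.mem_centralizer_singleton_iff, MulAction.mem_stabilizer_iff, ConjAct.smul_def,
      mul_inv_eq_iff_eq_mul]
    rfl
  rw [Nat.card_prod, hs, horb, Nat.card_congr ConjAct.ofConjAct.toEquiv, grp_eq.2] at h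
  refine mul_right_cancel₀ (b := 40320) (by norm_num) ?_
  exact (show Nat.card {x : data.grp // orderOf x = 2} * 40320 = 898128000 from h).trans (by norm_num)

/-- The model has no subgroup of odd order divisible by the number of involutions. -/
theorem no_odd {D : Subgroup data.grp} (hodd : Odd (Nat.card D)) (hdvd : 22275 ∣ Nat.card D) : False := by
  classical
  haveI : Group.IsSolvable D := Cfsg.Agent.PF.isSolvable_of_odd D hodd
  obtain ⟨Hl, hpi, hidx⟩ := Coprime.exists_piHall (G := D) ({5, 11} : Set ℕ)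
  set n := Nat.card Hl with hn
  have hmul := Hl.card_mul_index
  rw [← hn] at hmul
  have hn0 : n ≠ 0 := Nat.card_pos.ne'
  -- the order
  have hdiv : ∀ p k : ℕ, p.Prime → p ∈ ({5, 11} : Set ℕ) → p ^ k ∣ Nat.card D → p ^ k ∣ n := fun p k hp hpm h => by
    rw [← hmul] at h
    exact ((hp.coprime_iff_not_dvd.2 (hidx p hp hpm)).pow_left k).dvd_of_dvd_mul_right h
  have h25 : 5 ^ 2 ∣ n := hdiv 5 2 (by norm_num) (by simp) (Dvd.dvd.trans (by norm_num) hdvd)
  have h11 : 11 ^ 1 ∣ n := hdiv 11 1 (by norm_num) (by simp) (Dvd.dvd.trans (by norm_num) hdvd)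
  rw [pow_one] at h11
  have hnM : n ∣ 898128000 := (Subgroup.card_subgroup_dvd_card Hl).trans
    (grp_eq.2 ▸ Subgroup.card_subgroup_dvd_card D)
  haveI : Fact (Nat.Prime 11) := ⟨by norm_num⟩
  -- the Sylow subgroup of order eleven
  obtain ⟨R⟩ : Nonempty (Sylow 11 Hl) := inferInstance
  have hR : Nat.card (R : Subgroup Hl) = 11 := by
    obtain ⟨j, hj⟩ := R.2.exists_card_eq
    have h1 : (11 : ℕ) ^ j ∣ 898128000 := hj ▸ (Subgroup.card_subgroup_dvd_card (R : Subgroup Hl)).trans hnM
    have h2 : 11 ∣ 11 ^ j := hj ▸ R.dvd_card_of_dvd_card h11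
    have hj0 : j ≠ 0 := fun h => by simp [h] at h2
    have hj2 : j < 2 := by
      by_contra h
      exact absurd ((pow_dvd_pow 11 (not_lt.1 h)).trans h1) (by norm_num)
    rw [hj, show j = 1 by omega, pow_one]
  have hone : Nat.card (Sylow 11 Hl) = 1 := by
    have hd : Nat.card (Sylow 11 Hl) ∣ (R : Subgroup Hl).index := R.card_dvd_index
    have hm := card_sylow_modEq_one 11 Hl
    have hidx5 : ∀ q : ℕ, q.Prime → q ∣ (R : Subgroup Hl).index → q = 5 := fun q hq h => by
      rcases hpi q hq (h.trans (R : Subgroup Hl).index_dvd_card) with rfl | h'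
      · rfl
      · exact absurd (show 11 ∣ (R : Subgroup Hl).index from (Set.mem_singleton_iff.1 h') ▸ h) R.not_dvd_index
    have hi0 : (R : Subgroup Hl).index ≠ 0 := Subgroup.index_ne_zero_of_finite
    have hpow := Nat.eq_prime_pow_of_unique_prime_dvd hi0 fun {q} hq h => hidx5 q hq h
    rw [hpow] at hd
    obtain ⟨b, hb, e⟩ := (Nat.dvd_prime_pow (by norm_num)).1 hd
    have hb3 : (5 : ℕ) ^ b ∣ 898128000 := by
      refine dvd_trans ?_ hnM
      rw [← e]
      exact (R.card_dvd_index).trans (R : Subgroup Hl).index_dvd_card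
    have hb4 : b < 4 := by
      by_contra h
      exact absurd ((pow_dvd_pow 5 (not_lt.1 h)).trans hb3) (by norm_num)
    rw [e] at hm ⊢
    clear * - hm hb4
    interval_cases b <;> revert hm <;> norm_num [Nat.ModEq]
  haveI : Subsingleton (Sylow 11 Hl) := (Nat.card_eq_one_iff_unique.1 hone).1
  haveI : (R : Subgroup Hl).Normal := Sylow.normal_of_subsingleton R
  obtain ⟨r, hr⟩ := exists_prime_orderOf_dvd_card' (G := (R : Subgroup Hl)) 11 (by rw [hR])
  let ι : Hl →* data.grp := D.subtype.comp Hl.subtype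
  have hι : Function.Injective ι := D.subtype_injective.comp Hl.subtype_injective
  have hr' : orderOf (ι r.1) = 11 := by rw [orderOf_injective ι hι, Subgroup.orderOf_coe, hr]
  obtain ⟨g, e, -, hg⟩ := valid_data.classes grp_eq.2 (v := ι r.1) hr'
  set uu := Data.u valid_data with huu
  have he : orderOf (uu ^ e.1) = 11 := by rw [← hg, ← MulAut.conj_apply, MulEquiv.orderOf_eq, hr']
  -- the orbit and the stabiliser
  let f : Hl → data.grp := fun h => g * ι h * g⁻¹
  have hstab : ∀ h : Hl, h * r.1 = r.1 * h → h ∈ (R : Subgroup Hl) := by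
    intro h hh
    have hc : f h * uu ^ e.1 = uu ^ e.1 * f h := by
      rw [← hg]
      calc g * ι h * g⁻¹ * (g * ι r.1 * g⁻¹) = g * ι (h * r.1) * g⁻¹ := by rw [map_mul]; group
        _ = g * ι (r.1 * h) * g⁻¹ := by rw [hh]
        _ = _ := by simp only [f, map_mul]; group
    have hzp : uu ∈ Subgroup.zpowers (uu ^ e.1) := by
      have hle : Subgroup.zpowers (uu ^ e.1) ≤ Subgroup.zpowers uu :=
        Subgroup.zpowers_le.2 (pow_mem (Subgroup.mem_zpowers _) _)
      rw [Subgroup.eq_of_le_of_card_ge hle (by rw [Nat.card_zpowers, Nat.card_zpowers, he, huu, valid_data.u_order]; rfl)]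
      exact Subgroup.mem_zpowers _
    obtain ⟨m, hm⟩ := Subgroup.mem_zpowers_iff.1 hzp
    obtain ⟨i, hi⟩ := valid_data.cent_u grp_eq.2 (c := f h) (by
      rw [← huu, ← hm]
      exact ((show Commute (f h) (uu ^ e.1) from hc).zpow_right m).eq)
    have hmem : f h ∈ Subgroup.zpowers (uu ^ e.1) := by
      rw [hi, ← huu]
      exact pow_mem hzp i
    obtain ⟨k, hk⟩ := Subgroup.mem_zpowers_iff.1 hmem
    rw [← hg, conj_zpow] at hk
    have : ι h = ι (r.1 ^ k) := by
      rw [map_zpow]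
      exact (mul_left_cancel (mul_right_cancel hk)).symm
    exact hι this ▸ zpow_mem r.2 k
  have hcard : n ≤ 121 := by
    rw [hn]
    let q : Hl → (R : Subgroup Hl) := fun h => ⟨h * r.1 * h⁻¹, (inferInstance : (R : Subgroup Hl).Normal).conj_mem _ r.2 h⟩
    choose sec hsec using fun y : Set.range q => y.2
    have hinj : Function.Injective (fun h : Hl => ((⟨q h, h, rfl⟩ : Set.range q),
        (⟨(sec ⟨q h, h, rfl⟩)⁻¹ * h, hstab _ (by
          have := congrArg Subtype.val (hsec ⟨q h, h, rfl⟩)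
          simp only [q] at this
          calc (sec ⟨q h, h, rfl⟩)⁻¹ * h * r.1 = (sec ⟨q h, h, rfl⟩)⁻¹ * (h * r.1 * h⁻¹) * h := by group
            _ = (sec ⟨q h, h, rfl⟩)⁻¹ * (sec ⟨q h, h, rfl⟩ * r.1 * (sec ⟨q h, h, rfl⟩)⁻¹) * h := by rw [this]
            _ = _ := by group)⟩ : (R : Subgroup Hl)))) := by
      intro a b hab
      simp only [Prod.mk.injEq, Subtype.mk.injEq] at hab
      have e2 : (⟨q a, a, rfl⟩ : Set.range q) = ⟨q b, b, rfl⟩ := hab.1
      rw [e2] at hab
      exact mul_left_cancel hab.2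
    refine (Nat.card_le_card_of_injective _ hinj).trans ?_
    rw [Nat.card_prod, hR]
    calc Nat.card (Set.range q) * 11 ≤ 11 * 11 := by
          refine Nat.mul_le_mul_right 11 ?_
          exact le_of_le_of_eq (Nat.card_le_card_of_injective _ Subtype.val_injective) hR
      _ = 121 := rfl
  have : 275 ∣ n := (show Nat.Coprime (5 ^ 2) 11 by norm_num).mul_dvd_of_dvd_of_dvd h25 h11
  exact absurd (Nat.le_of_dvd (Nat.pos_of_ne_zero hn0) this) (by omega)

namespace Ctx

variable {G : Type*} [Group G] [Finite G] (c : Ctx G)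

include c in
theorem exists_iso : Nonempty (↥data.grp ≃* G) := by
  classical
  obtain ⟨φ, hφ, hext⟩ := c.exists_embedding
  set H := φ.range with hH
  have htG : φ tG = c.t := by
    rw [← c.f_t, ← hext tPerm (mem_centP.2 ⟨tPerm_mem, rfl⟩)]
    rfl
  have hCle : Subgroup.centralizer ({c.t} : Set G) ≤ H := fun g hg => by
    obtain ⟨z, hz, rfl⟩ := c.exists_f hg
    exact ⟨_, hext z hz⟩
  have htop : H = ⊤ := by
    by_contra hne
    have hconjT : ∀ s ∈ H, orderOf s = 2 → ∃ h ∈ H, h * c.t * h⁻¹ = s := by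
      rintro _ ⟨x, rfl⟩ hs
      rw [orderOf_injective φ hφ] at hs
      obtain ⟨g, hg⟩ := isConj_iff.1 (isConj_tG hs)
      exact ⟨φ g, ⟨g, rfl⟩, by rw [← htG, ← map_mul, ← map_inv, ← map_mul, hg]⟩
    have hse : Cfsg.IsStronglyEmbedded H := by
      refine StrongEmb.of_conditions hne ?_ ?_ ?_
      · rw [even_iff_two_dvd, ← tG_order, ← orderOf_injective φ hφ]
        rw [← Subgroup.orderOf_mk (φ tG) (show φ tG ∈ H from ⟨tG, rfl⟩)]
        exact orderOf_dvd_natCard _
      · intro s hs hs2 g hg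
        obtain ⟨h, hh, rfl⟩ := hconjT s hs hs2
        have : h⁻¹ * g * h ∈ H := hCle (Subgroup.mem_centralizer_singleton_iff.2 (by
          have e := Subgroup.mem_centralizer_singleton_iff.1 hg
          calc h⁻¹ * g * h * c.t = h⁻¹ * (g * (h * c.t * h⁻¹)) * h := by group
            _ = h⁻¹ * (h * c.t * h⁻¹ * g) * h := by rw [e]
            _ = _ := by group))
        have h2 := mul_mem (mul_mem hh this) (inv_mem hh)
        rwa [show h * (h⁻¹ * g * h) * h⁻¹ = g by group] at h2
      · intro s hs s' hs' hs2 hs2' _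
        obtain ⟨h, hh, rfl⟩ := hconjT s hs hs2
        obtain ⟨h', hh', rfl⟩ := hconjT s' hs' hs2'
        exact ⟨h' * h⁻¹, mul_mem hh' (inv_mem hh), by group⟩
    obtain ⟨g, -, hg⟩ := SetLike.exists_of_lt (lt_top_iff_ne_top.2 hne)
    set x : G ⧸ H := QuotientGroup.mk 1 with hx
    set y : G ⧸ H := QuotientGroup.mk g with hy
    have hxy : x ≠ y := fun e => hg (by simpa [hx, hy, QuotientGroup.eq] using e)
    have hfix : ∀ i : G, i • x = x ↔ i ∈ H := fun i => by
      simp [hx, MulAction.Quotient.smul_mk, QuotientGroup.eq]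
    have hfy : ∀ i : G, i • y = y ↔ g⁻¹ * i * g ∈ H := fun i => by
      rw [hy, MulAction.Quotient.smul_mk, smul_eq_mul, QuotientGroup.eq, ← inv_mem_iff]
      simp [mul_assoc]
    let D : Subgroup G := H ⊓ H.map (MulAut.conj g).toMonoidHom
    have hD : ∀ d : G, d ∈ D ↔ d • x = x ∧ d • y = y := fun d => by
      rw [Subgroup.mem_inf, hfix, hfy, Cfsg.Lib.StrongEmb.mem_conj_iff]
    have hodd : Odd (Nat.card D) := hse.2.2 g hg
    set s₀ := c.t
    have hs₀ : orderOf s₀ = 2 := by rw [← htG, orderOf_injective φ hφ, tG_order]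
    have hs₀x : s₀ • x = x := (hfix _).2 ⟨tG, htG⟩
    set t₀ := g * c.t * g⁻¹ with ht₀
    have ht₀2 : orderOf t₀ = 2 := by rw [ht₀, ← MulAut.conj_apply, MulEquiv.orderOf_eq, hs₀]
    have ht₀y : t₀ • y = y := (hfy _).2 (by
      rw [show g⁻¹ * t₀ * g = c.t by rw [ht₀]; group]
      exact ⟨tG, htG⟩)
    obtain ⟨v₀, hv₀, hv₀x, hv₀s, -⟩ := StrongEmb.exists_swap hse hxy hs₀ hs₀x ht₀2 ht₀y
    have hinv : ∀ v : G, orderOf v = 2 → v * v = 1 := fun v hv => by
      rw [← pow_two, ← hv, pow_orderOf_eq_one]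
    have hswap : ∀ v : G, orderOf v = 2 → v • x = y → v • y = x := fun v hv h => by
      rw [← h, smul_smul, hinv v hv, one_smul]
    let D' : Subgroup (ConjAct G) := D.map ConjAct.toConjAct.toMonoidHom
    have horb : MulAction.orbit D' s₀ = {i : G | orderOf i = 2 ∧ i ∈ H} := by
      ext i
      constructor
      · rintro ⟨⟨_, d, hd, rfl⟩, rfl⟩
        show orderOf (ConjAct.toConjAct d • s₀) = 2 ∧ ConjAct.toConjAct d • s₀ ∈ H
        rw [ConjAct.smul_def, ConjAct.ofConjAct_toConjAct]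
        exact ⟨by rw [← MulAut.conj_apply, MulEquiv.orderOf_eq, hs₀],
          mul_mem (mul_mem hd.1 ((hfix _).1 hs₀x)) (inv_mem hd.1)⟩
      · rintro ⟨hi2, hiH⟩
        obtain ⟨v, hv, hvx, hvs, -⟩ := StrongEmb.exists_swap hse hxy hi2 ((hfix _).2 hiH) ht₀2 ht₀y
        have hd : v * v₀ ∈ D := (hD _).2 ⟨by rw [← smul_smul, hv₀x, hswap v hv hvx],
          by rw [← smul_smul, hswap v₀ hv₀ hv₀x, hvx]⟩
        refine ⟨⟨_, v * v₀, hd, rfl⟩, ?_⟩
        show ConjAct.toConjAct (v * v₀) • s₀ = i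
        rw [ConjAct.smul_def, ConjAct.ofConjAct_toConjAct, mul_inv_rev,
          inv_eq_of_mul_eq_one_left (hinv v₀ hv₀), inv_eq_of_mul_eq_one_left (hinv v hv)]
        calc v * v₀ * s₀ * (v₀ * v) = v * (v₀ * s₀ * v₀) * v := by group
          _ = v * (v * i * v) * v := by rw [hv₀s, hvs]
          _ = (v * v) * i * (v * v) := by group
          _ = i := by rw [hinv v hv, one_mul, mul_one]
    have hN : Nat.card {i : G | orderOf i = 2 ∧ i ∈ H} = 22275 := by
      rw [← count_invol]
      refine (Nat.card_congr (Equiv.ofBijective (fun a : {a : data.grp // orderOf a = 2} =>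
        (⟨φ a.1, by rw [orderOf_injective φ hφ]; exact a.2, a.1, rfl⟩ : {i : G | orderOf i = 2 ∧ i ∈ H}))
        ⟨fun a b e => Subtype.ext (hφ (congrArg Subtype.val e)), ?_⟩)).symm
      rintro ⟨_, h2, a, rfl⟩
      exact ⟨⟨a, by rwa [orderOf_injective φ hφ] at h2⟩, rfl⟩
    have hdvd : 22275 ∣ Nat.card D := by
      have h := Nat.card_congr (MulAction.orbitProdStabilizerEquivGroup D' s₀)
      rw [Nat.card_prod, horb, hN, Subgroup.card_map_of_injective ConjAct.toConjAct.injective] at h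
      exact ⟨_, h.symm⟩
    have hDH : D ≤ φ.range := inf_le_left
    refine no_odd (D := D.comap φ) ?_ ?_ <;>
      rw [Nat.card_congr (Subgroup.equivMapOfInjective (D.comap φ) φ hφ).toEquiv, Subgroup.map_comap_eq,
        inf_eq_right.2 hDH] <;> assumption
  exact ⟨MulEquiv.ofBijective φ ⟨hφ, MonoidHom.range_eq_top.1 htop⟩⟩

end Ctx

/-- The isolated case. -/
theorem isolated_case {G : Type*} [Group G] [Finite G] {t : G} (hiso : Cfsg.IsIsolatedInvolution t) :
    Subgroup.centralizer ({t} : Set G) ⊔ Cfsg.oddCore G = ⊤ := by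
  rw [eq_top_iff]
  intro g _
  have ht2 : t * t = 1 := by rw [← pow_two, ← hiso.1, pow_orderOf_eq_one]
  have hti : t⁻¹ = t := inv_eq_of_mul_eq_one_left ht2
  set e := t * g * t⁻¹ * g⁻¹ with he
  have heO : e ∈ Cfsg.oddCore G := ZStarApps.zstarProp hiso g
  have hodd : Odd (orderOf e) := by
    rw [← Subgroup.orderOf_mk e heO]
    exact (Nat.Coprime.odd_of_right (Cfsg.Lib.Components.coprime_card_pPrimeCore (G := G) 2)).of_dvd_nat
      (orderOf_dvd_natCard _)
  obtain ⟨m, hm⟩ := hodd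
  set u := g * t * g⁻¹ with hu
  have hu2 : u * u = 1 := by
    calc g * t * g⁻¹ * (g * t * g⁻¹) = g * (t * t) * g⁻¹ := by group
      _ = 1 := by rw [ht2, mul_one, mul_inv_cancel]
  have etu : e = t * u := by rw [he, hu, hti]; group
  have hinv : t * e * t⁻¹ = e⁻¹ := by
    rw [etu, mul_inv_rev, inv_eq_of_mul_eq_one_left hu2, hti, ← mul_assoc, ht2, one_mul]
  have hk : ∀ k : ℕ, e ^ k * t = t * (e ^ k)⁻¹ := fun k => by
    rw [← inv_pow, ← hinv, conj_pow, hti, ← mul_assoc, ← mul_assoc, ht2, one_mul]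
  have ho : e ^ m * t * (e ^ m)⁻¹ = u := by
    have h1 : e ^ (2 * m + 1) = 1 := hm ▸ pow_orderOf_eq_one e
    rw [hk, mul_assoc, ← mul_inv_rev, ← pow_add, inv_eq_of_mul_eq_one_right (b := e) (by
      rw [← pow_succ, show m + m + 1 = 2 * m + 1 by omega, h1]), etu, ← mul_assoc, ht2, one_mul]
  have hc : (e ^ m)⁻¹ * g ∈ Subgroup.centralizer ({t} : Set G) := by
    rw [Subgroup.mem_centralizer_singleton_iff]
    calc (e ^ m)⁻¹ * g * t = (e ^ m)⁻¹ * (g * t * g⁻¹) * g := by group
      _ = (e ^ m)⁻¹ * (e ^ m * t * (e ^ m)⁻¹) * g := by rw [ho]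
      _ = _ := by group
  have hg : g = e ^ m * ((e ^ m)⁻¹ * g) := (mul_inv_cancel_left _ _).symm
  rw [hg]
  exact mul_mem (Subgroup.mem_sup_right (pow_mem heO m)) (Subgroup.mem_sup_left hc)

theorem main {G : Type*} [Group G] [Finite G] (t : G) (ht : orderOf t = 2)
    (hcov : Cfsg.IsNonsplitDoubleCover (Subgroup.centralizer ({t} : Set G)) (alternatingGroup (Fin 8))) :
    Subgroup.centralizer ({t} : Set G) ⊔ Cfsg.oddCore G = ⊤ ∨ Nonempty (G ≃* Cfsg.Spor.McL) := by
  by_cases hiso : Cfsg.IsIsolatedInvolution t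
  · exact Or.inl (isolated_case hiso)
  refine Or.inr ?_
  obtain ⟨e, he⟩ := Cover.exists_iso (Γ := centP) (Δ := Subgroup.centralizer ({t} : Set G)) double_cover hcov
  have hcen : ∀ g : centP, Commute g tC := fun g => Subtype.ext (mem_centP.1 g.2).2
  have htC : tC ≠ 1 := fun h => tPerm_ne (congrArg Subtype.val h)
  have het := he tC htC hcen ⟨t, Subgroup.mem_centralizer_singleton_iff.2 rfl⟩
    (fun h => by
      have h' : t = 1 := congrArg Subtype.val h
      rw [h', orderOf_one] at ht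
      exact absurd ht (by norm_num))
    (fun g => Subtype.ext (Subgroup.mem_centralizer_singleton_iff.1 g.2))
  obtain ⟨g₀, hg₀⟩ : ∃ g, Commute t (g * t * g⁻¹) ∧ g * t * g⁻¹ ≠ t := by
    by_contra hno
    push Not at hno
    exact hiso ⟨ht, hno⟩
  let c : Ctx G :=
    { t := t
      ι := (Subgroup.centralizer ({t} : Set G)).subtype.comp e.toMonoidHom
      inj := (Subgroup.subtype_injective _).comp e.injective
      range := by
        rw [MonoidHom.range_comp, MonoidHom.range_eq_top.2 e.surjective, ← MonoidHom.range_eq_map,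
          Subgroup.range_subtype]
      map_t := congrArg Subtype.val het
      noniso := ⟨g₀, hg₀⟩ }
  obtain ⟨i⟩ := c.exists_iso
  obtain ⟨j⟩ := Cfsg.Lib.McLModel.exists_equiv
  exact ⟨i.symm.trans j.symm⟩

end Cfsg.Lib.McLRecog
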