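import Cfsg.Agent.McLRecog.Ctx
import Cfsg.Agent.SolvStruct.Gaschuetz

/-!
The action of the normaliser on the elementary subgroup, a complement, and the images of the letters.
-/

set_option autoImplicit false
set_option maxRecDepth 20000
set_option linter.style.haveILetI false

namespace Cfsg.Lib.McLRecog

open Cfsg Cfsg.Lib.CosetCert Cfsg.Lib.CosetCert.OutCert
open Cfsg.Lib.McLModel (data valid_data grp_eq)
open Cfsg.Lib.McLModel.Inv

namespace Ctx

variable {G : Type*} [Group G] [Finite G] (c : Ctx G)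

/-- A group element acts on the elementary subgroup as a list says. -/
def Acts (g : G) (p : List ℕ) : Prop :=
  Canon p ∧ ∀ i < 16, pap p i < 16 ∧ g * c.ge i * g⁻¹ = c.ge (pap p i)

theorem acts_mul {g h : G} {p q : List ℕ} (hg : c.Acts g p) (hh : c.Acts h q) : c.Acts (g * h) (pmul p q) := by
  refine ⟨canon_pmul p q, fun i hi => ?_⟩
  obtain ⟨h1, h2⟩ := hh.2 i hi
  obtain ⟨h3, h4⟩ := hg.2 _ h1
  rw [pap_pmul hi]
  refine ⟨h3, ?_⟩
  rw [← h4, ← h2]
  group

theorem acts_unique {g : G} {p q : List ℕ} (hp : c.Acts g p) (hq : c.Acts g q) : p = q :=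
  canon_ext hp.1 hq.1 fun i hi => c.ge_inj (hp.2 i hi).1 (hq.2 i hi).1 ((hp.2 i hi).2.symm.trans (hq.2 i hi).2)

theorem acts_one : c.Acts 1 (List.range 16) :=
  ⟨canon_range, fun i hi => by rw [pap_range hi]; simp [hi]⟩

theorem acts_E {g : G} (hg : g ∈ c.E) : c.Acts g (List.range 16) := by
  obtain ⟨j, hj, rfl⟩ := hg
  exact ⟨canon_range, fun i hi => by
    rw [pap_range hi, c.ge_comm hj hi, mul_inv_cancel_right]
    exact ⟨hi, rfl⟩⟩

theorem exists_acts {g : G} (hg : g ∈ Subgroup.normalizer (c.E : Set G)) : ∃ p, c.Acts g p := by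
  have h : ∀ i, ∃ j, i < 16 → j < 16 ∧ g * c.ge i * g⁻¹ = c.ge j := fun i => by
    by_cases hi : i < 16
    · obtain ⟨j, hj, e⟩ := (Subgroup.mem_normalizer_iff.1 hg (c.ge i)).1 ⟨i, hi, rfl⟩
      exact ⟨j, fun _ => ⟨hj, e⟩⟩
    · exact ⟨0, fun h => absurd h hi⟩
  choose F hF using h
  exact ⟨(List.range 16).map F, canon_map F, fun i hi => by rw [pap_map hi]; exact hF i hi⟩

theorem acts_normalizer {g : G} {p : List ℕ} (h : c.Acts g p) : g ∈ Subgroup.normalizer (c.E : Set G) := by
  have h1 : c.E.map (MulAut.conj g).toMonoidHom = c.E := by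
    refine Subgroup.eq_of_le_of_card_ge ?_ (Subgroup.card_map_of_injective (MulAut.conj g).injective).ge
    rintro _ ⟨_, ⟨i, hi, rfl⟩, rfl⟩
    exact ⟨_, (h.2 i hi).1, (h.2 i hi).2⟩
  refine Subgroup.mem_normalizer_iff.2 fun x => ?_
  constructor
  · intro hx
    rw [← h1]
    exact ⟨x, hx, rfl⟩
  · intro hx
    rw [← h1] at hx
    obtain ⟨y, hy, e⟩ := hx
    exact (MulAut.conj g).injective e ▸ hy

theorem acts_trivial {g : G} (h : c.Acts g (List.range 16)) : g ∈ c.E := by
  refine c.cent_E' fun i hi => ?_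
  have := (h.2 i hi).2
  rw [pap_range hi, mul_inv_eq_iff_eq_mul] at this
  exact this

theorem acts_hom {g : G} {p : List ℕ} (h : c.Acts g p) {i j : ℕ} (hi : i < 16) (hj : j < 16) :
    pap p (tb eMul i j) = tb eMul (pap p i) (pap p j) := by
  obtain ⟨hi', ei⟩ := h.2 i hi
  obtain ⟨hj', ej⟩ := h.2 j hj
  obtain ⟨hk', ek⟩ := h.2 _ (eMul_lt hi hj)
  refine c.ge_inj hk' (eMul_lt hi' hj') ?_
  rw [← ek, ← c.ge_mul hi hj, ← c.ge_mul hi' hj', ← ei, ← ej]
  group

theorem acts_zero {g : G} {p : List ℕ} (h : c.Acts g p) : pap p 0 = 0 := by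
  obtain ⟨h', e⟩ := h.2 0 (by norm_num)
  refine c.ge_inj h' (by norm_num) ?_
  rw [← e, c.ge_zero, mul_one, mul_inv_cancel]

theorem acts_letter {l : ℕ} (hl : l ∈ ncLet) : c.Acts (c.f (lt l)) (eAct.getD l []) := by
  refine ⟨eAct_canon l (ncLet_lt l hl), fun i hi => ?_⟩
  obtain ⟨h1, h2⟩ := act_letter (ncLet_n l hl) hi
  refine ⟨h1, ?_⟩
  rw [Ctx.ge, Ctx.ge, ← c.f_conj (lt_centP (ncLet_c l hl)) (eE_centP hi), h2]

theorem acts_word {w : List ℕ} (hw : lets ncLet w = true) : c.Acts (c.f (val w)) (actW w) := by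
  refine ⟨canon_actW w, fun i hi => ?_⟩
  obtain ⟨h1, h2⟩ := act_word (lets_mono ncLet_n hw) i hi
  refine ⟨h1, ?_⟩
  rw [Ctx.ge, Ctx.ge, ← c.f_conj (val_centP (lets_mono ncLet_c hw)) (eE_centP hi), h2]

/-- An element of the normaliser fixing the involution acts as a listed map. -/
theorem acts_fix {g : G} {p : List ℕ} (h : c.Acts g p) (h1 : pap p 1 = 1) : p ∈ lamList := by
  have hg : g ∈ Subgroup.centralizer ({c.t} : Set G) := by
    have := (h.2 1 (by norm_num)).2
    rw [h1, c.ge_one, mul_inv_eq_iff_eq_mul] at this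
    exact Subgroup.mem_centralizer_singleton_iff.2 this
  obtain ⟨z, hz, rfl⟩ := c.exists_f hg
  obtain ⟨q, hq, i, hi, rfl⟩ := nc_form hz (by
    rintro _ ⟨j, hj, rfl⟩
    obtain ⟨h2, h3⟩ := h.2 j hj
    exact ⟨_, h2, c.f_inj (mul_mem (mul_mem hz (eE_centP hj)) (inv_mem hz)) (eE_centP h2)
      (by rw [c.f_conj hz (eE_centP hj)]; exact h3)⟩)
  have hw := (lam_word hq).1
  rw [stdE, c.f_mul (val_centP (lets_mono ncLet_c hw)) (eE_centP hi)] at h
  have := c.acts_mul (c.acts_word hw) (c.acts_E (c.mem_E.2 ⟨i, hi, rfl⟩))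
  have e := c.acts_unique h this
  have e2 : pmul (actW (lamWords.getD q [])) (List.range 16) = actW (lamWords.getD q []) :=
    canon_ext (canon_pmul _ _) (canon_actW _) fun j hj => by rw [pap_pmul hj, pap_range hj]
  rw [e, e2, (lam_word hq).2, List.getD_eq_getElem _ _ (by rw [lam_len.1]; exact hq)]
  exact List.getElem_mem _

theorem lam_realized {q : ℕ} (hq : q < 168) : ∃ g, c.Acts g (lamList.getD q []) :=
  ⟨_, (lam_word hq).2 ▸ c.acts_word (lam_word hq).1⟩

end Ctx

theorem span_mem {i : ℕ} (hi : i < 16) :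
    linImg eBasis i = i ∧ ∀ b ∈ eSpan.getD i [], b ∈ eBasis := by
  have h := List.all_eq_true.1 span_ok.1 i (List.mem_range.2 hi)
  simp only [Bool.and_eq_true, beq_iff_eq, List.all_eq_true, List.contains_iff_mem] at h
  exact h

theorem basis_lt {b : ℕ} (hb : b ∈ eBasis) : b < 16 :=
  Nat.le_of_ble_eq_true (List.all_eq_true.1 span_ok.2.2.2 b hb)

/-- A linear map is given by the images of the basis. -/
theorem lin_formula {p : List ℕ} (h0 : pap p 0 = 0)
    (hom : ∀ i < 16, ∀ j < 16, pap p (tb eMul i j) = tb eMul (pap p i) (pap p j)) {i : ℕ} (hi : i < 16) :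
    pap p i = linImg (eBasis.map (pap p)) i := by
  have key : ∀ (l : List ℕ), (∀ b ∈ l, b ∈ eBasis) → ∀ a a', a < 16 → a' = pap p a →
      (l.foldl (fun x b => tb eMul x (eBasis.getD (eBasis.idxOf b) 0)) a < 16 ∧
        l.foldl (fun x b => tb eMul x ((eBasis.map (pap p)).getD (eBasis.idxOf b) 0)) a' =
          pap p (l.foldl (fun x b => tb eMul x (eBasis.getD (eBasis.idxOf b) 0)) a)) := by
    intro l
    induction l with
    | nil => exact fun _ a a' ha ha' => ⟨ha, ha'⟩
    | cons b l ih =>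
      intro hl a a' ha ha'
      have hb := hl b List.mem_cons_self
      have hidx : eBasis.idxOf b < eBasis.length := List.idxOf_lt_length_of_mem hb
      have e1 : eBasis.getD (eBasis.idxOf b) 0 = b := by
        rw [List.getD_eq_getElem _ _ hidx, List.getElem_idxOf]
      have e2 : (eBasis.map (pap p)).getD (eBasis.idxOf b) 0 = pap p b := by
        rw [List.getD_eq_getElem _ _ (by rwa [List.length_map]), List.getElem_map, List.getElem_idxOf]
      simp only [List.foldl_cons, e1, e2]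
      exact ih (fun x hx => hl x (List.mem_cons_of_mem b hx)) _ _ (eMul_lt ha (basis_lt hb))
        (by rw [ha', hom a ha b (basis_lt hb)])
  have h := (key (eSpan.getD i []) (span_mem hi).2 0 0 (by norm_num) h0.symm).2
  have hs := (span_mem hi).1
  simp only [linImg] at hs ⊢
  rw [h, hs]

theorem triple_basis : ∃ b1 b2 b3, eBasis = [1, b1, b2, b3] := by
  obtain ⟨-, h1, h2, -⟩ := span_ok
  match h : eBasis with
  | [] => simp [h] at h1
  | a :: r =>
    match r with
    | [b1, b2, b3] => exact ⟨b1, b2, b3, by simp [h] at h2; subst h2; rfl⟩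
    | [] => simp [h] at h1
    | [_] => simp [h] at h1
    | [_, _] => simp [h] at h1
    | _ :: _ :: _ :: _ :: _ => simp [h] at h1

theorem all_zip {α β : Type*} {l : List α} {m : List β} {P : α × β → Bool} (h : (l.zip m).all P = true) {n : ℕ}
    (hn : n < l.length) (hm : n < m.length) : P (l[n], m[n]) = true :=
  List.all_eq_true.1 h _ (List.mem_iff_getElem.2 ⟨n, by rw [List.length_zip]; omega, List.getElem_zip⟩)

/-- A linear map fixing the involution splits into a representative and a listed map. -/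
theorem aut_split {p : List ℕ} (hc : Canon p) (hlt : ∀ i < 16, pap p i < 16) (h0 : pap p 0 = 0) (h1 : pap p 1 = 1)
    (hinj : ∀ i < 16, ∀ j < 16, pap p i = pap p j → i = j)
    (hom : ∀ i < 16, ∀ j < 16, pap p (tb eMul i j) = tb eMul (pap p i) (pap p j))
    (lamHom : ∀ q < 168, ∀ i < 16, ∀ j < 16, pap (lamList.getD q []) i < 16 ∧
      pap (lamList.getD q []) 0 = 0 ∧ pap (lamList.getD q []) (tb eMul i j) =
        tb eMul (pap (lamList.getD q []) i) (pap (lamList.getD q []) j)) :
    ∃ k < 8, ∃ q < 168, p = pmul (autReps.getD k []) (lamList.getD q []) := by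
  obtain ⟨b1, b2, b3, hb⟩ := triple_basis
  have hmem : ∀ b ∈ eBasis, pap p b < 16 := fun b hb => hlt b (basis_lt hb)
  have hv : eBasis.map (pap p) ∈ indTriples := by
    rw [indTriples, List.mem_filter]
    refine ⟨?_, ?_⟩
    · simp only [List.mem_flatMap, List.mem_map, List.mem_range]
      refine ⟨pap p b1, hmem _ (by simp [hb]), pap p b2, hmem _ (by simp [hb]), pap p b3, hmem _ (by simp [hb]), ?_⟩
      rw [hb]
      simp [h1]
    · rw [beq_iff_eq]
      have hfold : ∀ (l : List ℕ) (s j : ℕ),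
          (l.foldl (fun s i => s ||| (1 <<< linImg (eBasis.map (pap p)) i)) s).testBit j = true ↔
            s.testBit j = true ∨ ∃ i ∈ l, linImg (eBasis.map (pap p)) i = j := by
        intro l
        induction l with
        | nil => simp
        | cons a l ih =>
          intro s j
          rw [List.foldl_cons, ih, Nat.testBit_or, Bool.or_eq_true, Nat.one_shiftLeft, Nat.testBit_two_pow,
            decide_eq_true_eq]
          simp [or_assoc]
      have hsurj : ∀ j < 16, ∃ i < 16, pap p i = j := fun j hj => by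
        obtain ⟨i, hi⟩ := (Finite.injective_iff_surjective (f := fun i : Fin 16 => (⟨pap p i, hlt i i.2⟩ : Fin 16))).1
          (fun a b e => Fin.ext (hinj a a.2 b b.2 (congrArg Fin.val e))) ⟨j, hj⟩
        exact ⟨i, i.2, congrArg Fin.val hi⟩
      refine Nat.eq_of_testBit_eq fun j => Bool.eq_iff_iff.2 ?_
      rw [hfold, show (65535 : ℕ) = 2 ^ 16 - 1 from rfl, Nat.testBit_two_pow_sub_one, decide_eq_true_eq]
      simp only [Nat.zero_testBit, Bool.false_eq_true, false_or, List.mem_range]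
      constructor
      · rintro ⟨i, hi, rfl⟩
        rw [← lin_formula h0 hom hi]
        exact hlt i hi
      · intro hj
        obtain ⟨i, hi, rfl⟩ := hsurj j hj
        exact ⟨i, hi, (lin_formula h0 hom hi).symm⟩
  obtain ⟨n, hn, hn'⟩ := List.getElem_of_mem hv
  have h := aut_ok
  rw [Bool.and_eq_true, beq_iff_eq] at h
  have hn2 : n < autDec.length := h.1 ▸ hn
  have hz := all_zip h.2 hn hn2
  simp only [Bool.and_eq_true, beq_iff_eq] at hz
  obtain ⟨⟨hk, hq⟩, he⟩ := hz
  have hk' := Nat.le_of_ble_eq_true hk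
  have hq' := Nat.le_of_ble_eq_true hq
  refine ⟨_, hk', _, hq', ?_⟩
  set k := autDec[n].1
  set q := autDec[n].2
  have hr := List.all_eq_true.1 reps_ok.1 k (List.mem_range.2 hk')
  have hh := List.all_eq_true.1 reps_hom.1 k (List.mem_range.2 hk')
  simp only [Bool.and_eq_true, beq_iff_eq, List.all_eq_true, List.mem_range] at hr hh
  have hlamlt := fun i hi => (lamHom q hq' i hi i hi).1
  refine canon_ext hc (canon_pmul _ _) fun i hi => ?_
  have hr0 : pap (autReps.getD k []) 0 = 0 := by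
    have h00 := hh 0 (by norm_num) 0 (by norm_num)
    rwa [(eW_ok (i := 0) (by norm_num)).2.1, (eW_ok (Nat.le_of_ble_eq_true (hr.2 0 (by norm_num)).1)).2.1] at h00
  have hcomp0 : pap (pmul (autReps.getD k []) (lamList.getD q [])) 0 = 0 := by
    rw [pap_pmul (by norm_num), (lamHom q hq' 0 (by norm_num) 0 (by norm_num)).2.1, hr0]
  have hcomphom : ∀ i < 16, ∀ j < 16, pap (pmul (autReps.getD k []) (lamList.getD q [])) (tb eMul i j) =
      tb eMul (pap (pmul (autReps.getD k []) (lamList.getD q [])) i)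
        (pap (pmul (autReps.getD k []) (lamList.getD q [])) j) := by
    intro i hi j hj
    rw [pap_pmul hi, pap_pmul hj, pap_pmul (eMul_lt hi hj), (lamHom q hq' i hi j hj).2.2,
      hh _ (hlamlt i hi) _ (hlamlt j hj)]
  rw [lin_formula h0 hom hi, lin_formula hcomp0 hcomphom hi]
  congr 1
  rw [← hn', he]
  refine List.map_congr_left fun b hb => ?_
  rw [pap_pmul (basis_lt hb)]

theorem pap_foldr {G₀ : Type*} [Group G₀] [Finite G₀] (c : Ctx G₀) {gens : List (List ℕ)}
    (hgen : ∀ l < gens.length, ∃ g, c.Acts g (gens.getD l [])) : ∀ {w : List ℕ}, (∀ l ∈ w, l < gens.length) →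
      ∃ g, c.Acts g (w.foldr (fun l p => pmul (gens.getD l []) p) (List.range 16))
  | [], _ => ⟨1, c.acts_one⟩
  | l :: w, h => by
    obtain ⟨g, hg⟩ := hgen l (h l List.mem_cons_self)
    obtain ⟨g', hg'⟩ := pap_foldr c hgen (w := w) fun a ha => h a (List.mem_cons_of_mem l ha)
    exact ⟨g * g', c.acts_mul hg hg'⟩

namespace Ctx

variable {G : Type*} [Group G] [Finite G] (c : Ctx G)

theorem act4_spec : Canon (eAct.getD 4 []) ∧ ∀ i < 16, pap (eAct.getD 4 []) i < 16 :=
  ⟨eAct_canon 4 (by norm_num), fun i hi => (act_letter (show 4 ∈ nLet by decide) hi).1⟩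

/-- The action of the fifth letter is realised in the normaliser. -/
theorem realize_four : ∃ g, c.Acts g (eAct.getD 4 []) := by
  obtain ⟨hc4, hlt4⟩ := act4_spec
  have hinj4 : ∀ i < 16, ∀ j < 16, pap (eAct.getD 4 []) i = pap (eAct.getD 4 []) j → i = j := fun i hi j hj e => by
    have h1 := (act_letter (show 4 ∈ nLet by decide) hi).2
    have h2 := (act_letter (show 4 ∈ nLet by decide) hj).2
    rw [e, ← h2] at h1
    exact eE_inj hi hj (mul_left_cancel (mul_right_cancel h1))
  have hom4 : ∀ i < 16, ∀ j < 16, pap (eAct.getD 4 []) (tb eMul i j) =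
      tb eMul (pap (eAct.getD 4 []) i) (pap (eAct.getD 4 []) j) := fun i hi j hj => by
    obtain ⟨a1, a2⟩ := act_letter (show 4 ∈ nLet by decide) hi
    obtain ⟨b1, b2⟩ := act_letter (show 4 ∈ nLet by decide) hj
    obtain ⟨c1, c2⟩ := act_letter (show 4 ∈ nLet by decide) (eMul_lt hi hj)
    refine eE_inj c1 (eMul_lt a1 b1) ?_
    rw [← c2, ← eE_mul hi hj, ← eE_mul a1 b1, ← a2, ← b2]
    group
  set g4 := eAct.getD 4 [] with hg4
  -- the inverse of `g4`
  have hsq : ∀ i < 16, pap g4 (pap g4 i) = i := by rw [hg4]; decide +kernel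
  set j := pap g4 1 with hj
  obtain ⟨n, hn, hnt⟩ := c.transitive (hlt4 1 (by norm_num)) (by rw [hg4]; decide +kernel)
  obtain ⟨p, hp⟩ := c.exists_acts hn
  have hp1 : pap p 1 = j := c.ge_inj (hp.2 1 (by norm_num)).1 (hlt4 1 (by norm_num)) (by
    rw [← (hp.2 1 (by norm_num)).2, c.ge_one, hnt])
  set σ := pmul g4 p with hσ
  have hσi : ∀ i < 16, pap σ i = pap g4 (pap p i) := fun i hi => pap_pmul hi
  obtain ⟨k, hk, q, hq, e⟩ := aut_split (p := σ) (canon_pmul _ _)
    (fun i hi => by rw [hσi i hi]; exact hlt4 _ (hp.2 i hi).1)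
    (by
      rw [hσi 0 (by norm_num), c.acts_zero hp, hg4]
      decide +kernel)
    (by rw [hσi 1 (by norm_num), hp1, hj, hsq 1 (by norm_num)])
    (fun i hi j hj e => by
      rw [hσi i hi, hσi j hj] at e
      have e' := hinj4 _ (hp.2 i hi).1 _ (hp.2 j hj).1 e
      have h1 := (hp.2 i hi).2
      rw [e', ← (hp.2 j hj).2] at h1
      exact c.ge_inj hi hj (mul_left_cancel (mul_right_cancel h1)))
    (fun i hi j hj => by
      rw [hσi _ (eMul_lt hi hj), hσi i hi, hσi j hj, c.acts_hom hp hi hj, hom4 _ (hp.2 i hi).1 _ (hp.2 j hj).1])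
    (fun q hq i hi j hj => by
      obtain ⟨g, hg⟩ := c.lam_realized hq
      exact ⟨(hg.2 i hi).1, c.acts_zero hg, c.acts_hom hg hi hj⟩)
  -- `g4 * rep` is realised
  obtain ⟨gq, hgq⟩ := c.lam_realized hq
  obtain ⟨pi, hpi⟩ := c.exists_acts (inv_mem (c.acts_normalizer hgq))
  have hinvq : ∀ i < 16, pap (lamList.getD q []) (pap pi i) = i := fun i hi => by
    have h3 := c.acts_unique (by simpa using c.acts_mul hgq hpi) c.acts_one
    have h4 := congrArg (fun r => pap r i) h3
    simpa [pap_pmul hi, pap_range hi] using h4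
  have hgr : c.Acts (n * gq⁻¹) (pmul g4 (autReps.getD k [])) := by
    have h := c.acts_mul hp hpi
    have he : pmul p pi = pmul g4 (autReps.getD k []) := canon_ext (canon_pmul _ _) (canon_pmul _ _) fun i hi => by
      have hi' := (hpi.2 i hi).1
      rw [pap_pmul hi, pap_pmul hi]
      have h5 := hσi _ hi'
      rw [e, pap_pmul hi', hinvq i hi] at h5
      rw [h5, hsq _ (hp.2 _ hi').1]
    exact he ▸ h
  by_cases hk0 : k = 0
  · refine ⟨n * gq⁻¹, ?_⟩
    have he : pmul g4 (autReps.getD k []) = g4 := canon_ext (canon_pmul _ _) hc4 fun i hi => by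
      rw [hk0, reps_ok.2, pap_pmul hi, pap_range hi]
    exact he ▸ hgr
  · exfalso
    have h := List.all_eq_true.1 bad_ok k (List.mem_range'_1.2 ⟨by omega, by omega⟩)
    simp only [Bool.and_eq_true, beq_iff_eq, List.all_eq_true, Bool.not_eq_true'] at h
    obtain ⟨⟨hw, hfix⟩, hnot⟩ := h
    have hlen : (badGens k).length = 6 := by simp [badGens, ncLet]
    obtain ⟨g', hg'⟩ := pap_foldr c (gens := badGens k) (fun l hl => by
      rw [hlen] at hl
      by_cases h5 : l < 5
      · refine ⟨c.f (lt (ncLet.getD l 0)), ?_⟩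
        have e1 : (badGens k).getD l [] = eAct.getD (ncLet.getD l 0) [] := by
          interval_cases l <;> rfl
        rw [e1]
        exact c.acts_letter (by interval_cases l <;> decide)
      · obtain rfl : l = 5 := by omega
        exact ⟨_, show c.Acts _ ((badGens k).getD 5 []) from hgr⟩) (w := badWords.getD (k - 1) [])
      (fun l hl => by rw [hlen]; exact Nat.le_of_ble_eq_true (hw l hl))
    rw [List.contains_iff_mem.2 (c.acts_fix hg' hfix)] at hnot
    exact Bool.noConfusion hnot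

end Ctx

end Cfsg.Lib.McLRecog
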