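import Cfsg.Agent.McLRecog.Rels
import Cfsg.Agent.McLRecog.CertP.Valid
import Cfsg.Agent.McLRecog.CertA.Valid
import Cfsg.Agent.McLRecog.CertV.Valid
import Cfsg.Agent.McLRecog.CertU.Valid

/-!
Seven involutions with the relators generate a group of order at most three times that of the McLaughlin group.
-/

set_option autoImplicit false

namespace Cfsg.Lib.McLRecog

open Cfsg.Lib.CosetCert

theorem rels_mem : (∀ r ∈ CertP.rels, r ∈ relAll) ∧ (∀ r ∈ CertA.rels, r ∈ relAll) ∧ (∀ r ∈ CertV.rels, r ∈ relAll) ∧
    ∀ r ∈ CertU.rels, r ∈ relAll := by decide +kernel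

theorem relAll_small : (relAll.all fun r => r.all fun l => decide (l < 7)) = true := by decide +kernel

variable {H : Type*} [Group H] (im : ℕ → H)

/-- The subgroup on the first `k` letters. -/
def first (k : ℕ) : Subgroup H := Subgroup.closure (im '' Set.Iio k)

theorem step (hall : ∀ r ∈ relAll, wval im r = 1) {C : Cert} {R : List (List ℕ)} (hC : C.Valid R)
    (hR : ∀ r ∈ R, r ∈ relAll) (hng : C.ng ≤ 7) {K : Subgroup H} [Finite K] (hsub : ∀ s ∈ C.subs, im s ∈ K) :
    Finite (first im C.ng) ∧ Nat.card (first im C.ng) ≤ C.m * Nat.card K := by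
  have hsq : ∀ l < 7, im l * im l = 1 := fun l hl => by
    have := hall [l, l] (List.mem_cons_of_mem _ (List.mem_append_left _ (List.mem_append_left _
      (List.mem_append_left _ (List.mem_map.2 ⟨l, List.mem_range.2 hl, rfl⟩)))))
    simpa [wval] using this
  have hs := relAll_small
  simp only [List.all_eq_true, decide_eq_true_eq] at hs
  rw [← fin_length C]
  exact card_le C im hC (fun l hl => hsq l (hl.trans_le hng)) (fun r hr => hall r (hR r hr))
    (fun r hr l hl => hsq l (hs r (hR r hr) l hl)) hsub le_rfl

theorem first_mem {k n : ℕ} (h : n < k) : im n ∈ first im k := Subgroup.subset_closure ⟨n, h, rfl⟩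

/-- The order bound. -/
theorem order_bound (hall : ∀ r ∈ relAll, wval im r = 1) :
    Finite (first im 7) ∧ Nat.card (first im 7) ≤ 3 * 898128000 := by
  obtain ⟨hP1, hP2⟩ := step im hall CertP.valid rels_mem.1 (K := (⊥ : Subgroup H)) (by decide) (by simp [CertP.cert])
  rw [Subgroup.card_bot] at hP2
  haveI : Finite (first im 4) := hP1
  obtain ⟨hA1, hA2⟩ := step im hall CertA.valid rels_mem.2.1 (K := first im 4) (by decide) (fun s hs => by
    simp only [CertA.cert, List.mem_cons, List.not_mem_nil, or_false] at hs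
    exact first_mem im (by omega))
  haveI : Finite (first im 5) := hA1
  obtain ⟨hV1, hV2⟩ := step im hall CertV.valid rels_mem.2.2.1 (K := first im 5) (by decide) (fun s hs => by
    simp only [CertV.cert, List.mem_cons, List.not_mem_nil, or_false] at hs
    exact first_mem im (by omega))
  haveI : Finite (first im 6) := hV1
  obtain ⟨hU1, hU2⟩ := step im hall CertU.valid rels_mem.2.2.2 (K := first im 6) (by decide) (fun s hs => by
    simp only [CertU.cert, List.mem_cons, List.not_mem_nil, or_false] at hs
    exact first_mem im (by omega))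
  simp only [CertP.cert, CertA.cert, CertV.cert, CertU.cert] at hP2 hA2 hV2 hU2 hU1
  refine ⟨hU1, ?_⟩
  calc _ ≤ 275 * Nat.card (first im 6) := hU2
    _ ≤ 275 * (1701 * (15 * 384)) :=
      Nat.mul_le_mul_left _ (hV2.trans (Nat.mul_le_mul_left _ (hA2.trans (Nat.mul_le_mul_left _ (by omega)))))
    _ = 3 * 898128000 := by norm_num

end Cfsg.Lib.McLRecog
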