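import Cfsg.Agent.CosetCert.TabSplit

/-!
Pieces of coset enumeration certificates.
-/

set_option autoImplicit false

namespace Cfsg.Lib.McLRecog

open Cfsg.Lib.CosetCert

/-- A checked piece of the steps of a certificate. -/
def Piece (C : Cert) (n off len : ℕ) (js : List (ℕ × ℕ)) : Prop :=
  C.stepsOK off js = true ∧ ruleBound n js = true ∧ js.length = len

theorem Piece.cat {C : Cert} {n i a b : ℕ} {x y : List (ℕ × ℕ)} (hx : Piece C n i a x) (hy : Piece C n (i + a) b y) :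
    Piece C n i (a + b) (x ++ y) := by
  obtain ⟨h1, h2⟩ := stepsOK_cat ⟨hx.1, hx.2.1⟩ ⟨hy.1, hy.2.1⟩ (by rw [hx.2.2])
  exact ⟨h1, h2, by rw [List.length_append, hx.2.2, hy.2.2]⟩

theorem Piece.valid {C : Cert} {R : List (List ℕ)} {spec : List (ℕ × ℕ × Bool)} {len : ℕ} {js : List (ℕ × ℕ)}
    (hng : C.ng ≤ 15) (hrot : C.rotsOK R spec = true) (h : Piece C spec.length 0 len js)
    (h0 : (decide (0 < C.m) && (C.fn 0 == 0)) = true) (ht : C.tabPart len 0 C.m = true) : C.Valid R :=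
  ⟨hng, spec, js, hrot, h.1, h.2.1, h.2.2 ▸ Cert.tabOK_of_part h0 ht⟩

theorem fin_length (C : Cert) : C.fin.length = C.m := by simp [Cert.fin]

end Cfsg.Lib.McLRecog
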