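import Mathlib

/-!
The relators for the recognition of the McLaughlin group: letters 0 to 3 lie in both local subgroups, 4 only in the
normaliser of the elementary subgroup, 5 only in the centraliser of the involution, 6 in both.
-/

set_option autoImplicit false

namespace Cfsg.Lib.McLRecog

/-- Relators in the centraliser of the involution. -/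
def relC : List (List ℕ) := [
  [1, 2, 1, 2, 1, 2], [0, 1, 0, 1, 0, 1, 0, 1], [0, 1, 3, 1, 0, 3, 1, 3], [0, 2, 0, 2, 0, 2, 0, 2],
  [0, 2, 3, 2, 0, 3, 2, 3], [0, 3, 0, 3, 0, 3, 0, 3], [1, 2, 1, 3, 1, 2, 1, 3], [1, 2, 1, 3, 2, 1, 2, 3],
  [1, 2, 3, 2, 1, 2, 3, 2], [1, 3, 2, 3, 1, 3, 2, 3], [0, 1, 0, 1, 2, 0, 2, 3, 0, 3], [0, 1, 0, 1, 3, 0, 3, 2, 0, 2],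
  [0, 1, 0, 2, 1, 0, 2, 0, 1, 2], [0, 1, 2, 0, 2, 0, 3, 0, 3, 1], [0, 1, 2, 3, 1, 0, 1, 3, 2, 1],
  [0, 1, 2, 3, 1, 0, 2, 1, 3, 2], [0, 1, 2, 3, 2, 1, 0, 3, 2, 3], [0, 2, 1, 3, 1, 2, 0, 3, 1, 3],
  [0, 2, 1, 3, 2, 0, 2, 3, 1, 2], [0, 3, 1, 2, 3, 0, 3, 2, 1, 3], [1, 2, 1, 5, 3, 5], [1, 2, 5, 3, 5, 2],
  [1, 3, 1, 5, 2, 5], [0, 1, 5, 1, 0, 5, 0, 5], [0, 2, 5, 0, 5, 2, 0, 5], [0, 3, 1, 3, 0, 5, 2, 5],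
  [0, 3, 5, 0, 5, 3, 0, 5], [1, 2, 1, 3, 5, 3, 5, 3], [1, 2, 3, 1, 5, 2, 3, 5], [1, 2, 3, 5, 3, 5, 3, 2],
  [1, 2, 5, 2, 3, 5, 2, 3], [1, 2, 5, 2, 5, 2, 1, 3], [1, 3, 1, 3, 5, 1, 5, 3], [0, 1, 0, 5, 2, 0, 3, 0, 2, 5],
  [0, 1, 2, 0, 5, 3, 0, 2, 0, 5], [0, 1, 2, 1, 0, 1, 2, 5, 1, 5], [0, 1, 2, 1, 0, 1, 5, 1, 3, 5],
  [0, 1, 2, 1, 0, 2, 5, 1, 5, 2], [0, 1, 2, 1, 0, 2, 5, 3, 1, 5], [0, 1, 2, 3, 1, 0, 5, 2, 3, 5],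
  [0, 1, 3, 1, 0, 1, 3, 5, 1, 5], [0, 1, 3, 1, 0, 1, 5, 2, 5, 3], [0, 1, 3, 5, 1, 2, 0, 5, 0, 5],
  [0, 1, 5, 1, 0, 3, 0, 5, 0, 3], [0, 1, 5, 1, 5, 0, 5, 1, 5, 1], [1, 3, 2, 3, 2, 5, 2, 3, 5, 3],
  [0, 1, 0, 1, 0, 1, 3, 1, 3, 0, 1, 3], [0, 1, 0, 1, 0, 3, 1, 0, 5, 1, 5, 3], [0, 1, 0, 1, 2, 0, 1, 3, 0, 3, 1, 2],
  [0, 1, 0, 1, 2, 3, 5, 0, 1, 3, 0, 5], [0, 1, 0, 1, 2, 5, 0, 2, 3, 0, 5, 3], [0, 1, 0, 1, 2, 5, 0, 3, 0, 5, 3, 2],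
  [0, 1, 0, 1, 3, 0, 1, 2, 0, 2, 1, 3], [0, 1, 0, 1, 3, 1, 2, 0, 2, 1, 0, 3], [0, 1, 0, 1, 3, 2, 5, 0, 2, 0, 5, 3],
  [0, 1, 0, 1, 3, 5, 0, 1, 3, 2, 0, 5], [5, 6, 5, 6, 5, 6], [1, 3, 2, 6, 2, 6, 3], [0, 1, 5, 1, 5, 6, 0, 6],
  [0, 2, 6, 2, 0, 2, 6, 2], [0, 5, 0, 5, 6, 0, 6, 5], [0, 5, 1, 5, 1, 6, 0, 6], [0, 6, 0, 6, 0, 6, 0, 6],
  [1, 2, 6, 2, 1, 6, 3, 6], [1, 3, 1, 6, 1, 3, 1, 6], [1, 3, 1, 6, 5, 2, 5, 6], [1, 3, 6, 3, 1, 3, 6, 3],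
  [1, 6, 1, 6, 1, 6, 1, 6], [2, 3, 2, 5, 3, 2, 3, 5], [2, 5, 6, 5, 2, 5, 6, 5], [2, 5, 6, 5, 2, 6, 5, 6],
  [2, 6, 5, 6, 2, 6, 5, 6], [3, 6, 3, 6, 3, 6, 3, 6], [0, 1, 0, 1, 6, 3, 0, 3, 6], [0, 1, 3, 1, 0, 2, 6, 2, 6],
  [0, 1, 3, 1, 2, 6, 2, 0, 6], [0, 1, 3, 6, 3, 6, 1, 0, 6], [0, 1, 6, 1, 3, 6, 3, 0, 6], [0, 2, 1, 3, 1, 6, 2, 0, 6],
  [0, 2, 5, 2, 5, 6, 2, 0, 6], [0, 2, 6, 2, 0, 3, 1, 3, 6], [0, 2, 6, 2, 5, 2, 5, 0, 6], [0, 2, 6, 2, 6, 0, 5, 2, 5],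
  [0, 3, 1, 6, 1, 6, 3, 0, 6], [1, 2, 3, 1, 2, 3, 6, 2, 6], [1, 2, 5, 6, 1, 6, 3, 6, 5], [1, 2, 5, 6, 2, 6, 1, 5, 3],
  [1, 2, 6, 2, 6, 5, 1, 5, 3], [1, 3, 1, 3, 6, 1, 6, 3, 6], [1, 3, 5, 3, 1, 5, 6, 2, 6], [1, 3, 6, 3, 6, 5, 1, 5, 6],
  [1, 5, 2, 5, 3, 2, 6, 2, 6], [1, 5, 3, 6, 3, 6, 1, 6, 5], [1, 6, 3, 5, 2, 5, 6, 3, 6], [2, 3, 5, 6, 2, 6, 3, 2, 5],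
  [0, 1, 0, 6, 0, 6, 1, 6, 0, 6], [0, 1, 0, 6, 1, 3, 0, 6, 3, 6], [0, 1, 2, 1, 6, 0, 6, 1, 2, 1],
  [0, 1, 2, 5, 3, 0, 5, 2, 0, 5], [0, 1, 3, 0, 6, 3, 0, 6, 1, 6], [0, 1, 3, 1, 0, 1, 5, 1, 2, 5],
  [0, 1, 3, 1, 0, 6, 3, 1, 3, 6], [0, 1, 3, 1, 3, 1, 3, 6, 0, 6], [0, 1, 3, 1, 6, 0, 6, 1, 3, 1],
  [0, 1, 3, 1, 6, 3, 1, 3, 0, 6], [0, 1, 5, 1, 0, 2, 0, 5, 0, 2], [0, 1, 5, 1, 6, 5, 6, 5, 0, 6],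
  [0, 1, 5, 2, 0, 5, 3, 0, 2, 5], [0, 1, 6, 0, 3, 0, 6, 3, 1, 6], [0, 1, 6, 3, 2, 6, 2, 3, 0, 6],
  [0, 2, 0, 2, 0, 6, 2, 0, 2, 6], [0, 2, 0, 5, 0, 2, 6, 0, 6, 5], [0, 2, 0, 6, 0, 6, 2, 6, 0, 6],
  [0, 2, 1, 2, 0, 2, 5, 1, 5, 2], [0, 2, 3, 0, 5, 0, 3, 2, 0, 5], [0, 3, 0, 5, 0, 3, 6, 0, 6, 5],
  [0, 3, 0, 6, 0, 6, 3, 6, 0, 6], [0, 3, 1, 3, 0, 3, 5, 1, 5, 3], [0, 3, 1, 3, 6, 0, 6, 3, 1, 3],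
  [0, 3, 1, 3, 6, 5, 2, 5, 0, 6], [0, 3, 1, 5, 1, 5, 3, 6, 0, 6], [0, 3, 2, 3, 0, 5, 3, 2, 3, 5],
  [0, 5, 0, 5, 0, 5, 1, 5, 1, 5], [0, 5, 0, 5, 6, 0, 5, 6, 5, 6], [0, 5, 0, 6, 0, 5, 6, 5, 0, 6],
  [1, 2, 1, 2, 6, 3, 6, 1, 2, 6], [1, 2, 6, 2, 3, 6, 3, 1, 6, 3], [1, 6, 2, 3, 2, 3, 6, 2, 3, 6],
  [0, 1, 0, 2, 6, 2, 1, 6, 0, 3, 6]]

/-- Relators in the normaliser of the elementary subgroup. -/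
def relN : List (List ℕ) := [
  [1, 4, 1, 4, 1, 4], [3, 4, 3, 4, 3, 4], [0, 3, 0, 3, 4, 0, 4], [0, 1, 3, 4, 0, 1, 3, 4],
  [0, 1, 0, 3, 0, 4, 1, 3, 4], [1, 2, 4, 1, 2, 4, 1, 2, 4], [0, 1, 3, 4, 3, 1, 3, 0, 1, 4], [0, 3, 4, 3, 0, 3, 4, 3],
  [0, 3, 4, 3, 0, 4, 3, 4], [0, 1, 2, 0, 2, 4, 0, 4, 1], [0, 2, 1, 4, 3, 1, 4, 3, 2], [0, 1, 0, 4, 1, 0, 4, 0, 1, 4],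
  [0, 1, 3, 4, 0, 1, 4, 3, 4, 3], [0, 1, 4, 0, 1, 4, 3, 4, 1, 3], [0, 1, 4, 0, 3, 0, 1, 4, 0, 3],
  [0, 1, 4, 0, 3, 4, 3, 1, 3, 4], [1, 3, 1, 3, 4, 1, 3, 1, 3, 4], [2, 4, 2, 4, 2, 4, 2, 4, 2, 4],
  [0, 1, 0, 1, 3, 0, 4, 1, 3, 4, 1], [0, 1, 0, 1, 3, 1, 4, 0, 4, 1, 3], [0, 1, 0, 1, 4, 1, 3, 0, 3, 1, 4],
  [0, 1, 0, 1, 4, 2, 3, 0, 3, 2, 4], [0, 1, 2, 0, 1, 2, 4, 0, 4, 1, 2], [0, 1, 2, 0, 2, 4, 0, 1, 4, 1, 4],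
  [0, 1, 2, 1, 2, 4, 3, 1, 4, 3, 2], [0, 1, 2, 3, 0, 3, 2, 1, 4, 0, 4], [0, 1, 3, 0, 1, 3, 1, 4, 0, 4, 3],
  [0, 1, 3, 0, 2, 4, 0, 4, 2, 3, 1], [0, 1, 3, 1, 2, 3, 4, 3, 1, 4, 2], [0, 1, 3, 1, 2, 4, 3, 1, 4, 1, 2],
  [0, 1, 3, 1, 2, 4, 3, 4, 1, 4, 2], [0, 1, 3, 4, 3, 0, 1, 4, 1, 0, 3], [0, 1, 4, 0, 1, 4, 2, 0, 2, 1, 4],
  [0, 1, 4, 0, 2, 0, 2, 3, 1, 4, 3], [0, 1, 4, 0, 3, 1, 2, 0, 2, 4, 3], [0, 1, 4, 2, 0, 2, 0, 3, 1, 4, 3],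
  [0, 1, 4, 3, 1, 4, 3, 0, 2, 0, 2], [0, 2, 0, 2, 3, 2, 4, 0, 4, 2, 3], [0, 2, 1, 3, 0, 3, 1, 2, 4, 0, 4],
  [0, 2, 1, 3, 1, 3, 4, 3, 1, 4, 2], [0, 2, 1, 3, 1, 4, 3, 4, 1, 4, 2], [0, 2, 1, 4, 3, 1, 3, 4, 3, 4, 2],
  [0, 2, 3, 0, 2, 3, 2, 4, 0, 4, 3], [0, 2, 3, 4, 1, 3, 1, 4, 1, 4, 2], [0, 2, 4, 1, 3, 1, 3, 1, 3, 4, 2],
  [0, 2, 4, 1, 3, 4, 1, 2, 3, 2, 3], [0, 2, 4, 1, 3, 4, 2, 3, 2, 1, 3], [0, 2, 4, 2, 3, 2, 3, 2, 3, 4, 2],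
  [0, 2, 4, 3, 1, 4, 2, 3, 1, 2, 3], [0, 2, 4, 3, 4, 1, 4, 2, 3, 1, 3], [1, 2, 1, 2, 4, 2, 1, 4, 2, 1, 4],
  [1, 2, 1, 4, 1, 4, 2, 4, 1, 2, 4], [0, 1, 0, 1, 2, 4, 2, 0, 2, 0, 4, 2], [0, 1, 4, 6, 0, 6, 4, 1],
  [0, 3, 6, 3, 0, 4, 6, 4], [1, 3, 4, 1, 6, 3, 4, 6], [1, 3, 6, 4, 1, 3, 6, 4], [4, 6, 4, 6, 4, 6, 4, 6],
  [0, 1, 4, 0, 6, 4, 6, 1, 6], [0, 1, 6, 1, 0, 4, 6, 4, 6], [0, 2, 3, 4, 6, 4, 3, 6, 2], [0, 2, 4, 0, 6, 0, 6, 4, 2],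
  [0, 3, 4, 0, 6, 4, 0, 3, 6], [0, 4, 1, 6, 1, 6, 4, 0, 6], [1, 3, 6, 4, 3, 2, 6, 2, 4], [1, 4, 6, 1, 4, 6, 1, 4, 6],
  [0, 1, 0, 1, 6, 0, 4, 0, 4, 6], [0, 1, 0, 1, 6, 4, 0, 4, 0, 6], [0, 1, 2, 6, 4, 0, 4, 6, 2, 1],
  [0, 1, 3, 4, 0, 6, 4, 3, 6, 1], [0, 1, 4, 1, 6, 1, 0, 4, 1, 6], [0, 1, 4, 6, 0, 3, 1, 4, 6, 3],
  [0, 2, 1, 6, 1, 4, 6, 4, 6, 2], [0, 2, 1, 6, 1, 6, 4, 6, 4, 2], [0, 2, 3, 4, 3, 1, 4, 6, 2, 6],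
  [0, 2, 3, 4, 6, 4, 1, 3, 2, 6], [0, 2, 4, 3, 1, 4, 1, 6, 2, 6], [0, 2, 4, 6, 4, 1, 6, 1, 6, 2],
  [0, 2, 6, 3, 4, 3, 1, 4, 2, 6], [0, 2, 6, 4, 3, 1, 4, 1, 2, 6], [0, 2, 6, 4, 3, 4, 1, 4, 2, 6],
  [1, 2, 6, 2, 4, 3, 1, 6, 4, 6], [1, 3, 4, 1, 3, 6, 4, 3, 6, 3], [2, 3, 4, 2, 6, 2, 3, 4, 2, 6],
  [0, 1, 0, 1, 2, 0, 2, 0, 4, 0, 4], [0, 1, 0, 1, 3, 6, 0, 3, 4, 6, 4]]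

/-- The relator from the centraliser of an element of order three. -/
def relThree : List ℕ := [2, 0, 2, 5, 1, 4, 2, 0, 2, 5, 4, 1, 5, 2, 0, 2, 1, 4, 5, 2, 0, 2, 4, 1]

/-- All relators that are used. -/
def relAll : List (List ℕ) :=
  [] :: ((List.range 7).map fun l => [l, l]) ++ relC ++ relN ++ [relThree]

end Cfsg.Lib.McLRecog
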