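import Cfsg.Agent.McLRecog.Data
import Cfsg.Agent.McLRecog.Rels
import Cfsg.Agent.McLModel.InvChecks

/-!
Kernel checks on seven involutions of the McLaughlin group.
-/

set_option autoImplicit false
set_option maxRecDepth 20000
set_option maxHeartbeats 1000000

namespace Cfsg.Lib.McLRecog

open Cfsg.Lib.CosetCert Cfsg.Lib.PermCert Cfsg.Lib.CosetCert.OutCert

/-- The base points. -/
def bases : List ℕ := [5, 62, 25, 0, 1]

/-- The signature of a word. -/
def key (w : List ℕ) : List ℕ := bases.map (evalW letTabs w)

/-- The signature of a word in the involutions of the model. -/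
def keyLow (w : List ℕ) : List ℕ := bases.map (evalW McLModel.data.xTabs w)

/-- All letters are among the seven. -/
def inL (w : List ℕ) : Bool := w.all fun l => Nat.blt l 7

/-- The letters of the centraliser. -/
def cLet : List ℕ := [0, 1, 2, 3, 5, 6]
/-- The letters of the normaliser. -/
def nLet : List ℕ := [0, 1, 2, 3, 4, 6]
/-- The common letters. -/
def ncLet : List ℕ := [0, 1, 2, 3, 6]

/-- Letters from a list. -/
def lets (S w : List ℕ) : Bool := w.all fun l => S.contains l

/-- Two words give the same element. -/
def eqW (w v : List ℕ) : Bool := inL w && inL v && key w == key v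

/-- Two words give commuting elements. -/
def comW (w v : List ℕ) : Bool := eqW (w ++ v) (v ++ w)

/-- A conjugate, as a word. -/
def cjW (v w : List ℕ) : List ℕ := v ++ w ++ v.reverse

/-- An element of the elementary subgroup. -/
def eW (i : ℕ) : List ℕ := eWords.getD i []
/-- The involution. -/
def tW : List ℕ := eW 1
/-- An element of the Sylow subgroup. -/
def sW (i : ℕ) : List ℕ := sWords.getD i []
/-- A generator of the Sylow subgroup. -/
def sG (k : ℕ) : ℕ := sGens.getD k 0
/-- A non-central involution. -/
def clsW (i : ℕ) : List ℕ := cjW (clsWords.getD i []) (eW 2)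
/-- A conjugate of the element of order three. -/
def ycW (i : ℕ) : List ℕ := cjW (yClass.getD i []) yWord
/-- An element of the centraliser of the element of order three. -/
def cyW (i : ℕ) : List ℕ := cyWords.getD i []
/-- An element of the subgroup of order nine. -/
def pW (i : ℕ) : List ℕ :=
  (List.replicate (i / 3) yWord).flatten ++ (List.replicate (i % 3) xWord).flatten
/-- An element of a Sylow 3-subgroup of the complement. -/
def kW (i : ℕ) : List ℕ :=
  (List.replicate (i / 3) pKWord).flatten ++ (List.replicate (i % 3) qKWord).flatten
/-- An entry of a table. -/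
def tb (T : List (List ℕ)) (i j : ℕ) : ℕ := (T.getD i []).getD j 0
/-- The image of a point under a listed permutation. -/
def pap (p : List ℕ) (i : ℕ) : ℕ := p.getD i 0
/-- The composite of listed permutations. -/
def pmul (p q : List ℕ) : List ℕ := (List.range 16).map fun i => pap p (pap q i)

theorem tabs_ok : ((List.range 7).all fun l => valid 275 (letTabs.getD l (0, 0)) &&
    Data.isLow (lowWords.getD l []) &&
    (List.range 275).all fun x => evalW letTabs [l] x == evalW McLModel.data.xTabs (lowWords.getD l []) x) = true ∧
    letTabs.length = 7 := by decide +kernel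

theorem sq_ok : ((List.range 7).all fun l => eqW [l, l] []) = true := by decide +kernel

theorem t_ok : (key tW == keyLow [0] && lets ncLet tW && cLet.all fun l => comW [l] tW) = true := by decide +kernel

theorem cent_ok : ((List.range 11).all fun k =>
    lets cLet (centWords.getD k []) && key (centWords.getD k []) == keyLow (McLModel.Inv.centGens.getD k [])) = true := by
  decide +kernel

theorem e_ok : ((List.range 16).all fun i => lets ncLet (eW i) && (tb eMul i i == 0) &&
    (List.range 16).all fun j => Nat.blt (tb eMul i j) 16 && eqW (eW i ++ eW j) (eW (tb eMul i j)) &&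
      (tb eMul i j == tb eMul j i) && ((i == j) || key (eW i) != key (eW j))) = true ∧ eW 0 = [] := by
  decide +kernel

theorem act_ok : (nLet.all fun l => (List.range 16).all fun i =>
    Nat.blt (tb eAct l i) 16 && eqW (cjW [l] (eW i)) (eW (tb eAct l i))) = true := by decide +kernel

/-- The keys of an image of the elementary subgroup. -/
def orbKeys (i : ℕ) : List (List ℕ) := (List.range 16).map fun e => key (cjW (orbWords.getD i []) (eW e))

theorem orb_ok : ((List.range 15).all fun i => lets cLet (orbWords.getD i []) &&
    cLet.all fun l => Nat.blt (tb orbStep i l) 15 &&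
      let ks := orbKeys (tb orbStep i l)
      (List.range 16).all fun e => ks.contains (key (cjW ([l] ++ orbWords.getD i []) (eW e)))) = true ∧
    orbWords.getD 0 [] = [] := by decide +kernel

theorem orbSep_ok : ((List.range 15).all fun i =>
    let ks := orbKeys i
    (List.range 15).all fun j => (j == i) ||
      (Nat.blt (tb orbSep j i) 16 && !ks.contains (key (cjW (orbWords.getD j []) (eW (tb orbSep j i)))))) = true := by
  decide +kernel

theorem lam_ok : (lamList.length == 168 && (lamList.getD 0 [] == List.range 16) &&
    (List.range 168).all fun p => lets ncLet (lamWords.getD p []) &&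
      ((lamWords.getD p []).foldr (fun l q => pmul (eAct.getD l []) q) (List.range 16) == lamList.getD p []) &&
      (List.range 5).all fun k => Nat.blt (tb lamStep p k) 168 &&
        (pmul (eAct.getD (ncLet.getD k 0) []) (lamList.getD p []) == lamList.getD (tb lamStep p k) [])) = true := by
  decide +kernel

theorem lam_nodup : lamList.Nodup := by decide +kernel

/-- The image of a point under the linear map with given images of the basis. -/
def linImg (v : List ℕ) (i : ℕ) : ℕ := (eSpan.getD i []).foldl (fun a b => tb eMul a (v.getD (eBasis.idxOf b) 0)) 0

theorem span_ok : ((List.range 16).all fun i => linImg eBasis i == i && (eSpan.getD i []).all eBasis.contains) = true ∧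
    eBasis.length = 4 ∧ eBasis.head? = some 1 ∧ (eBasis.all fun b => Nat.blt b 16) = true := by decide +kernel

/-- The candidates for the images of the basis. -/
def indTriples : List (List ℕ) :=
  (((List.range 16).flatMap fun i => (List.range 16).flatMap fun j => (List.range 16).map fun k => [1, i, j, k]).filter
    fun v => (List.range 16).foldl (fun s i => s ||| (1 <<< linImg v i)) 0 == 65535)

theorem aut_ok : (indTriples.length == autDec.length && (indTriples.zip autDec).all fun q =>
    Nat.blt q.2.1 8 && Nat.blt q.2.2 168 &&
      (q.1 == eBasis.map fun b => pap (autReps.getD q.2.1 []) (pap (lamList.getD q.2.2 []) b))) = true := by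
  decide +kernel

theorem reps_ok : ((List.range 8).all fun k => (pap (autReps.getD k []) 1 == 1) &&
    ((autReps.getD k []).length == 16) && (List.range 16).all fun i => Nat.blt (pap (autReps.getD k []) i) 16 &&
      (pap (autReps.getD k []) i == linImg (eBasis.map (pap (autReps.getD k []))) i)) = true ∧
    autReps.getD 0 [] = List.range 16 := by decide +kernel

/-- The generators for a candidate. -/
def badGens (k : ℕ) : List (List ℕ) :=
  (ncLet.map fun l => eAct.getD l []) ++ [pmul (eAct.getD 4 []) (autReps.getD k [])]

theorem bad_ok : ((List.range' 1 7).all fun k =>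
    let q := (badWords.getD (k - 1) []).foldr (fun l p => pmul ((badGens k).getD l []) p) (List.range 16)
    ((badWords.getD (k - 1) []).all fun l => Nat.blt l 6) && (pap q 1 == 1) && !lamList.contains q) = true := by
  decide +kernel

/-- The points reached from the involution in a number of steps. -/
def reach : ℕ → List ℕ
  | 0 => [1]
  | k + 1 => ((reach k) ++ nLet.flatMap fun l => (reach k).map (tb eAct l)).dedup

theorem reach_ok : ((List.range' 1 15).all fun i => (reach 6).contains i) = true := by decide +kernel

theorem compl_ok : (lets ncLet laWord && lets ncLet lbWord &&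
    eqW (laWord ++ laWord) [] && eqW (lbWord ++ lbWord ++ lbWord) [] &&
    eqW (List.replicate 7 (laWord ++ lbWord)).flatten [] &&
    (List.range 16).all fun i => (List.range 16).all fun j =>
      let a := eW i ++ laWord
      let b := eW j ++ lbWord
      !(eqW (a ++ a) [] && eqW (b ++ b ++ b) [] && eqW (List.replicate 7 (a ++ b)).flatten []) ||
        complFix.any fun q => match q with
          | (i', j', e) => i' == i && j' == j && Nat.blt e 16 &&
              eqW (cjW (eW e) laWord) a && eqW (cjW (eW e) lbWord) b) = true := by decide +kernel

/-- The letters of a decomposition. -/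
def splitW (k : ℕ) : List ℕ :=
  eW (lSplit.getD k (0, [])).1 ++ (lSplit.getD k (0, [])).2.flatMap fun c => [laWord, lbWord, lbWord.reverse].getD c []

theorem split_ok : ((List.range 5).all fun k => Nat.blt (lSplit.getD k (0, [])).1 16 &&
    ((lSplit.getD k (0, [])).2.all fun c => Nat.blt c 3) && eqW [ncLet.getD k 0] (splitW k)) = true := by
  decide +kernel

theorem s_ok : ((List.range 128).all fun i => lets cLet (sW i) &&
    (List.range sGens.length).all fun k => Nat.blt (sG k) 128 && Nat.blt (tb sStep i k) 128 &&
      eqW (sW i ++ sW (sG k)) (sW (tb sStep i k))) = true ∧ sW 0 = [] ∧ eqW (sW 1) tW = true := by decide +kernel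

theorem s_tree : ((List.range' 1 127).all fun i =>
    Nat.blt (sPar.getD i (0, 0)).2 sGens.length &&
      (tb sStep (sPar.getD i (0, 0)).1 (sPar.getD i (0, 0)).2 == i) && Nat.blt (sPar.getD i (0, 0)).1 128) = true := by
  decide +kernel

theorem s_depth : ((List.range' 1 127).all fun i =>
    ((List.range 128).foldl (fun j _ => if j = 0 then 0 else (sPar.getD j (0, 0)).1) i) == 0) = true := by
  decide +kernel

theorem s_nodup : ((List.range 128).map fun i => key (sW i)).Nodup := by decide +kernel

theorem s_center : ((List.range' 2 126).all fun i => (List.range sGens.length).any fun k =>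
    !comW (sW i) (sW (sG k))) = true := by decide +kernel

/-- The two elementary subgroups in the Sylow subgroup. -/
def eSets : List (List ℕ) := [sE, sOther]

theorem sE_ok : ((List.range 16).all fun i => Nat.blt (sE.getD i 128) 128 && Nat.blt (sOther.getD i 128) 128 &&
    eqW (sW (sE.getD i 128)) (eW i)) = true ∧ sE.length = 16 ∧ sOther.length = 16 ∧ sOther.Nodup ∧
    sOther.contains 0 = true ∧ sOther.contains 1 = true := by decide +kernel

theorem s_norm : (eSets.all fun A =>
    let ks := A.map fun a => key (sW a)
    (List.range sGens.length).all fun k => A.all fun a => ks.contains (key (cjW (sW (sG k)) (sW a)))) = true := by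
  decide +kernel

theorem other_ok : (let ks := sOther.map fun a => key (sW a)
    sOther.all fun a => sOther.all fun b => comW (sW a) (sW b) && ks.contains (key (sW a ++ sW b))) = true := by
  decide +kernel

theorem other_sep : ((List.range 15).all fun i =>
    let ks := orbKeys i
    sOther.any fun a => !ks.contains (key (sW a))) = true := by decide +kernel

/-- The involutions of the Sylow subgroup, and the identity. -/
def sSquare : List ℕ := (List.range 128).filter fun i => eqW (sW i ++ sW i) []

theorem sSquare_ok : (sSquare.all fun i => Nat.blt i 2 || sInv.any fun q =>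
    q.1 == i && Nat.blt q.2 210 && eqW (sW i) (clsW q.2)) = true := by decide +kernel

theorem pairs_ok : (sSquare.all fun x => Nat.blt x 2 || sSquare.all fun y =>
    Nat.blt y 2 || x == y || eqW (sW x ++ sW y) tW || !comW (sW x) (sW y) ||
      Nat.blt (sSquare.countP fun z => comW (sW x) (sW z) && comW (sW y) (sW z)) 16 ||
      eSets.any fun A => A.contains x && A.contains y) = true := by decide +kernel

theorem cls_ok : ((List.range 210).all fun i => lets cLet (clsWords.getD i []) &&
    key (clsW i) != key tW && cLet.all fun l => Nat.blt (tb clsStep i l) 210 &&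
      eqW (cjW [l] (clsW i)) (clsW (tb clsStep i l))) = true ∧ eqW (clsW clsStart) (eW 2) = true := by decide +kernel

/-- The code of a signature. -/
def code (k : List ℕ) : ℕ := k.foldl (fun c v => 275 * c + v) 0

theorem yClass_words : ((List.range 1120).all fun i => lets cLet (yClass.getD i [])) = true := by decide +kernel

/-- A strictly increasing list. -/
def incr : List ℕ → Bool
  | [] => true
  | a :: r => (match r with
    | [] => true
    | b :: _ => Nat.blt a b) && incr r

/-- The codes of the conjugates. -/
def ycCodes : List ℕ := (List.range 1120).map fun i => code (key (ycW i))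

theorem yClass_sorted : incr ycCodes = true := by decide +kernel

theorem cy_ok : ((List.range 36).all fun i => lets cLet (cyW i) && comW (cyW i) yWord) = true ∧
    ((List.range 36).map fun i => key (cyW i)).Nodup := by decide +kernel

theorem cy_odd : ((List.range 36).all fun i => (List.range 9).any (fun j => eqW (cyW i) (pW j)) ||
    !eqW (List.replicate 9 (cyW i)).flatten []) = true := by decide +kernel

theorem cy_cent : ((List.range 36).all fun i => !comW (cyW i) xWord ||
    (List.range 9).any fun j => eqW (cyW i) (pW j) || eqW (cyW i) (pW j ++ tW)) = true := by decide +kernel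

theorem p_ok : (lets ncLet yWord && lets cLet xWord && comW yWord xWord && eqW (yWord ++ yWord ++ yWord) [] &&
    eqW (xWord ++ xWord ++ xWord) [] && eqW (cjW (eW wIdx) xWord) xWord.reverse && comW (eW wIdx) yWord &&
    Nat.blt wIdx 16 && Nat.blt 1 wIdx) = true ∧ ((List.range 9).map fun i => key (pW i)).Nodup := by decide +kernel

theorem k_ok : (lets nLet kWord && comW kWord yWord && eqW (kWord ++ kWord ++ kWord) [] &&
    eqW (cjW kWord tW) (eW wIdx) && eqW (cjW kWord (eW wIdx)) (tW ++ eW wIdx)) = true := by decide +kernel

/-- A four-group centralising an element. -/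
def fourOK (S w : List ℕ) (q : List (List ℕ)) : Bool :=
  (q.length == 2) && q.all (fun u => lets S u && eqW (u ++ u) [] && key u != key [] && comW u w) &&
    comW (q.getD 0 []) (q.getD 1 []) && key (q.getD 0 []) != key (q.getD 1 [])

theorem pFour_ok : ([1, 2, 3, 6].all fun i => fourOK cLet (pW i) (pFour.getD i [])) = true := by decide +kernel

theorem p_single : ([4, 5, 7, 8].all fun i => (List.range 210).all fun j => !comW (pW i) (clsW j)) = true := by
  decide +kernel

theorem kFour_ok : (lets nLet pKWord && lets nLet qKWord && comW pKWord qKWord &&
    eqW (pKWord ++ pKWord ++ pKWord) [] && eqW (qKWord ++ qKWord ++ qKWord) [] &&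
    (List.range' 1 8).all fun i => fourOK nLet (kW i) (kFour.getD i [])) = true ∧
    ((List.range 9).map fun i => key (kW i)).Nodup := by decide +kernel

theorem relC_ok : (relC.all fun w => lets cLet w && eqW w []) = true := by decide +kernel

theorem relN_ok : (relN.all fun w => lets nLet w && eqW w []) = true := by decide +kernel

theorem relThree_eq : relThree = xWord ++ cjW kWord xWord ++ xWord.reverse ++ cjW kWord xWord.reverse := by
  decide +kernel

end Cfsg.Lib.McLRecog
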