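import Cfsg.Agent.McLRecog.Checks

/-!
Further kernel checks.
-/

set_option autoImplicit false
set_option maxRecDepth 20000

namespace Cfsg.Lib.McLRecog

/-- A complement of the elementary subgroup in the Sylow subgroup. -/
def sCompl : List ℕ := [0, 3, 13, 22, 26, 35, 43, 45]

theorem sCompl_ok : (let ks := sCompl.map fun a => key (sW a)
    sCompl.all fun a => Nat.blt a 128 && sCompl.all fun b => ks.contains (key (sW a ++ sW b))) = true ∧
    sCompl.length = 8 ∧ sCompl.Nodup ∧ (sCompl.all fun a => a == 0 || !sE.contains a) = true ∧
    sCompl.contains 0 = true := by decide +kernel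

theorem reps_hom : ((List.range 8).all fun k => (List.range 16).all fun i => (List.range 16).all fun j =>
    pap (autReps.getD k []) (tb eMul i j) == tb eMul (pap (autReps.getD k []) i) (pap (autReps.getD k []) j)) = true ∧
    (pap (autReps.getD 0 []) 1 == 1) = true := by decide +kernel

end Cfsg.Lib.McLRecog
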