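import Cfsg.Agent.McLRecog.Stab
import Cfsg.Agent.InvolCalc.StronglyEmbedded

/-!
A group with an involution whose centraliser is a copy of that of the model: fusion of involutions and the normaliser
of the elementary subgroup.
-/

set_option autoImplicit false
set_option maxRecDepth 20000
set_option linter.style.haveILetI false

namespace Cfsg.Lib.McLRecog

open Cfsg Cfsg.Lib.CosetCert Cfsg.Lib.CosetCert.OutCert
open Cfsg.Lib.McLModel (data valid_data grp_eq)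
open Cfsg.Lib.McLModel.Inv

/-- The setting: a copy of the centraliser, and an involution that is not isolated. -/
structure Ctx (G : Type*) [Group G] [Finite G] where
  /-- The involution. -/
  t : G
  /-- The copy. -/
  ι : centP →* G
  inj : Function.Injective ι
  range : ι.range = Subgroup.centralizer ({t} : Set G)
  map_t : ι tC = t
  noniso : ∃ g, Commute t (g * t * g⁻¹) ∧ g * t * g⁻¹ ≠ t

/-- A Sylow subgroup of a subgroup absorbs every subgroup of prime power order. -/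
theorem conj_into {G : Type*} [Group G] [Finite G] {p : ℕ} [Fact p.Prime] {H P Q : Subgroup G} (hP : P ≤ H)
    (hPp : IsPGroup p P) (hmax : ∀ Y : Subgroup G, IsPGroup p Y → P ≤ Y → Y ≤ H → Y = P)
    (hQ : Q ≤ H) (hQp : IsPGroup p Q) : ∃ c ∈ H, ∀ q ∈ Q, c * q * c⁻¹ ∈ P := by
  obtain ⟨S, hS⟩ := (hPp.of_equiv (Subgroup.subgroupOfEquivOfLe hP).symm).exists_le_sylow
  have hSP : (S : Subgroup H).map H.subtype = P := hmax _ (S.isPGroup'.map _)
    (fun x hx => ⟨⟨x, hP hx⟩, hS hx, rfl⟩) (Subgroup.map_subtype_le _)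
  obtain ⟨R, hR⟩ := (hQp.of_equiv (Subgroup.subgroupOfEquivOfLe hQ).symm).exists_le_sylow
  obtain ⟨c, hc⟩ := MulAction.exists_smul_eq H R S
  refine ⟨c, c.2, fun q hq => ?_⟩
  rw [← hSP, ← hc, Sylow.coe_subgroup_smul]
  exact ⟨c * ⟨q, hQ hq⟩ * c⁻¹, ⟨⟨q, hQ hq⟩, hR hq, rfl⟩, rfl⟩

open Classical in
/-- The copy as a total function. -/
noncomputable def Ctx.f {G : Type*} [Group G] [Finite G] (c : Ctx G) (z : Pm) : G :=
  if h : z ∈ centP then c.ι ⟨z, h⟩ else 1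

namespace Ctx

variable {G : Type*} [Group G] [Finite G] (c : Ctx G)

theorem f_def {z : Pm} (h : z ∈ centP) : c.f z = c.ι ⟨z, h⟩ := dif_pos h

theorem f_mul {a b : Pm} (ha : a ∈ centP) (hb : b ∈ centP) : c.f (a * b) = c.f a * c.f b := by
  rw [c.f_def ha, c.f_def hb, c.f_def (mul_mem ha hb), ← map_mul]
  rfl

theorem f_one : c.f 1 = 1 := by
  rw [c.f_def (one_mem _)]
  exact map_one c.ι

theorem f_inv {a : Pm} (ha : a ∈ centP) : c.f a⁻¹ = (c.f a)⁻¹ := by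
  rw [c.f_def ha, c.f_def (inv_mem ha), ← map_inv]
  rfl

theorem f_inj {a b : Pm} (ha : a ∈ centP) (hb : b ∈ centP) (h : c.f a = c.f b) : a = b := by
  rw [c.f_def ha, c.f_def hb] at h
  exact congrArg Subtype.val (c.inj h)

theorem f_conj {a b : Pm} (ha : a ∈ centP) (hb : b ∈ centP) : c.f (a * b * a⁻¹) = c.f a * c.f b * (c.f a)⁻¹ := by
  rw [c.f_mul (mul_mem ha hb) (inv_mem ha), c.f_mul ha hb, c.f_inv ha]

theorem f_t : c.f tPerm = c.t := by
  rw [c.f_def (mem_centP.2 ⟨tPerm_mem, rfl⟩)]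
  exact c.map_t

theorem f_cent {a : Pm} (ha : a ∈ centP) : c.f a ∈ Subgroup.centralizer ({c.t} : Set G) := by
  rw [← c.range, c.f_def ha]
  exact ⟨_, rfl⟩

theorem exists_f {g : G} (hg : g ∈ Subgroup.centralizer ({c.t} : Set G)) : ∃ z ∈ centP, c.f z = g := by
  rw [← c.range] at hg
  obtain ⟨⟨z, hz⟩, rfl⟩ := hg
  exact ⟨z, hz, c.f_def hz⟩

theorem card_cent : Nat.card (Subgroup.centralizer ({c.t} : Set G)) = 40320 := by
  rw [← c.range, ← Nat.card_congr (MonoidHom.ofInjective c.inj).toEquiv, centP_eq.2]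

/-- The image of the Sylow subgroup. -/
def U : Subgroup G := (SM.subgroupOf centP).map c.ι

theorem mem_U {g : G} : g ∈ c.U ↔ ∃ z ∈ SM, g = c.f z := by
  constructor
  · rintro ⟨⟨z, hz⟩, hz', rfl⟩
    exact ⟨z, hz', (c.f_def hz).symm⟩
  · rintro ⟨z, hz, rfl⟩
    exact ⟨⟨z, SM_le hz⟩, hz, (c.f_def (SM_le hz)).symm⟩

theorem U_le : c.U ≤ Subgroup.centralizer ({c.t} : Set G) := by
  rw [← c.range]
  exact Subgroup.map_le_range _ _

theorem U_card : Nat.card c.U = 128 := by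
  rw [Ctx.U, ← SM_card, Nat.card_congr (Subgroup.equivMapOfInjective _ _ c.inj).symm.toEquiv,
    Nat.card_congr (Subgroup.subgroupOfEquivOfLe SM_le).toEquiv]

theorem U_pgroup : IsPGroup 2 c.U := IsPGroup.of_card (n := 7) (by rw [c.U_card]; norm_num)

theorem U_max (Y : Subgroup G) (hY : IsPGroup 2 Y) (hUY : c.U ≤ Y)
    (hYC : Y ≤ Subgroup.centralizer ({c.t} : Set G)) : Y = c.U := by
  haveI : Fact (Nat.Prime 2) := ⟨Nat.prime_two⟩
  obtain ⟨k, hk⟩ := IsPGroup.iff_card.1 hY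
  have hdvd := Subgroup.card_dvd_of_le hYC
  rw [c.card_cent, hk] at hdvd
  have hk7 : k ≤ 7 := by
    by_contra h
    exact absurd ((pow_dvd_pow 2 (by omega : 8 ≤ k)).trans hdvd) (by norm_num)
  exact (Subgroup.eq_of_le_of_card_ge hUY (by
    rw [c.U_card, hk]
    calc 2 ^ k ≤ 2 ^ 7 := Nat.pow_le_pow_right (by norm_num) hk7
      _ = 128 := by norm_num)).symm

theorem t_mem_U : c.t ∈ c.U := c.mem_U.2 ⟨tPerm, sE'_one ▸ SM_mem 1 (by norm_num), c.f_t.symm⟩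

theorem t_ne : c.t ≠ 1 := fun e => tPerm_ne (c.f_inj (mem_centP.2 ⟨tPerm_mem, rfl⟩) (one_mem _)
  (by rw [c.f_t, e, c.f_one]))

theorem t_sq : c.t * c.t = 1 := by
  rw [← c.f_t, ← c.f_mul (mem_centP.2 ⟨tPerm_mem, rfl⟩) (mem_centP.2 ⟨tPerm_mem, rfl⟩), tPerm_sq, c.f_one]

theorem normalizer_U_le : Subgroup.normalizer (c.U : Set G) ≤ Subgroup.centralizer ({c.t} : Set G) := by
  intro n hn
  have hm := (Subgroup.mem_normalizer_iff.1 hn c.t).1 c.t_mem_U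
  obtain ⟨z, hz, e⟩ := c.mem_U.1 hm
  have hcz : ∀ q ∈ SM, z * q = q * z := by
    intro q hq
    refine c.f_inj (mul_mem (SM_le hz) (SM_le hq)) (mul_mem (SM_le hq) (SM_le hz)) ?_
    rw [c.f_mul (SM_le hz) (SM_le hq), c.f_mul (SM_le hq) (SM_le hz), ← e]
    have h1 : n⁻¹ * c.f q * n ∈ c.U := (Subgroup.mem_normalizer_iff.1 hn (n⁻¹ * c.f q * n)).2
      (by rw [show n * (n⁻¹ * c.f q * n) * n⁻¹ = c.f q by group]; exact c.mem_U.2 ⟨q, hq, rfl⟩)
    have h2 := Subgroup.mem_centralizer_singleton_iff.1 (c.U_le h1)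
    calc n * c.t * n⁻¹ * c.f q = n * (c.t * (n⁻¹ * c.f q * n)) * n⁻¹ := by group
      _ = n * (n⁻¹ * c.f q * n * c.t) * n⁻¹ := by rw [h2]
      _ = _ := by group
  rw [Subgroup.mem_centralizer_singleton_iff]
  rcases SM_center hz hcz with rfl | rfl
  · rw [c.f_one, mul_inv_eq_one] at e
    exact absurd (mul_left_cancel (a := n) (by rw [e, mul_one])) c.t_ne
  · rw [c.f_t, mul_inv_eq_iff_eq_mul] at e
    exact e

theorem sylow_U : ∃ Q : Sylow 2 G, (Q : Subgroup G) = c.U := by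
  haveI : Fact (Nat.Prime 2) := ⟨Nat.prime_two⟩
  exact Cfsg.Lib.StrongEmb.sylow_of_normalizer_le c.U_pgroup _ c.U_le c.U_max c.normalizer_U_le

/-- An element of the elementary subgroup. -/
noncomputable def ge (i : ℕ) : G := c.f (eE i)

theorem ge_one : c.ge 1 = c.t := by rw [Ctx.ge, eE_one, c.f_t]

theorem ge_zero : c.ge 0 = 1 := by rw [Ctx.ge, eE_zero, c.f_one]

theorem ge_mul {i j : ℕ} (hi : i < 16) (hj : j < 16) : c.ge i * c.ge j = c.ge (tb eMul i j) := by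
  rw [Ctx.ge, Ctx.ge, Ctx.ge, ← c.f_mul (eE_centP hi) (eE_centP hj), eE_mul hi hj]

theorem ge_inj {i j : ℕ} (hi : i < 16) (hj : j < 16) (h : c.ge i = c.ge j) : i = j :=
  eE_inj hi hj (c.f_inj (eE_centP hi) (eE_centP hj) h)

theorem ge_sq {i : ℕ} (hi : i < 16) : c.ge i * c.ge i = 1 := by
  rw [Ctx.ge, ← c.f_mul (eE_centP hi) (eE_centP hi), eE_sq hi, c.f_one]

theorem ge_comm {i j : ℕ} (hi : i < 16) (hj : j < 16) : c.ge i * c.ge j = c.ge j * c.ge i := by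
  rw [Ctx.ge, Ctx.ge, ← c.f_mul (eE_centP hi) (eE_centP hj), eE_comm hi hj, c.f_mul (eE_centP hj) (eE_centP hi)]

/-- The elementary subgroup. -/
def E : Subgroup G where
  carrier := {g | ∃ i < 16, g = c.ge i}
  one_mem' := ⟨0, by norm_num, c.ge_zero.symm⟩
  mul_mem' := by
    rintro a b ⟨i, hi, rfl⟩ ⟨j, hj, rfl⟩
    exact ⟨_, eMul_lt hi hj, c.ge_mul hi hj⟩
  inv_mem' := by
    rintro a ⟨i, hi, rfl⟩
    exact ⟨i, hi, inv_eq_of_mul_eq_one_left (c.ge_sq hi)⟩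

theorem mem_E {g : G} : g ∈ c.E ↔ ∃ i < 16, g = c.ge i := Iff.rfl

theorem t_mem_E : c.t ∈ c.E := ⟨1, by norm_num, c.ge_one.symm⟩

theorem E_card : Nat.card c.E = 16 := by
  rw [← Nat.card_fin 16]
  exact (Nat.card_eq_of_bijective (fun i : Fin 16 => (⟨c.ge i, ⟨i, i.2, rfl⟩⟩ : c.E))
    ⟨fun a b h => Fin.ext (c.ge_inj a.2 b.2 (congrArg Subtype.val h)), fun ⟨g, i, hi, e⟩ =>
      ⟨⟨i, hi⟩, Subtype.ext e.symm⟩⟩).symm

theorem E_le_cent : c.E ≤ Subgroup.centralizer ({c.t} : Set G) := by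
  rintro _ ⟨i, hi, rfl⟩
  exact c.f_cent (eE_centP hi)

theorem E_le_U : c.E ≤ c.U := by
  rintro _ ⟨i, hi, rfl⟩
  exact c.mem_U.2 ⟨eE i, E_le_SM ⟨i, hi, rfl⟩, rfl⟩

theorem invol_conj {x : G} (hx : x ∈ Subgroup.centralizer ({c.t} : Set G)) (h2 : x * x = 1) (h1 : x ≠ 1)
    (ht : x ≠ c.t) : ∃ g ∈ Subgroup.centralizer ({c.t} : Set G), g * x * g⁻¹ = c.ge 2 := by
  haveI : Fact (Nat.Prime 2) := ⟨Nat.prime_two⟩
  have hp : IsPGroup 2 (Subgroup.zpowers x) := IsPGroup.of_card (n := 1) (by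
    rw [Nat.card_zpowers, pow_one]
    exact orderOf_eq_prime (by rw [pow_two, h2]) h1)
  obtain ⟨g, hg, hq⟩ := conj_into c.U_le c.U_pgroup c.U_max (Subgroup.zpowers_le.2 hx) hp
  obtain ⟨z, hz, e⟩ := c.mem_U.1 (hq x (Subgroup.mem_zpowers x))
  have hz2 : z * z = 1 := c.f_inj (mul_mem (SM_le hz) (SM_le hz)) (one_mem _) (by
    rw [c.f_mul (SM_le hz) (SM_le hz), ← e, c.f_one]
    calc g * x * g⁻¹ * (g * x * g⁻¹) = g * (x * x) * g⁻¹ := by group
      _ = 1 := by rw [h2, mul_one, mul_inv_cancel])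
  have hz1 : z ≠ 1 := by
    rintro rfl
    rw [c.f_one, mul_inv_eq_one] at e
    exact h1 (mul_left_cancel (a := g) (by rw [e, mul_one]))
  have hzt : z ≠ tPerm := by
    rintro rfl
    rw [c.f_t, mul_inv_eq_iff_eq_mul, ← (Subgroup.mem_centralizer_singleton_iff.1 hg)] at e
    exact ht (mul_left_cancel e)
  obtain ⟨d, hd, hde⟩ := invol_SM hz hz2 hz1 hzt
  refine ⟨c.f d * g, mul_mem (c.f_cent hd) hg, ?_⟩
  rw [Ctx.ge, ← hde, c.f_conj hd (SM_le hz), ← e]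
  group

/-- All involutions are conjugate. -/
theorem one_class {x : G} (hx : x * x = 1) (h1 : x ≠ 1) : ∃ g : G, g * c.t * g⁻¹ = x := by
  haveI : Fact (Nat.Prime 2) := ⟨Nat.prime_two⟩
  obtain ⟨g₀, hcomm, hne⟩ := c.noniso
  have hu2 : g₀ * c.t * g₀⁻¹ * (g₀ * c.t * g₀⁻¹) = 1 := by
    calc g₀ * c.t * g₀⁻¹ * (g₀ * c.t * g₀⁻¹) = g₀ * (c.t * c.t) * g₀⁻¹ := by group
      _ = 1 := by rw [c.t_sq, mul_one, mul_inv_cancel]
  have hu1 : g₀ * c.t * g₀⁻¹ ≠ 1 := fun e => c.t_ne (by rwa [mul_inv_eq_one, mul_eq_left] at e)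
  obtain ⟨d, -, hd⟩ := c.invol_conj (Subgroup.mem_centralizer_singleton_iff.2 hcomm.eq.symm) hu2 hu1 hne
  have he : d * g₀ * c.t * (d * g₀)⁻¹ = c.ge 2 := by rw [← hd]; group
  obtain ⟨Q, hQ⟩ := c.sylow_U
  obtain ⟨R, hR⟩ := (IsPGroup.of_card (n := 1) (show Nat.card (Subgroup.zpowers x) = 2 ^ 1 by
    rw [Nat.card_zpowers, pow_one]
    exact orderOf_eq_prime (by rw [pow_two, hx]) h1)).exists_le_sylow
  obtain ⟨g, hg⟩ := MulAction.exists_smul_eq G R Q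
  have hy : g * x * g⁻¹ ∈ c.U := by
    rw [← hQ, ← hg, Sylow.coe_subgroup_smul]
    exact ⟨x, hR (Subgroup.mem_zpowers x), rfl⟩
  by_cases ht : g * x * g⁻¹ = c.t
  · exact ⟨g⁻¹, by rw [← ht]; group⟩
  · obtain ⟨k, -, hk⟩ := c.invol_conj (c.U_le hy)
      (by
        calc g * x * g⁻¹ * (g * x * g⁻¹) = g * (x * x) * g⁻¹ := by group
          _ = 1 := by rw [hx, mul_one, mul_inv_cancel])
      (fun e => h1 (by rwa [mul_inv_eq_one, mul_eq_left] at e)) ht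
    exact ⟨(k * g)⁻¹ * (d * g₀), by
      calc (k * g)⁻¹ * (d * g₀) * c.t * ((k * g)⁻¹ * (d * g₀))⁻¹
          = g⁻¹ * (k⁻¹ * (d * g₀ * c.t * (d * g₀)⁻¹) * k) * g := by group
        _ = x := by rw [he, ← hk]; group⟩

theorem normal_E {g : G} (hg : g ∈ c.U) : g ∈ Subgroup.normalizer (c.E : Set G) := by
  obtain ⟨z, hz, rfl⟩ := c.mem_U.1 hg
  have key : ∀ n ∈ SM, ∀ a ∈ c.E, c.f n * a * (c.f n)⁻¹ ∈ c.E := by
    rintro n hn _ ⟨i, hi, rfl⟩
    obtain ⟨j, hj, e⟩ := (SM_norm hn).1 _ ⟨i, hi, rfl⟩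
    exact ⟨j, hj, by rw [Ctx.ge, ← c.f_conj (SM_le hn) (eE_centP hi), e]; rfl⟩
  refine Subgroup.mem_normalizer_iff.2 fun a => ⟨key z hz a, fun ha => ?_⟩
  have := key z⁻¹ (inv_mem hz) _ ha
  rw [c.f_inv (SM_le hz)] at this
  simpa [mul_assoc] using this

/-- A conjugate of the elementary subgroup containing the involution and lying in the centraliser. -/
theorem conj_E {A : Subgroup G} {g : G} (hA : ∀ a, a ∈ A ↔ g * a * g⁻¹ ∈ c.E) (ht : c.t ∈ A)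
    (hAC : A ≤ Subgroup.centralizer ({c.t} : Set G)) :
    ∃ d ∈ Subgroup.centralizer ({c.t} : Set G), ∀ a, a ∈ A ↔ d * a * d⁻¹ ∈ c.E := by
  haveI : Fact (Nat.Prime 2) := ⟨Nat.prime_two⟩
  have hA' : A = c.E.map (MulAut.conj g⁻¹).toMonoidHom := by
    ext a
    rw [hA, Cfsg.Lib.StrongEmb.mem_conj_iff, inv_inv]
  have hcard : Nat.card A = 16 := by
    rw [hA', Subgroup.card_map_of_injective (MulAut.conj g⁻¹).injective, c.E_card]
  obtain ⟨d, hd, hdU⟩ := conj_into c.U_le c.U_pgroup c.U_max hAC (IsPGroup.of_card (n := 4) (by rw [hcard]; norm_num))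
  -- pull back into the model
  set A₁ := A.map (MulAut.conj d).toMonoidHom with hA₁
  have hA₁U : A₁ ≤ c.U := by
    rintro _ ⟨a, ha, rfl⟩
    exact hdU a ha
  let B : Subgroup Pm := (A₁.comap c.ι).map centP.subtype
  have hmemB : ∀ z, z ∈ B ↔ z ∈ centP ∧ c.f z ∈ A₁ := fun z => by
    constructor
    · rintro ⟨⟨w, hw⟩, hw', rfl⟩
      exact ⟨hw, by rw [Subgroup.coe_subtype, c.f_def hw]; exact hw'⟩
    · rintro ⟨hz, h⟩
      exact ⟨⟨z, hz⟩, (by rw [c.f_def hz] at h; exact h), rfl⟩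
  have hBS : B ≤ SM := fun z hz => by
    obtain ⟨hz, h⟩ := (hmemB z).1 hz
    obtain ⟨w, hw, e⟩ := c.mem_U.1 (hA₁U h)
    exact c.f_inj hz (SM_le hw) e ▸ hw
  have hBcard : Nat.card B = 16 := by
    have hle : A₁ ≤ c.ι.range := c.range ▸ hA₁U.trans c.U_le
    rw [Subgroup.card_map_of_injective centP.subtype_injective,
      Nat.card_congr (Subgroup.equivMapOfInjective (A₁.comap c.ι) c.ι c.inj).toEquiv, Subgroup.map_comap_eq,
      inf_eq_right.2 hle, hA₁, Subgroup.card_map_of_injective (MulAut.conj d).injective, hcard]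
  have hBsq : ∀ z ∈ B, z * z = 1 := fun z hz => by
    obtain ⟨hz, a, ha, e⟩ := (hmemB z).1 hz
    obtain ⟨i, hi, hi'⟩ := (hA a).1 ha
    refine c.f_inj (mul_mem hz hz) (one_mem _) ?_
    rw [c.f_mul hz hz, ← e, c.f_one]
    show d * a * d⁻¹ * (d * a * d⁻¹) = 1
    rw [show a = g⁻¹ * c.ge i * g by rw [← hi']; group]
    calc d * (g⁻¹ * c.ge i * g) * d⁻¹ * (d * (g⁻¹ * c.ge i * g) * d⁻¹) = d * g⁻¹ * (c.ge i * c.ge i) * g * d⁻¹ := by
          group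
      _ = 1 := by rw [c.ge_sq hi]; group
  have hBt : tPerm ∈ B := (hmemB _).2 ⟨mem_centP.2 ⟨tPerm_mem, rfl⟩, c.t, ht, by
    show d * c.t * d⁻¹ = _
    rw [Subgroup.mem_centralizer_singleton_iff.1 hd, mul_inv_cancel_right, c.f_t]⟩
  rcases elem_SM hBS hBcard hBsq hBt with h | h
  · refine ⟨d, hd, fun a => ⟨fun ha => ?_, ?_⟩⟩
    · obtain ⟨w, hw, e⟩ := c.mem_U.1 (hdU a ha)
      obtain ⟨i, hi, rfl⟩ := (h w).1 ((hmemB w).2 ⟨SM_le hw, e ▸ ⟨a, ha, rfl⟩⟩)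
      exact ⟨i, hi, e⟩
    · rintro ⟨i, hi, e⟩
      obtain ⟨a', ha', e'⟩ := ((hmemB _).1 ((h _).2 ⟨i, hi, rfl⟩)).2
      have : a' = a := (MulAut.conj d).injective (e'.trans e.symm)
      exact this ▸ ha'
  · -- the other class cannot occur
    exfalso
    obtain ⟨Q, hQ⟩ := c.sylow_U
    have hnormA : ∀ u ∈ c.U, u ∈ Subgroup.normalizer (A₁ : Set G) := by
      intro u hu
      obtain ⟨n, hn, rfl⟩ := c.mem_U.1 hu
      have key : ∀ n ∈ SM, ∀ a ∈ A₁, c.f n * a * (c.f n)⁻¹ ∈ A₁ := by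
        intro n hn a ha
        obtain ⟨w, hw, rfl⟩ := c.mem_U.1 (hA₁U ha)
        have hw' := (h w).1 ((hmemB w).2 ⟨SM_le hw, ha⟩)
        have := ((hmemB _).1 ((h _).2 ((SM_norm hn).2 w hw'))).2
        rwa [c.f_conj (SM_le hn) (SM_le hw)] at this
      refine Subgroup.mem_normalizer_iff.2 fun a => ⟨key n hn a, fun ha => ?_⟩
      have := key n⁻¹ (inv_mem hn) _ ha
      rw [c.f_inv (SM_le hn)] at this
      simpa [mul_assoc] using this
    -- `m` carries the elementary subgroup to the other one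
    set m := d * g⁻¹ with hm
    have hmA : ∀ a, a ∈ A₁ ↔ m⁻¹ * a * m ∈ c.E := fun a => by
      rw [hA₁, Cfsg.Lib.StrongEmb.mem_conj_iff, hA, hm,
        show (d * g⁻¹)⁻¹ * a * (d * g⁻¹) = g * (d⁻¹ * a * d) * g⁻¹ by group]
    set Q' := m • Q with hQ'
    have hQ'le : (Q' : Subgroup G) ≤ Subgroup.normalizer (A₁ : Set G) := by
      rw [hQ', Sylow.coe_subgroup_smul]
      rintro _ ⟨u, hu, rfl⟩
      rw [hQ] at hu
      refine Subgroup.mem_normalizer_iff.2 fun a => ?_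
      show a ∈ A₁ ↔ m * u * m⁻¹ * a * (m * u * m⁻¹)⁻¹ ∈ A₁
      rw [hmA, hmA, show m⁻¹ * (m * u * m⁻¹ * a * (m * u * m⁻¹)⁻¹) * m = u * (m⁻¹ * a * m) * u⁻¹ by group]
      exact Subgroup.mem_normalizer_iff.1 (c.normal_E hu) _
    set N₁ := Subgroup.normalizer (A₁ : Set G)
    obtain ⟨k, hk⟩ := MulAction.exists_smul_eq N₁ (Q'.subtype hQ'le) (Q.subtype (hQ.le.trans hnormA))
    have hkm : (k : G) * m ∈ Subgroup.normalizer (c.U : Set G) := by
      have h1 : ((k : G) * m) • Q = Q := by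
        refine Sylow.ext (le_antisymm ?_ ?_) <;> rw [mul_smul, ← hQ'] <;>
          have h2 := congrArg (fun S : Sylow 2 N₁ => (S : Subgroup N₁).map N₁.subtype) hk <;>
          simp only [Sylow.coe_subgroup_smul, Sylow.coe_subtype,
            Subgroup.map_subgroupOf_eq_of_le (hQ.le.trans hnormA)] at h2 <;>
          rw [← h2, Sylow.coe_subgroup_smul]
        · rintro _ ⟨x, hx, rfl⟩
          exact ⟨k * ⟨x, hQ'le hx⟩ * k⁻¹, ⟨⟨x, hQ'le hx⟩, hx, rfl⟩, rfl⟩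
        · rintro _ ⟨_, ⟨x, hx, rfl⟩, rfl⟩
          exact ⟨x, hx, rfl⟩
      rw [← hQ]
      exact Sylow.smul_eq_iff_mem_normalizer.1 h1
    obtain ⟨q, hq, e⟩ := c.exists_f (c.normalizer_U_le hkm)
    refine not_conj hq fun z => ?_
    constructor
    · intro hz
      obtain ⟨hzc, hza⟩ := (hmemB z).1 ((h z).2 hz)
      have h1 : (k : G)⁻¹ * c.f z * k ∈ A₁ := (Subgroup.mem_normalizer_iff.1 k.2 _).2
        (by rwa [show (k : G) * ((k : G)⁻¹ * c.f z * k) * (k : G)⁻¹ = c.f z by group])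
      obtain ⟨i, hi, hi'⟩ := (hmA _).1 h1
      refine ⟨i, hi, c.f_inj (mul_mem (mul_mem (inv_mem hq) hzc) hq) (eE_centP hi) ?_⟩
      rw [c.f_mul (mul_mem (inv_mem hq) hzc) hq, c.f_mul (inv_mem hq) hzc, c.f_inv hq, e]
      calc ((k : G) * m)⁻¹ * c.f z * ((k : G) * m) = m⁻¹ * ((k : G)⁻¹ * c.f z * k) * m := by group
        _ = c.f (eE i) := hi'
    · rintro ⟨i, hi, hz'⟩
      have hz : z = q * eE i * q⁻¹ := by rw [← hz']; group
      have h1 : m * c.ge i * m⁻¹ ∈ A₁ := (hmA _).2 (by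
        rw [show m⁻¹ * (m * c.ge i * m⁻¹) * m = c.ge i by group]
        exact ⟨i, hi, rfl⟩)
      have h2 := (Subgroup.mem_normalizer_iff.1 k.2 _).1 h1
      have hzc : z ∈ centP := hz ▸ mul_mem (mul_mem hq (eE_centP hi)) (inv_mem hq)
      refine (h z).1 ((hmemB z).2 ⟨hzc, ?_⟩)
      rw [hz, c.f_conj hq (eE_centP hi), e]
      rwa [show (k : G) * m * c.f (eE i) * ((k : G) * m)⁻¹ = (k : G) * (m * c.ge i * m⁻¹) * (k : G)⁻¹ by
        rw [Ctx.ge]; group]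

/-- The normaliser of the elementary subgroup is transitive on its involutions. -/
theorem transitive {j : ℕ} (hj : j < 16) (hj0 : j ≠ 0) :
    ∃ n ∈ Subgroup.normalizer (c.E : Set G), n * c.t * n⁻¹ = c.ge j := by
  obtain ⟨g, hg⟩ := c.one_class (c.ge_sq hj) fun e => hj0 (c.ge_inj hj (by norm_num) (e.trans c.ge_zero.symm))
  let A : Subgroup G := c.E.comap (MulAut.conj g).toMonoidHom
  have hA : ∀ a, a ∈ A ↔ g * a * g⁻¹ ∈ c.E := fun a => Iff.rfl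
  have hAC : A ≤ Subgroup.centralizer ({c.t} : Set G) := fun a ha => by
    obtain ⟨i, hi, e⟩ := (hA a).1 ha
    rw [Subgroup.mem_centralizer_singleton_iff]
    have h := c.ge_comm hi hj
    rw [← e, ← hg] at h
    calc a * c.t = g⁻¹ * (g * a * g⁻¹ * (g * c.t * g⁻¹)) * g := by group
      _ = g⁻¹ * (g * c.t * g⁻¹ * (g * a * g⁻¹)) * g := by rw [h]
      _ = c.t * a := by group
  obtain ⟨d, hd, hdA⟩ := c.conj_E hA ((hA _).2 ⟨j, hj, hg⟩) hAC
  refine ⟨g * d⁻¹, Subgroup.mem_normalizer_iff.2 fun x => ?_, ?_⟩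
  · have h1 := hA (d⁻¹ * x * d)
    rw [hdA, show d * (d⁻¹ * x * d) * d⁻¹ = x by group] at h1
    rw [h1]
    group
  · have h2 : d⁻¹ * c.t * d = c.t := by
      rw [mul_assoc, ← Subgroup.mem_centralizer_singleton_iff.1 hd, inv_mul_cancel_left]
    rw [← hg, mul_inv_rev, inv_inv, show g * d⁻¹ * c.t * (d * g⁻¹) = g * (d⁻¹ * c.t * d) * g⁻¹ by group, h2]

/-- The elementary subgroup is its own centraliser. -/
theorem cent_E' {g : G} (h : ∀ i < 16, g * c.ge i = c.ge i * g) : g ∈ c.E := by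
  obtain ⟨z, hz, rfl⟩ := c.exists_f (Subgroup.mem_centralizer_singleton_iff.2 (c.ge_one ▸ h 1 (by norm_num)))
  obtain ⟨i, hi, rfl⟩ := cent_E hz fun i hi => c.f_inj (mul_mem hz (eE_centP hi)) (mul_mem (eE_centP hi) hz) (by
    rw [c.f_mul hz (eE_centP hi), c.f_mul (eE_centP hi) hz]
    exact h i hi)
  exact ⟨i, hi, rfl⟩

end Ctx

end Cfsg.Lib.McLRecog
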