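import Cfsg.Agent.McLRecog.Local

/-!
The seven involutions generate the group; further kernel checks.
-/

set_option autoImplicit false
set_option maxRecDepth 20000

namespace Cfsg.Lib.McLRecog

open Cfsg Cfsg.Lib.CosetCert Cfsg.Lib.CosetCert.OutCert
open Cfsg.Lib.McLModel (data valid_data grp_eq)
open Cfsg.Lib.McLModel.Inv

/-- The generators of the model as words in the seven involutions. -/
def genLow : List (List ℕ) := [[6, 0, 6, 0], [6, 2, 4, 5, 3, 2, 6, 4, 3, 2],
  [4, 5, 6, 2, 4, 5, 6, 5, 4, 2, 0, 6, 5, 4], [4, 5, 0, 3, 4, 5, 4, 3, 0, 5, 4, 1]]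

theorem genLow_ok : ((List.range 4).all fun l =>
    inL (genLow.getD l []) && key (genLow.getD l []) == keyLow [l]) = true := by decide +kernel

theorem three_ok : eqW relThree [] = true := by decide +kernel

theorem root_ok : ((List.range 128).any fun i => eqW (sW i ++ sW i) tW) = true := by decide +kernel

theorem gen_letters : data.grp ≤ Subgroup.closure (lt '' Set.Iio 7) := by
  rw [Data.grp, Subgroup.closure_le]
  rintro _ ⟨l, hl, rfl⟩
  have hl' : l < 4 := hl
  have h := List.all_eq_true.1 genLow_ok l (List.mem_range.2 hl')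
  rw [Bool.and_eq_true, beq_iff_eq] at h
  have hlow : Data.isLow [l] = true := by simp [Data.isLow]; omega
  have e : val (genLow.getD l []) = data.im l :=
    ext5 (val_mem h.1) (Subgroup.subset_closure ⟨l, hl, rfl⟩)
      (by rw [imgs5_val h.1, h.2, ← Data.wval_one (D := data) l, imgs5_low hlow])
  rw [← e]
  exact Subgroup.list_prod_mem _ fun g hg => by
    obtain ⟨j, hj, rfl⟩ := List.mem_map.1 hg
    exact Subgroup.subset_closure ⟨j, inL_lt h.1 j hj, rfl⟩

theorem exists_root : ∃ z ∈ centP, z * z = tPerm := by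
  obtain ⟨i, hi, h⟩ := List.any_eq_true.1 root_ok
  have e := eqW_sound h
  rw [val_app, t_val] at e
  exact ⟨sE' i, sE_centP (List.mem_range.1 hi), e⟩

end Cfsg.Lib.McLRecog
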