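import Cfsg.Agent.McLRecog.Three
import Cfsg.Agent.McLRecog.Gen
import Cfsg.Agent.McLRecog.Bound

/-!
An embedding of the model extending the copy of the centraliser.
-/

set_option autoImplicit false
set_option maxRecDepth 20000
set_option linter.style.haveILetI false

namespace Cfsg.Lib.McLRecog

open Cfsg Cfsg.Lib.CosetCert Cfsg.Lib.CosetCert.OutCert
open Cfsg.Lib.McLModel (data valid_data grp_eq)
open Cfsg.Lib.McLModel.Inv

theorem model_simple : IsSimpleGroup data.grp := by
  haveI := Cfsg.Lib.McLModel.mclGrp_isMcL.1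
  let e : ↥Cfsg.Lib.McLModel.mclGrp ≃* ↥data.grp := (MonoidHom.ofInjective Cfsg.Lib.McLModel.phi_injective).trans
    (MulEquiv.subgroupCongr grp_eq.1.symm)
  exact e.symm.isSimpleGroup

theorem rels_val : ∀ r ∈ relAll, val r = 1 := by
  intro r hr
  simp only [relAll, List.mem_cons, List.mem_append, List.mem_map, List.mem_range, List.not_mem_nil, or_false] at hr
  have h1 := List.all_eq_true.1 relC_ok
  have h2 := List.all_eq_true.1 relN_ok
  simp only [Bool.and_eq_true] at h1 h2
  rcases hr with (((rfl | ⟨l, hl, rfl⟩) | hr) | hr) | rfl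
  · exact val_nil
  · rw [val_cons, val_one, lt_sq hl]
  · rw [eqW_sound (h1 r hr).2, val_nil]
  · rw [eqW_sound (h2 r hr).2, val_nil]
  · rw [eqW_sound three_ok, val_nil]

theorem rels_small : ∀ r ∈ relAll, inL r = true := by
  intro r hr
  have h := List.all_eq_true.1 relAll_small r hr
  simp only [List.all_eq_true, decide_eq_true_eq] at h
  exact List.all_eq_true.2 fun l hl => Nat.ble_eq_true_of_le (h l hl)

/-- A normal subgroup of the centraliser of order at most three is central. -/
theorem small_normal {N : Subgroup centP} (hN : N.Normal) (h3 : Nat.card N ≤ 3) {a : centP} (ha : a ∈ N) :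
    a = 1 ∨ a = tC := by
  haveI : IsSimpleGroup (alternatingGroup (Fin 8)) := alternatingGroup.isSimpleGroup (by rw [Nat.card_fin]; norm_num)
  obtain ⟨-, ⟨q⟩, -⟩ := double_cover
  haveI : (N.map (q.toMonoidHom.comp (QuotientGroup.mk' (Subgroup.center centP)))).Normal :=
    hN.map _ (q.surjective.comp (QuotientGroup.mk'_surjective _))
  rcases Subgroup.Normal.eq_bot_or_eq_top ‹(N.map (q.toMonoidHom.comp (QuotientGroup.mk' (Subgroup.center centP)))).Normal›
    with h | h
  · have h1 : q (QuotientGroup.mk' (Subgroup.center centP) a) = 1 :=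
      Subgroup.mem_bot.1 (h ▸ Subgroup.mem_map_of_mem _ ha)
    rw [MulEquiv.map_eq_one_iff] at h1
    have hc : a ∈ Subgroup.center centP := (QuotientGroup.eq_one_iff a).1 h1
    obtain ⟨hk, hk2, htk⟩ := ker_eq
    have hker : a ∈ act8.ker := hk ▸ hc
    obtain ⟨x, hx, huniq⟩ := (Nat.card_eq_two_iff' (1 : act8.ker)).1 hk2
    by_cases h0 : a = 1
    · exact Or.inl h0
    · refine Or.inr (congrArg Subtype.val ((huniq ⟨a, hker⟩ fun e => h0 (congrArg Subtype.val e)).trans
        (huniq ⟨tC, htk⟩ fun e => ?_).symm))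
      exact tPerm_ne (congrArg (fun z : act8.ker => (z.1 : Pm)) e)
  · exfalso
    let f := q.toMonoidHom.comp (QuotientGroup.mk' (Subgroup.center centP))
    have h1 : Nat.card (N.map f) ≤ Nat.card N := by
      refine Nat.card_le_card_of_surjective (fun x : N => (⟨f x.1, x.1, x.2, rfl⟩ : N.map f)) ?_
      rintro ⟨_, x, hx, rfl⟩
      exact ⟨⟨x, hx⟩, rfl⟩
    rw [show N.map f = ⊤ from h, Subgroup.card_top, nat_card_alternatingGroup, Nat.card_fin] at h1
    have : (8 : ℕ).factorial = 40320 := rfl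
    omega

/-- A subgroup of order at most three invariant under both local subgroups is trivial. -/
theorem small_trivial {G : Type*} [Group G] [Finite G] {c : Ctx G} (D : Images c) (N : Subgroup G)
    (hNcard : Nat.card N ≤ 3) (hconjC : ∀ z ∈ centP, ∀ g ∈ N, c.f z * g * (c.f z)⁻¹ ∈ N)
    (hk : ∀ g ∈ N, Ctx.kg D * g * (Ctx.kg D)⁻¹ ∈ N) : ∀ g ∈ N, g = 1 := by
  have two : ∀ (z : Pm) (hz : z ∈ centP), c.f z ∈ N → z = 1 ∨ z = tPerm := by
    intro z hz hzN
    let N' : Subgroup centP := N.comap c.ι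
    have hN'n : N'.Normal := ⟨fun n hn g => by
      show c.ι (g * n * g⁻¹) ∈ N
      rw [map_mul, map_mul, map_inv, ← c.f_def g.2]
      exact hconjC _ g.2 _ hn⟩
    have hN'c : Nat.card N' ≤ 3 := le_trans (Nat.card_le_card_of_injective (fun x : N' => (⟨c.ι x.1, x.2⟩ : N))
      fun a b e => Subtype.ext (c.inj (congrArg Subtype.val e))) hNcard
    rw [c.f_def hz] at hzN
    exact (small_normal hN'n hN'c (a := ⟨z, hz⟩) hzN).imp (congrArg Subtype.val) (congrArg Subtype.val)
  have ht : c.t ∉ N := by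
    intro htN
    obtain ⟨-, -, kt, -⟩ := Ctx.k_rel D
    obtain ⟨-, -, -, -, -, -, -, w1, wt⟩ := Ctx.yx_facts c
    obtain ⟨-, -, -, -, -, -, -, -, h16⟩ := p_facts
    have hw := hk _ htN
    rw [kt, Ctx.ge] at hw
    rw [Ctx.ge] at w1 wt
    rcases two _ (eE_centP h16) hw with e | e
    · rw [e, c.f_one] at w1
      exact w1 rfl
    · rw [e, c.f_t] at wt
      exact wt rfl
  have hC : ∀ g ∈ N, c.t * g = g * c.t → g = 1 := by
    intro g hg hgt
    obtain ⟨z, hz, rfl⟩ := c.exists_f (Subgroup.mem_centralizer_singleton_iff.2 hgt.symm)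
    rcases two z hz hg with rfl | rfl
    · exact c.f_one
    · rw [c.f_t] at hg
      exact absurd hg ht
  intro g hg
  by_contra h1
  obtain ⟨z, hz, hz2⟩ := exists_root
  have hs : c.f z * c.f z = c.t := by rw [← c.f_mul hz hz, hz2, c.f_t]
  set s := c.f z
  set g' := c.t * g * c.t⁻¹ with hg'
  have htt : c.f tPerm = c.t := c.f_t
  have hg'N : g' ∈ N := by
    rw [hg', ← htt]
    exact hconjC _ (mem_centP.2 ⟨tPerm_mem, rfl⟩) g hg
  have hne : g' ≠ g := fun e => h1 (hC g hg (mul_inv_eq_iff_eq_mul.1 e))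
  have hne1 : g' ≠ 1 := fun e => h1 (conj_eq_one_iff.1 e)
  haveI : Finite N := inferInstance
  have hall3 : ∀ h ∈ N, h = 1 ∨ h = g ∨ h = g' := by
    intro h hh
    by_contra hcon
    push Not at hcon
    obtain ⟨a1, a2, a3⟩ := hcon
    classical
    have hsub : (({1, g, g', h} : Finset G) : Set G) ⊆ (N : Set G) := by
      intro x hx
      simp only [Finset.coe_insert, Finset.coe_singleton, Set.mem_insert_iff, Set.mem_singleton_iff] at hx
      rcases hx with rfl | rfl | rfl | rfl
      · exact one_mem N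
      · exact hg
      · exact hg'N
      · exact hh
    have hfour : ({1, g, g', h} : Finset G).card = 4 := by
      rw [Finset.card_insert_of_notMem, Finset.card_insert_of_notMem, Finset.card_insert_of_notMem,
        Finset.card_singleton] <;> simp only [Finset.mem_insert, Finset.mem_singleton, not_or]
      · exact fun e => a3 e.symm
      · exact ⟨Ne.symm hne, fun e => a2 e.symm⟩
      · exact ⟨Ne.symm h1, Ne.symm hne1, Ne.symm a1⟩
    have := Set.ncard_le_ncard hsub (Set.toFinite _)
    rw [Set.ncard_coe_finset, hfour, ← Nat.card_coe_set_eq] at this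
    exact absurd (this.trans hNcard) (by norm_num)
  have hsN := hconjC z hz g hg
  have hcomm : Commute s c.t := by
    show s * c.t = c.t * s
    rw [← hs, mul_assoc]
  rcases hall3 _ hsN with e | e | e
  · exact h1 (conj_eq_one_iff.1 e)
  · refine hne ?_
    rw [hg', ← hs]
    calc s * s * g * (s * s)⁻¹ = s * (s * g * s⁻¹) * s⁻¹ := by group
      _ = g := by rw [e, e]
  · have h2 : c.t * g * c.t⁻¹ = c.t * (c.t * g * c.t⁻¹) * c.t⁻¹ → False := fun e2 =>
      hne (mul_left_cancel (a := c.t) (mul_right_cancel e2)).symm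
    apply h2
    calc c.t * g * c.t⁻¹ = s * (s * g * s⁻¹) * s⁻¹ := by rw [← hs]; group
      _ = s * (c.t * g * c.t⁻¹) * s⁻¹ := by rw [e]
      _ = (s * c.t) * g * (s * c.t)⁻¹ := by group
      _ = (c.t * s) * g * (c.t * s)⁻¹ := by rw [hcomm.eq]
      _ = c.t * (s * g * s⁻¹) * c.t⁻¹ := by group
      _ = _ := by rw [e]

namespace Ctx

variable {G : Type*} [Group G] [Finite G] (c : Ctx G)

/-- An injective map of the model extending the copy. -/
theorem exists_embedding : ∃ φ : data.grp →* G, Function.Injective φ ∧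
    ∀ (z : Pm) (hz : z ∈ centP), φ ⟨z, (mem_centP.1 hz).1⟩ = c.f z := by
  classical
  obtain ⟨D⟩ := c.exists_images
  let im : ℕ → G × data.grp := fun l => if h : l < 7 then (D.X l, ⟨lt l, lt_mem h⟩) else 1
  have him : ∀ {w : List ℕ}, inL w = true → (wval im w).1 = wval D.X w ∧ ((wval im w).2 : Pm) = val w := by
    intro w
    induction w with
    | nil => intro _; simp [wval, val_nil]
    | cons l w ih =>
      intro h
      have hl : l < 7 := inL_lt h l List.mem_cons_self
      have hw : inL w = true := List.all_eq_true.2 fun a ha => List.all_eq_true.1 h a (List.mem_cons_of_mem _ ha)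
      obtain ⟨h1, h2⟩ := ih hw
      have e : wval im (l :: w) = (D.X l, ⟨lt l, lt_mem hl⟩) * wval im w := by simp [wval, im, hl]
      refine ⟨?_, ?_⟩
      · rw [e, Prod.fst_mul, h1]
        simp [wval]
      · rw [e, Prod.snd_mul, Subgroup.coe_mul, h2, val_cons]
  have hall : ∀ r ∈ relAll, wval im r = 1 := by
    intro r hr
    obtain ⟨h1, h2⟩ := him (rels_small r hr)
    refine Prod.ext (h1.trans ?_) (Subtype.ext (h2.trans (rels_val r hr)))
    simp only [relAll, List.mem_cons, List.mem_append, List.mem_map, List.mem_range, List.not_mem_nil, or_false] at hr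
    rcases hr with (((rfl | ⟨l, hl, rfl⟩) | hr) | hr) | rfl
    · simp [wval]
    · rw [show wval D.X [l, l] = D.X l * D.X l by simp [wval]]
      exact X_sq D hl
    · have h := List.all_eq_true.1 relC_ok r hr
      rw [Bool.and_eq_true] at h
      rw [D.cent r h.1, eqW_sound h.2, val_nil, c.f_one]
      rfl
    · have h := List.all_eq_true.1 relN_ok r hr
      rw [Bool.and_eq_true] at h
      exact D.normal r h.1 (by rw [eqW_sound h.2, val_nil])
    · exact three_rel D
  obtain ⟨hfin, hcard⟩ := order_bound im hall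
  set L := first im 7 with hL
  haveI : Finite L := hfin
  have hmemL : ∀ w, inL w = true → wval im w ∈ L := fun w hw => Subgroup.list_prod_mem _ fun g hg => by
    obtain ⟨l, hl, rfl⟩ := List.mem_map.1 hg
    exact first_mem im (inL_lt hw l hl)
  let p : L →* data.grp := (MonoidHom.snd G data.grp).comp L.subtype
  have hp : Function.Surjective p := by
    intro m
    have hm : m.1 ∈ Subgroup.closure (lt '' Set.Iio 7) := gen_letters m.2
    have hgo : ∀ z ∈ Subgroup.closure (lt '' Set.Iio 7), ∃ a : L, (p a : Pm) = z := by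
      intro z hz
      induction hz using Subgroup.closure_induction with
      | mem x hx =>
        obtain ⟨l, hl, rfl⟩ := hx
        refine ⟨⟨im l, first_mem im hl⟩, ?_⟩
        show ((im l).2 : Pm) = lt l
        have hl' : l < 7 := hl
        simp [im, hl']
      | one => exact ⟨1, by simp⟩
      | mul a b _ _ ha hb =>
        obtain ⟨x, hx⟩ := ha
        obtain ⟨y, hy⟩ := hb
        exact ⟨x * y, by rw [map_mul, Subgroup.coe_mul, hx, hy]⟩
      | inv a _ ha =>
        obtain ⟨x, hx⟩ := ha
        exact ⟨x⁻¹, by rw [map_inv, Subgroup.coe_inv, hx]⟩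
    obtain ⟨a, ha⟩ := hgo _ hm
    exact ⟨a, Subtype.ext ha⟩
  have hker : Nat.card p.ker ≤ 3 := by
    have h := Subgroup.card_eq_card_quotient_mul_card_subgroup p.ker
    rw [Nat.card_congr (QuotientGroup.quotientKerEquivOfSurjective p hp).toEquiv, grp_eq.2] at h
    rw [h, mul_comm] at hcard
    exact Nat.le_of_mul_le_mul_right hcard (by norm_num)
  let q : L →* G := (MonoidHom.fst G data.grp).comp L.subtype
  -- lifts of the centraliser
  have hlift : ∀ z ∈ centP, ∃ a : L, q a = c.f z ∧ (p a : Pm) = z := by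
    intro z hz
    rw [centP_gen] at hz
    induction hz using Subgroup.closure_induction with
    | mem x hx =>
      obtain ⟨l, hl, rfl⟩ := hx
      have hl7 := cLet_lt l hl
      refine ⟨⟨im l, first_mem im hl7⟩, ?_, ?_⟩
      · show (im l).1 = _
        have := D.cent [l] (by simpa [lets] using hl)
        rw [val_one] at this
        simpa [wval, im, hl7] using this
      · show ((im l).2 : Pm) = lt l
        simp [im, hl7]
    | one => exact ⟨1, by rw [map_one, c.f_one], by simp⟩
    | mul a b ha' hb' ha hb =>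
      rw [← centP_gen] at ha' hb'
      obtain ⟨x, hx1, hx2⟩ := ha
      obtain ⟨y, hy1, hy2⟩ := hb
      exact ⟨x * y, by rw [map_mul, hx1, hy1, c.f_mul ha' hb'], by rw [map_mul, Subgroup.coe_mul, hx2, hy2]⟩
    | inv a ha' ha =>
      rw [← centP_gen] at ha'
      obtain ⟨x, hx1, hx2⟩ := ha
      exact ⟨x⁻¹, by rw [map_inv, hx1, c.f_inv ha'], by rw [map_inv, Subgroup.coe_inv, hx2]⟩
  set N := p.ker.map q with hN
  have hq : ∀ a ∈ p.ker, q a = 1 → a = 1 := fun a ha h1 =>
    Subtype.ext (Prod.ext h1 ha)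
  have hNcard : Nat.card N ≤ 3 := by
    refine le_trans (Nat.card_le_card_of_surjective (fun x : p.ker => (⟨q x.1, x.1, x.2, rfl⟩ : N)) ?_) hker
    rintro ⟨_, x, hx, rfl⟩
    exact ⟨⟨x, hx⟩, rfl⟩
  have hconj : ∀ a : L, ∀ g ∈ N, q a * g * (q a)⁻¹ ∈ N := by
    rintro a _ ⟨x, hx, rfl⟩
    exact ⟨a * x * a⁻¹, (MonoidHom.normal_ker p).conj_mem x hx a, by rw [map_mul, map_mul, map_inv]⟩
  have hconjC : ∀ z ∈ centP, ∀ g ∈ N, c.f z * g * (c.f z)⁻¹ ∈ N := fun z hz g hg => by
    obtain ⟨a, ha, -⟩ := hlift z hz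
    rw [← ha]
    exact hconj a g hg
  have hki : inL kWord = true := by
    have h := k_ok
    simp only [Bool.and_eq_true] at h
    exact lets_inL nLet_lt h.1.1.1.1
  have hN1 : ∀ g ∈ N, g = 1 := small_trivial D N hNcard hconjC fun g hg => by
    rw [show kg D = q ⟨wval im kWord, hmemL _ hki⟩ from (him hki).1.symm]
    exact hconj _ g hg
  have hpinj : Function.Injective p := by
    rw [injective_iff_map_eq_one]
    exact fun a ha => hq a ha (hN1 _ ⟨a, ha, rfl⟩)
  let e := MulEquiv.ofBijective p ⟨hpinj, hp⟩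
  refine ⟨q.comp e.symm.toMonoidHom, ?_, fun z hz => ?_⟩
  · haveI := model_simple
    rcases (MonoidHom.normal_ker (q.comp e.symm.toMonoidHom)).eq_bot_or_eq_top with h | h
    · exact (MonoidHom.ker_eq_bot_iff _).1 h
    · exfalso
      obtain ⟨a, ha, hpa⟩ := hlift tPerm (mem_centP.2 ⟨tPerm_mem, rfl⟩)
      have hmem : tG ∈ (q.comp e.symm.toMonoidHom).ker := h ▸ Subgroup.mem_top _
      rw [MonoidHom.mem_ker, MonoidHom.comp_apply, MulEquiv.coe_toMonoidHom,
        show e.symm tG = a from e.symm_apply_eq.2 (Subtype.ext hpa.symm), ha, c.f_t] at hmem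
      exact c.t_ne hmem
  · obtain ⟨a, ha, hpa⟩ := hlift z hz
    rw [MonoidHom.comp_apply, MulEquiv.coe_toMonoidHom,
      show e.symm ⟨z, (mem_centP.1 hz).1⟩ = a from e.symm_apply_eq.2 (Subtype.ext hpa.symm), ha]

end Ctx

end Cfsg.Lib.McLRecog
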