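import Cfsg.Agent.McLRecog.Action

/-!
A complement to the elementary subgroup in its normaliser, and the images of the seven letters.
-/

set_option autoImplicit false
set_option maxRecDepth 20000
set_option linter.style.haveILetI false

namespace Cfsg.Lib.McLRecog

open Cfsg Cfsg.Lib.CosetCert Cfsg.Lib.CosetCert.OutCert
open Cfsg.Lib.McLModel (data valid_data grp_eq)
open Cfsg.Lib.McLModel.Inv

/-- The generator of order two of the complement. -/
def laE : Pm := val laWord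

/-- The generator of order three of the complement. -/
def lbE : Pm := val lbWord

theorem compl_facts : lets ncLet laWord = true ∧ lets ncLet lbWord = true ∧ laE * laE = 1 ∧ lbE * lbE * lbE = 1 ∧
    (laE * lbE) ^ 7 = 1 ∧
    ∀ i < 16, ∀ j < 16, eE i * laE * (eE i * laE) = 1 → eE j * lbE * (eE j * lbE) * (eE j * lbE) = 1 →
      (eE i * laE * (eE j * lbE)) ^ 7 = 1 →
        ∃ e < 16, eE e * laE * (eE e)⁻¹ = eE i * laE ∧ eE e * lbE * (eE e)⁻¹ = eE j * lbE := by
  have h := compl_ok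
  simp only [Bool.and_eq_true, List.all_eq_true, List.mem_range] at h
  obtain ⟨⟨⟨⟨⟨ha, hb⟩, h2⟩, h3⟩, h7⟩, hall⟩ := h
  have hrep : ∀ (m : ℕ) (w : List ℕ), val (List.replicate m w).flatten = val w ^ m := by
    intro m w
    induction m with
    | zero => simp [val_nil]
    | succ m ih => rw [List.replicate_succ, List.flatten_cons, val_app, ih, pow_succ']
  have hinrep : ∀ (m : ℕ) (w : List ℕ), inL w = true → inL (List.replicate m w).flatten = true := by
    intro m w hw
    induction m with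
    | zero => rfl
    | succ m ih =>
      rw [List.replicate_succ, List.flatten_cons]
      exact inL_app hw ih
  have e2 := eqW_sound h2
  have e3 := eqW_sound h3
  have e7 := eqW_sound h7
  rw [val_app, val_nil] at e2
  rw [val_app, val_app, val_nil] at e3
  rw [hrep, val_app, val_nil] at e7
  refine ⟨ha, hb, e2, e3, e7, fun i hi j hj a2 b3 c7 => ?_⟩
  have hia := inL_app (eW_inL hi) (lets_inL ncLet_lt ha)
  have hjb := inL_app (eW_inL hj) (lets_inL ncLet_lt hb)
  have := hall i hi j hj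
  simp only [Bool.or_eq_true, Bool.not_eq_true', Bool.and_eq_false_iff, List.any_eq_true] at this
  rcases this with ((h' | h') | h') | ⟨⟨i', j', e⟩, -, h'⟩
  · rw [(eqW_iff (inL_app hia hia) rfl).2 (by simp only [val_app, val_nil]; exact a2)] at h'
    exact Bool.noConfusion h'
  · rw [(eqW_iff (inL_app (inL_app hjb hjb) hjb) rfl).2 (by simp only [val_app, val_nil]; exact b3)] at h'
    exact Bool.noConfusion h'
  · rw [(eqW_iff (hinrep 7 _ (inL_app hia hjb)) rfl).2 (by rw [hrep]; simp only [val_app, val_nil]; exact c7)] at h'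
    exact Bool.noConfusion h'
  · simp only [Bool.and_eq_true, beq_iff_eq] at h'
    obtain ⟨⟨⟨⟨-, -⟩, he⟩, h4⟩, h5⟩ := h'
    have he' := Nat.le_of_ble_eq_true he
    have h4' := eqW_sound h4
    have h5' := eqW_sound h5
    rw [val_cj (eW_inL he'), val_app] at h4' h5'
    exact ⟨e, he', h4', h5'⟩

/-- The elements of the complement in the Sylow subgroup. -/
def Aset : Set Pm := {z | ∃ a ∈ sCompl, z = sE' a}

theorem sCompl_lt {a : ℕ} (ha : a ∈ sCompl) : a < 128 := by
  have h := List.all_eq_true.1 sCompl_ok.1 a ha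
  rw [Bool.and_eq_true] at h
  exact Nat.le_of_ble_eq_true h.1

theorem sCompl_mul {a b : ℕ} (ha : a ∈ sCompl) (hb : b ∈ sCompl) : ∃ d ∈ sCompl, sE' a * sE' b = sE' d := by
  have h := List.all_eq_true.1 sCompl_ok.1 a ha
  rw [Bool.and_eq_true] at h
  have h2 := List.all_eq_true.1 h.2 b hb
  rw [List.contains_iff_mem, List.mem_map] at h2
  obtain ⟨d, hd, e⟩ := h2
  refine ⟨d, hd, ?_⟩
  have hab := inL_app (s_inL (sCompl_lt ha)) (s_inL (sCompl_lt hb))
  rw [sE', sE', sE', ← val_app]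
  exact ext5 (val_mem hab) (val_mem (s_inL (sCompl_lt hd)))
    (by rw [imgs5_val hab, imgs5_val (s_inL (sCompl_lt hd)), e])

/-- The complement in the Sylow subgroup. -/
def AM : Subgroup Pm where
  carrier := Aset
  one_mem' := ⟨0, List.contains_iff_mem.1 sCompl_ok.2.2.2.2, sE'_zero.symm⟩
  mul_mem' := by
    rintro _ _ ⟨a, ha, rfl⟩ ⟨b, hb, rfl⟩
    exact sCompl_mul ha hb
  inv_mem' := by
    rintro _ ⟨a, ha, rfl⟩
    have hp : ∀ k : ℕ, sE' a ^ k ∈ Aset := fun k => by
      induction k with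
      | zero => exact ⟨0, List.contains_iff_mem.1 sCompl_ok.2.2.2.2, by rw [pow_zero, sE'_zero]⟩
      | succ k ih =>
        obtain ⟨b, hb, e⟩ := ih
        rw [pow_succ, e]
        exact sCompl_mul hb ha
    have e : (sE' a)⁻¹ = sE' a ^ (orderOf (sE' a) - 1) := by
      rw [eq_comm, eq_inv_iff_mul_eq_one, ← pow_succ, Nat.sub_add_cancel (orderOf_pos _), pow_orderOf_eq_one]
    rw [e]
    exact hp _

theorem mem_AM {z : Pm} : z ∈ AM ↔ ∃ a ∈ sCompl, z = sE' a := Iff.rfl

theorem AM_le : AM ≤ SM := fun _ ⟨_, ha, e⟩ => e ▸ SM_mem _ (sCompl_lt ha)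

theorem AM_card : Nat.card AM = 8 := by
  rw [← Nat.card_fin 8]
  refine (Nat.card_eq_of_bijective (fun i : Fin 8 => (⟨sE' (sCompl.getD i 0), _, (by
    rw [List.getD_eq_getElem _ _ (by rw [sCompl_ok.2.1]; exact i.2)]
    exact List.getElem_mem _), rfl⟩ : AM)) ⟨fun a b h => ?_, ?_⟩).symm
  · have ha : (a : ℕ) < sCompl.length := by rw [sCompl_ok.2.1]; exact a.2
    have hb : (b : ℕ) < sCompl.length := by rw [sCompl_ok.2.1]; exact b.2
    have e := congrArg Subtype.val h
    simp only [List.getD_eq_getElem _ _ ha, List.getD_eq_getElem _ _ hb] at e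
    exact Fin.ext ((List.Nodup.getElem_inj_iff sCompl_ok.2.2.1).1
      (sE'_inj (sCompl_lt (List.getElem_mem ha)) (sCompl_lt (List.getElem_mem hb)) e))
  · rintro ⟨z, a, ha, rfl⟩
    obtain ⟨i, hi, rfl⟩ := List.getElem_of_mem ha
    exact ⟨⟨i, sCompl_ok.2.1 ▸ hi⟩, Subtype.ext (by simp only [List.getD_eq_getElem _ _ hi])⟩

theorem AM_inf {z : Pm} (hz : z ∈ AM) (hE : z ∈ Eset) : z = 1 := by
  obtain ⟨a, ha, rfl⟩ := hz
  obtain ⟨i, hi, e⟩ := hE
  have h := List.all_eq_true.1 sCompl_ok.2.2.2.1 a ha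
  simp only [Bool.or_eq_true, beq_iff_eq, Bool.not_eq_true'] at h
  rcases h with rfl | h
  · exact sE'_zero
  · rw [List.contains_iff_mem.2 (sE_mem_iff.2 ⟨i, hi,
      sE'_inj (sE_eq hi).1 (sCompl_lt ha) ((sE_eq hi).2.trans e.symm)⟩)] at h
    exact Bool.noConfusion h

namespace Ctx

variable {G : Type*} [Group G] [Finite G] (c : Ctx G)

/-- A complement to the elementary subgroup containing the two generators. -/
structure IsCompl' (K : Subgroup G) : Prop where
  le : K ≤ Subgroup.normalizer (c.E : Set G)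
  inf : ∀ k ∈ K, k ∈ c.E → k = 1
  split : ∀ n ∈ Subgroup.normalizer (c.E : Set G), ∃ e ∈ c.E, ∃ k ∈ K, n = e * k
  la : c.f laE ∈ K
  lb : c.f lbE ∈ K

theorem IsCompl'.unique {K : Subgroup G} (hK : c.IsCompl' K) {k k' : G} (hk : k ∈ K) (hk' : k' ∈ K) {p : List ℕ}
    (hp : c.Acts k p) (hp' : c.Acts k' p) : k = k' := by
  obtain ⟨q, hq⟩ := c.exists_acts (inv_mem (c.acts_normalizer hp))
  have h1 : c.Acts (k⁻¹ * k) (pmul q p) := c.acts_mul hq hp
  have h2 : c.Acts (k⁻¹ * k') (pmul q p) := c.acts_mul hq hp'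
  rw [inv_mul_cancel] at h1
  rw [c.acts_unique h1 c.acts_one] at h2
  exact inv_mul_eq_one.1 (hK.inf _ (mul_mem (inv_mem hk) hk') (c.acts_trivial h2))

theorem exists_compl : ∃ K, c.IsCompl' K := by
  classical
  haveI : Fact (Nat.Prime 2) := ⟨Nat.prime_two⟩
  set N := Subgroup.normalizer (c.E : Set G) with hN
  have hEN : c.E ≤ N := Subgroup.le_normalizer
  have hUN : c.U ≤ N := fun _ h => c.normal_E h
  haveI : (c.E.subgroupOf N).Normal := Subgroup.normal_subgroupOf_of_le_normalizer le_rfl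
  haveI : IsMulCommutative (c.E.subgroupOf N) := ⟨⟨fun a b => by
    obtain ⟨i, hi, ei⟩ := a.2
    obtain ⟨j, hj, ej⟩ := b.2
    apply Subtype.ext; apply Subtype.ext
    show (a.1.1 : G) * b.1.1 = b.1.1 * a.1.1
    rw [show a.1.1 = c.ge i from ei, show b.1.1 = c.ge j from ej, c.ge_comm hi hj]⟩⟩
  obtain ⟨Q, hQ⟩ := c.sylow_U
  let A : Subgroup G := (AM.subgroupOf centP).map c.ι
  have hmemA : ∀ g, g ∈ A ↔ ∃ z ∈ AM, g = c.f z := fun g => by
    constructor
    · rintro ⟨⟨z, hz⟩, hz', rfl⟩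
      exact ⟨z, hz', (c.f_def hz).symm⟩
    · rintro ⟨z, hz, rfl⟩
      exact ⟨⟨z, SM_le (AM_le hz)⟩, hz, (c.f_def (SM_le (AM_le hz))).symm⟩
  have hAU : A ≤ c.U := fun g hg => by
    obtain ⟨z, hz, rfl⟩ := (hmemA g).1 hg
    exact c.mem_U.2 ⟨z, AM_le hz, rfl⟩
  have hAcard : Nat.card A = 8 := by
    rw [← AM_card, Nat.card_congr (Subgroup.equivMapOfInjective _ _ c.inj).symm.toEquiv,
      Nat.card_congr (Subgroup.subgroupOfEquivOfLe (AM_le.trans SM_le)).toEquiv]
  have hAE : ∀ g ∈ A, g ∈ c.E → g = 1 := fun g hg hgE => by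
    obtain ⟨z, hz, rfl⟩ := (hmemA g).1 hg
    obtain ⟨i, hi, e⟩ := hgE
    rw [AM_inf hz ⟨i, hi, c.f_inj (SM_le (AM_le hz)) (eE_centP hi) e⟩, c.f_one]
  have hcop : (Nat.card (c.E.subgroupOf N)).Coprime (c.U.subgroupOf N).index := by
    rw [Nat.card_congr (Subgroup.subgroupOfEquivOfLe hEN).toEquiv, c.E_card, show (16 : ℕ) = 2 ^ 4 by norm_num,
      Nat.coprime_pow_left_iff (by norm_num), Nat.Prime.coprime_iff_not_dvd Nat.prime_two, Subgroup.index]
    intro h
    have h1 : ¬ 2 ∣ (Q : Subgroup G).index := Q.not_dvd_index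
    rw [hQ] at h1
    exact h1 (h.trans (Subgroup.relIndex_dvd_index_of_le hUN))
  have hsup : c.E.subgroupOf N ⊔ A.subgroupOf N = c.U.subgroupOf N := by
    refine le_antisymm (sup_le (fun x hx => c.E_le_U hx) (fun x hx => hAU hx)) ?_
    have hbij : Function.Bijective (fun p : c.E × A => (⟨p.1.1 * p.2.1, mul_mem (c.E_le_U p.1.2) (hAU p.2.2)⟩ : c.U)) := by
      refine (Nat.bijective_iff_injective_and_card _).2 ⟨fun a b h => ?_, ?_⟩
      · have e : a.1.1 * a.2.1 = b.1.1 * b.2.1 := congrArg Subtype.val h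
        have e' : b.1.1⁻¹ * a.1.1 = b.2.1 * a.2.1⁻¹ := by
          rw [inv_mul_eq_iff_eq_mul, ← mul_assoc, eq_mul_inv_iff_mul_eq, e]
        have h1 := hAE _ (mul_mem b.2.2 (inv_mem a.2.2)) (e' ▸ mul_mem (inv_mem b.1.2) a.1.2)
        rw [h1, inv_mul_eq_one] at e'
        exact Prod.ext (Subtype.ext e'.symm) (Subtype.ext (mul_inv_eq_one.1 h1).symm)
      · rw [Nat.card_prod, c.E_card, hAcard, c.U_card]
    intro x hx
    obtain ⟨⟨e, a⟩, h⟩ := hbij.2 ⟨x.1, hx⟩
    have hxe : x = (⟨e.1, hEN e.2⟩ : N) * ⟨a.1, hUN (hAU a.2)⟩ := Subtype.ext (congrArg Subtype.val h).symm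
    rw [hxe]
    exact Subgroup.mul_mem_sup e.2 a.2
  obtain ⟨H, hH⟩ := Cfsg.Lib.SolvStruct.exists_complement_averaging (K := c.E.subgroupOf N) (U := c.U.subgroupOf N)
    (fun x hx => c.E_le_U hx) hcop (A.subgroupOf N) (fun x hx => hAU hx) (by
      rw [eq_bot_iff]
      rintro x ⟨hxA, hxE⟩
      exact Subtype.ext (hAE _ hxA hxE)) hsup
  set K₀ := H.map N.subtype with hK₀
  have hle : K₀ ≤ N := Subgroup.map_subtype_le H
  have hinf : ∀ k ∈ K₀, k ∈ c.E → k = 1 := by
    rintro _ ⟨x, hx, rfl⟩ hxE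
    exact congrArg Subtype.val (Subgroup.disjoint_def.1 hH.disjoint (show x ∈ c.E.subgroupOf N from hxE) hx)
  have hsplit : ∀ n ∈ N, ∃ e ∈ c.E, ∃ k ∈ K₀, n = e * k := fun n hn => by
    obtain ⟨⟨⟨e, he⟩, ⟨k, hk⟩⟩, h⟩ := hH.2 ⟨n, hn⟩
    exact ⟨e, he, k, ⟨k, hk, rfl⟩, (congrArg Subtype.val h).symm⟩
  obtain ⟨hla, hlb, a2, b3, ab7, hfix⟩ := compl_facts
  have hlaC : laE ∈ centP := val_centP (lets_mono ncLet_c hla)
  have hlbC : lbE ∈ centP := val_centP (lets_mono ncLet_c hlb)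
  have lift : ∀ z ∈ centP, c.f z ∈ N → ∃ i < 16, c.f (eE i * z) ∈ K₀ := fun z hz hzN => by
    obtain ⟨e, ⟨i, hi, rfl⟩, k, hk, h⟩ := hsplit _ hzN
    refine ⟨i, hi, ?_⟩
    rw [c.f_mul (eE_centP hi) hz, show c.f (eE i) = c.ge i from rfl, h, ← mul_assoc, c.ge_sq hi, one_mul]
    exact hk
  obtain ⟨i, hi, hia⟩ := lift laE hlaC (c.acts_normalizer (c.acts_word hla))
  obtain ⟨j, hj, hjb⟩ := lift lbE hlbC (c.acts_normalizer (c.acts_word hlb))
  have hA1 : c.Acts (c.f (eE i * laE)) (actW laWord) := by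
    have h := c.acts_mul (c.acts_E (c.mem_E.2 ⟨i, hi, rfl⟩)) (c.acts_word hla)
    rw [Ctx.ge, ← c.f_mul (eE_centP hi) (val_centP (lets_mono ncLet_c hla))] at h
    have he : pmul (List.range 16) (actW laWord) = actW laWord := canon_ext (canon_pmul _ _) (canon_actW _)
      fun j hj => by rw [pap_pmul hj, pap_range ((act_word (lets_mono ncLet_n hla) j hj).1)]
    rw [he] at h
    exact h
  have hB1 : c.Acts (c.f (eE j * lbE)) (actW lbWord) := by
    have h := c.acts_mul (c.acts_E (c.mem_E.2 ⟨j, hj, rfl⟩)) (c.acts_word hlb)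
    rw [Ctx.ge, ← c.f_mul (eE_centP hj) (val_centP (lets_mono ncLet_c hlb))] at h
    have he : pmul (List.range 16) (actW lbWord) = actW lbWord := canon_ext (canon_pmul _ _) (canon_actW _)
      fun j hj => by rw [pap_pmul hj, pap_range ((act_word (lets_mono ncLet_n hlb) j hj).1)]
    rw [he] at h
    exact h
  have ha := mul_mem (eE_centP hi) hlaC
  have hb := mul_mem (eE_centP hj) hlbC
  -- powers
  have triv : ∀ {x : G} {y : Pm}, x ∈ K₀ → y ∈ centP → y = 1 → (∀ p, c.Acts (c.f y) p → c.Acts x p) → x = 1 := by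
    intro x y hx _ hy1 h
    refine hinf x hx (c.acts_trivial ?_)
    refine h _ ?_
    rw [hy1, c.f_one]
    exact c.acts_one
  have r2 : eE i * laE * (eE i * laE) = 1 := by
    refine c.f_inj (mul_mem ha ha) (one_mem _) ?_
    rw [c.f_mul ha ha, c.f_one]
    refine triv (mul_mem hia hia) (mul_mem hlaC hlaC) a2 fun p hp => ?_
    rw [c.f_mul hlaC hlaC] at hp
    rw [c.acts_unique hp (c.acts_mul (c.acts_word hla) (c.acts_word hla))]
    exact c.acts_mul hA1 hA1
  have r3 : eE j * lbE * (eE j * lbE) * (eE j * lbE) = 1 := by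
    refine c.f_inj (mul_mem (mul_mem hb hb) hb) (one_mem _) ?_
    rw [c.f_mul (mul_mem hb hb) hb, c.f_mul hb hb, c.f_one]
    refine triv (mul_mem (mul_mem hjb hjb) hjb) (mul_mem (mul_mem hlbC hlbC) hlbC) b3 fun p hp => ?_
    rw [c.f_mul (mul_mem hlbC hlbC) hlbC, c.f_mul hlbC hlbC] at hp
    rw [c.acts_unique hp (c.acts_mul (c.acts_mul (c.acts_word hlb) (c.acts_word hlb)) (c.acts_word hlb))]
    exact c.acts_mul (c.acts_mul hB1 hB1) hB1
  have hfpow : ∀ {z : Pm}, z ∈ centP → ∀ m : ℕ, c.f (z ^ m) = c.f z ^ m := fun {z} hz m => by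
    induction m with
    | zero => rw [pow_zero, pow_zero, c.f_one]
    | succ m ih => rw [pow_succ, pow_succ, c.f_mul (pow_mem hz m) hz, ih]
  have r7 : (eE i * laE * (eE j * lbE)) ^ 7 = 1 := by
    refine c.f_inj (pow_mem (mul_mem ha hb) 7) (one_mem _) ?_
    rw [hfpow (mul_mem ha hb), c.f_mul ha hb, c.f_one]
    refine triv (pow_mem (mul_mem hia hjb) 7) (pow_mem (mul_mem hlaC hlbC) 7) ab7 fun p hp => ?_
    rw [hfpow (mul_mem hlaC hlbC), c.f_mul hlaC hlbC] at hp
    have key : ∀ (m : ℕ), ∃ q, c.Acts ((c.f laE * c.f lbE) ^ m) q ∧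
        c.Acts ((c.f (eE i * laE) * c.f (eE j * lbE)) ^ m) q := fun m => by
      induction m with
      | zero => exact ⟨_, by rw [pow_zero]; exact c.acts_one, by rw [pow_zero]; exact c.acts_one⟩
      | succ m ih =>
        obtain ⟨q, h1, h2⟩ := ih
        exact ⟨_, by rw [pow_succ]; exact c.acts_mul h1 (c.acts_mul (c.acts_word hla) (c.acts_word hlb)),
          by rw [pow_succ]; exact c.acts_mul h2 (c.acts_mul hA1 hB1)⟩
    obtain ⟨q, h1, h2⟩ := key 7
    rw [c.acts_unique hp h1]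
    exact h2
  obtain ⟨e, he, ea, eb⟩ := hfix i hi j hj r2 r3 r7
  -- conjugate the complement
  have hge : c.ge e ∈ N := hEN ⟨e, he, rfl⟩
  refine ⟨K₀.comap (MulAut.conj (c.ge e)).toMonoidHom, ⟨fun k hk => ?_, fun k hk hkE => ?_, fun n hn => ?_, ?_, ?_⟩⟩
  · have h := mul_mem (mul_mem (inv_mem hge) (hle hk)) hge
    simpa [mul_assoc] using h
  · have h := hinf _ hk (mul_mem (mul_mem (c.mem_E.2 ⟨e, he, rfl⟩) hkE) (inv_mem (c.mem_E.2 ⟨e, he, rfl⟩)))
    exact (MulAut.conj (c.ge e)).injective (h.trans (map_one _).symm)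
  · obtain ⟨x, hx, k, hk, h⟩ := hsplit (c.ge e * n * (c.ge e)⁻¹) (mul_mem (mul_mem hge hn) (inv_mem hge))
    refine ⟨(c.ge e)⁻¹ * x * c.ge e, mul_mem (mul_mem (inv_mem (c.mem_E.2 ⟨e, he, rfl⟩)) hx) (c.mem_E.2 ⟨e, he, rfl⟩),
      (c.ge e)⁻¹ * k * c.ge e, ?_, ?_⟩
    · show c.ge e * ((c.ge e)⁻¹ * k * c.ge e) * (c.ge e)⁻¹ ∈ K₀
      rwa [show c.ge e * ((c.ge e)⁻¹ * k * c.ge e) * (c.ge e)⁻¹ = k by group]
    · calc n = (c.ge e)⁻¹ * (c.ge e * n * (c.ge e)⁻¹) * c.ge e := by group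
        _ = _ := by rw [h]; group
  · show c.ge e * c.f laE * (c.ge e)⁻¹ ∈ K₀
    rw [Ctx.ge, ← c.f_conj (eE_centP he) hlaC, ea]
    exact hia
  · show c.ge e * c.f lbE * (c.ge e)⁻¹ ∈ K₀
    rw [Ctx.ge, ← c.f_conj (eE_centP he) hlbC, eb]
    exact hjb

end Ctx

theorem lt_grp (l : ℕ) (hl : l < 7) : lt l ∈ data.grp := lt_mem hl

theorem four_moves : pap (eAct.getD 4 []) 1 < 16 ∧ pap (eAct.getD 4 []) 1 ≠ 1 := by decide +kernel

theorem four_conj : lt 4 * tPerm * (lt 4)⁻¹ = eE (pap (eAct.getD 4 []) 1) := by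
  have h := (act_letter (show 4 ∈ nLet by decide) (show 1 < 16 by norm_num)).2
  rwa [eE_one] at h

theorem four_comm : tPerm * (lt 4 * tPerm * (lt 4)⁻¹) = lt 4 * tPerm * (lt 4)⁻¹ * tPerm := by
  rw [four_conj, ← eE_one]
  exact eE_comm (by norm_num) four_moves.1

theorem four_ne : lt 4 * tPerm * (lt 4)⁻¹ ≠ tPerm := by
  rw [four_conj, ← eE_one]
  exact fun e => four_moves.2 (eE_inj four_moves.1 (by norm_num) e)

theorem incl_range : (Subgroup.inclusion (show centP ≤ data.grp from inf_le_left)).range =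
    Subgroup.centralizer ({tG} : Set data.grp) := by
  ext z
  rw [Subgroup.mem_centralizer_singleton_iff]
  constructor
  · rintro ⟨w, rfl⟩
    exact Subtype.ext (mem_centP.1 w.2).2
  · exact fun h => ⟨⟨z.1, mem_centP.2 ⟨z.2, congrArg Subtype.val h⟩⟩, rfl⟩

theorem tG_val : (tG : Pm) = tPerm := rfl

theorem model_noniso : ∃ g : data.grp, Commute tG (g * tG * g⁻¹) ∧ g * tG * g⁻¹ ≠ tG := by
  refine ⟨⟨lt 4, lt_mem (show 4 < 7 by norm_num)⟩, Subtype.ext ?_, fun e => four_ne ?_⟩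
  · rw [Subgroup.coe_mul, Subgroup.coe_mul, Subgroup.coe_mul, Subgroup.coe_mul, Subgroup.coe_inv, tG_val]
    exact four_comm
  · have h := congrArg Subtype.val e
    rw [Subgroup.coe_mul, Subgroup.coe_mul, Subgroup.coe_inv, tG_val] at h
    exact h

/-- The model as a setting. -/
noncomputable def modelCtx : Ctx data.grp where
  t := tG
  ι := Subgroup.inclusion inf_le_left
  inj := Subgroup.inclusion_injective _
  range := incl_range
  map_t := rfl
  noniso := model_noniso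

theorem modelCtx_f {z : Pm} (hz : z ∈ centP) : ((modelCtx.f z : data.grp) : Pm) = z := by
  rw [modelCtx.f_def hz]
  rfl

theorem modelCtx_ge {i : ℕ} (hi : i < 16) : ((modelCtx.ge i : data.grp) : Pm) = eE i := modelCtx_f (eE_centP hi)

namespace Ctx

variable {G : Type*} [Group G] [Finite G] (c : Ctx G) (Km : Subgroup data.grp) (K : Subgroup G)

/-- Corresponding elements of the normalisers of the elementary subgroups. -/
def Rel (n : data.grp) (g : G) : Prop :=
  ∃ i < 16, ∃ k ∈ Km, ∃ k' ∈ K, ∃ p, n = modelCtx.ge i * k ∧ g = c.ge i * k' ∧ modelCtx.Acts k p ∧ c.Acts k' p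

variable {Km K} (hKm : modelCtx.IsCompl' Km) (hK : c.IsCompl' K)

theorem rel_one : c.Rel Km K 1 1 := ⟨0, by norm_num, 1, one_mem _, 1, one_mem _, List.range 16,
  by rw [modelCtx.ge_zero, one_mul], by rw [c.ge_zero, one_mul], modelCtx.acts_one, c.acts_one⟩

theorem rel_mul {n m : data.grp} {g h : G} (h1 : c.Rel Km K n g) (h2 : c.Rel Km K m h) : c.Rel Km K (n * m) (g * h) := by
  obtain ⟨i, hi, k, hk, k', hk', p, rfl, rfl, hp, hp'⟩ := h1
  obtain ⟨j, hj, l, hl, l', hl', q, rfl, rfl, hq, hq'⟩ := h2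
  have hj' := (hp.2 j hj).1
  refine ⟨tb eMul i (pap p j), eMul_lt hi hj', k * l, mul_mem hk hl, k' * l', mul_mem hk' hl', pmul p q, ?_, ?_,
    modelCtx.acts_mul hp hq, c.acts_mul hp' hq'⟩
  · rw [← modelCtx.ge_mul hi hj', ← (hp.2 j hj).2]
    group
  · rw [← c.ge_mul hi hj', ← (hp'.2 j hj).2]
    group

include hKm hK in
theorem rel_eq_one {g : G} (h : c.Rel Km K 1 g) : g = 1 := by
  obtain ⟨i, hi, k, hk, k', hk', p, e, rfl, hp, hp'⟩ := h
  have hk1 : k = 1 := hKm.inf k hk (by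
    rw [show k = (modelCtx.ge i)⁻¹ by exact eq_inv_of_mul_eq_one_right e.symm]
    exact inv_mem (modelCtx.mem_E.2 ⟨i, hi, rfl⟩))
  rw [hk1, mul_one] at e
  rw [hk1] at hp
  rw [modelCtx.acts_unique hp modelCtx.acts_one] at hp'
  rw [hK.inf k' hk' (c.acts_trivial hp'), mul_one,
    modelCtx.ge_inj hi (by norm_num) (e.symm.trans modelCtx.ge_zero.symm), c.ge_zero]

include hKm hK in
theorem rel_one_eq {n : data.grp} (h : c.Rel Km K n 1) : n = 1 := by
  obtain ⟨i, hi, k, hk, k', hk', p, rfl, e, hp, hp'⟩ := h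
  have hk1 : k' = 1 := hK.inf k' hk' (by
    rw [show k' = (c.ge i)⁻¹ by exact eq_inv_of_mul_eq_one_right e.symm]
    exact inv_mem (c.mem_E.2 ⟨i, hi, rfl⟩))
  rw [hk1, mul_one] at e
  rw [hk1] at hp'
  rw [c.acts_unique hp' c.acts_one] at hp
  rw [hKm.inf k hk (modelCtx.acts_trivial hp), mul_one,
    c.ge_inj hi (by norm_num) (e.symm.trans c.ge_zero.symm), modelCtx.ge_zero]

include hKm hK in
theorem rel_split {l : ℕ} (hl : l ∈ ncLet) : c.Rel Km K ⟨lt l, lt_mem (ncLet_lt l hl)⟩ (c.f (lt l)) := by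
  obtain ⟨k, hk, rfl⟩ := List.getElem_of_mem hl
  have h := List.all_eq_true.1 split_ok k (List.mem_range.2 hk)
  rw [List.getD_eq_getElem _ _ hk] at h
  simp only [Bool.and_eq_true, List.all_eq_true] at h
  obtain ⟨⟨hi, hcs⟩, heq⟩ := h
  have hi' := Nat.le_of_ble_eq_true hi
  set i := (lSplit.getD k (0, [])).1 with hi_def
  set cs := (lSplit.getD k (0, [])).2 with hcs_def
  let piece : ℕ → List ℕ := fun q => [laWord, lbWord, lbWord.reverse].getD q []
  obtain ⟨hla, hlb, -⟩ := compl_facts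
  have hlbr : lets ncLet lbWord.reverse = true := by rw [lets, List.all_reverse]; exact hlb
  have hpiece : ∀ q, Nat.blt q 3 = true → lets ncLet (piece q) = true ∧
      modelCtx.f (val (piece q)) ∈ Km ∧ c.f (val (piece q)) ∈ K := by
    intro q hq
    have : q < 3 := Nat.le_of_ble_eq_true hq
    interval_cases q
    · exact ⟨hla, hKm.la, hK.la⟩
    · exact ⟨hlb, hKm.lb, hK.lb⟩
    · refine ⟨hlbr, ?_, ?_⟩
      · show modelCtx.f (val lbWord.reverse) ∈ Km
        rw [val_rev (lets_inL ncLet_lt hlb), modelCtx.f_inv (val_centP (lets_mono ncLet_c hlb))]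
        exact inv_mem hKm.lb
      · show c.f (val lbWord.reverse) ∈ K
        rw [val_rev (lets_inL ncLet_lt hlb), c.f_inv (val_centP (lets_mono ncLet_c hlb))]
        exact inv_mem hK.lb
  have hW : ∀ {cs' : List ℕ}, (∀ q ∈ cs', Nat.blt q 3 = true) → lets ncLet (cs'.flatMap piece) = true ∧
      modelCtx.f (val (cs'.flatMap piece)) ∈ Km ∧ c.f (val (cs'.flatMap piece)) ∈ K := by
    intro cs'
    induction cs' with
    | nil =>
      intro _
      refine ⟨rfl, ?_, ?_⟩ <;> rw [List.flatMap_nil, val_nil]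
      · rw [modelCtx.f_one]
        exact one_mem _
      · rw [c.f_one]
        exact one_mem _
    | cons q r ih =>
      intro h
      obtain ⟨r1, r2, r3⟩ := ih fun a ha => h a (List.mem_cons_of_mem q ha)
      obtain ⟨q1, q2, q3⟩ := hpiece q (h q List.mem_cons_self)
      rw [List.flatMap_cons, val_app]
      refine ⟨lets_app q1 r1, ?_, ?_⟩
      · rw [modelCtx.f_mul (val_centP (lets_mono ncLet_c q1)) (val_centP (lets_mono ncLet_c r1))]
        exact mul_mem q2 r2
      · rw [c.f_mul (val_centP (lets_mono ncLet_c q1)) (val_centP (lets_mono ncLet_c r1))]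
        exact mul_mem q3 r3
  obtain ⟨hw, hwm, hwg⟩ := hW hcs
  have hwc := val_centP (lets_mono ncLet_c hw)
  have hval : lt ncLet[k] = eE i * val (cs.flatMap piece) := by
    have := eqW_sound heq
    rwa [val_one, splitW, val_app] at this
  refine ⟨i, hi', _, hwm, _, hwg, _, Subtype.ext ?_, ?_, modelCtx.acts_word hw, c.acts_word hw⟩
  · rw [Subgroup.coe_mul, modelCtx_ge hi', modelCtx_f hwc]
    exact hval
  · rw [hval, c.f_mul (eE_centP hi') hwc]
    rfl

include hKm hK in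
theorem rel_four : ∃ g, c.Rel Km K ⟨lt 4, lt_mem (by norm_num)⟩ g := by
  have h4 : modelCtx.Acts (⟨lt 4, lt_mem (by norm_num)⟩ : data.grp) (eAct.getD 4 []) := by
    refine ⟨eAct_canon 4 (by norm_num), fun i hi => ?_⟩
    obtain ⟨h1, h2⟩ := act_letter (show 4 ∈ nLet by decide) hi
    refine ⟨h1, Subtype.ext ?_⟩
    rw [Subgroup.coe_mul, Subgroup.coe_mul, Subgroup.coe_inv, modelCtx_ge hi, modelCtx_ge h1]
    exact h2
  obtain ⟨e, ⟨i, hi, rfl⟩, k, hk, hn⟩ := hKm.split _ (modelCtx.acts_normalizer h4)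
  obtain ⟨g, hg⟩ := c.realize_four
  obtain ⟨e', he', k', hk', rfl⟩ := hK.split _ (c.acts_normalizer hg)
  obtain ⟨p, hp⟩ := modelCtx.exists_acts (hKm.le hk)
  obtain ⟨p', hp'⟩ := c.exists_acts (hK.le hk')
  have e1 : p = eAct.getD 4 [] := by
    have hh := modelCtx.acts_mul (modelCtx.acts_E (modelCtx.mem_E.2 ⟨i, hi, rfl⟩)) hp
    rw [← hn] at hh
    rw [modelCtx.acts_unique h4 hh]
    exact canon_ext hp.1 (canon_pmul _ _) fun j hj => by rw [pap_pmul hj, pap_range (hp.2 j hj).1]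
  have e2 : p' = eAct.getD 4 [] := by
    rw [c.acts_unique hg (c.acts_mul (c.acts_E he') hp')]
    exact canon_ext hp'.1 (canon_pmul _ _) fun j hj => by rw [pap_pmul hj, pap_range (hp'.2 j hj).1]
  exact ⟨c.ge i * k', i, hi, k, hk, k', hk', _, hn, rfl, e1 ▸ hp, e2 ▸ hp'⟩

end Ctx

/-- Images of the letters with the relations of both local subgroups. -/
structure Images {G : Type*} [Group G] [Finite G] (c : Ctx G) where
  /-- The images. -/
  X : ℕ → G
  cent : ∀ w, lets cLet w = true → wval X w = c.f (val w)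
  normal : ∀ w, lets nLet w = true → val w = 1 → wval X w = 1
  faithful : ∀ w, lets nLet w = true → wval X w = 1 → val w = 1

theorem Ctx.exists_images {G : Type*} [Group G] [Finite G] (c : Ctx G) : Nonempty (Images c) := by
  obtain ⟨Km, hKm⟩ := modelCtx.exists_compl
  obtain ⟨K, hK⟩ := c.exists_compl
  obtain ⟨g, hg⟩ := c.rel_four hKm hK
  let X : ℕ → G := fun l => if l = 4 then g else c.f (lt l)
  have hX : ∀ l ∈ cLet, X l = c.f (lt l) := fun l hl => if_neg (by rintro rfl; exact absurd hl (by decide))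
  have hcent : ∀ w, lets cLet w = true → wval X w = c.f (val w) := by
    intro w
    induction w with
    | nil => intro _; rw [val_nil, c.f_one]; simp [wval]
    | cons l w ih =>
      intro h
      rw [lets, List.all_cons, Bool.and_eq_true, List.contains_iff_mem] at h
      rw [val_cons, c.f_mul (lt_centP h.1) (val_centP h.2), ← hX l h.1, ← ih h.2]
      simp [wval]
  have hn : ∀ (w : List ℕ) (hw : lets nLet w = true),
      c.Rel Km K ⟨val w, val_mem (lets_inL nLet_lt hw)⟩ (wval X w) := by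
    intro w
    induction w with
    | nil =>
      intro _
      have := c.rel_one (Km := Km) (K := K)
      convert this using 1
      · exact Subtype.ext val_nil
      · simp [wval]
    | cons l w ih =>
      intro hw
      have h := hw
      rw [lets, List.all_cons, Bool.and_eq_true, List.contains_iff_mem] at h
      have hl : c.Rel Km K ⟨lt l, lt_mem (nLet_lt l h.1)⟩ (X l) := by
        by_cases h4 : l = 4
        · subst h4
          exact hg
        · have hnc : l ∈ ncLet := by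
            have := h.1
            simp only [nLet, List.mem_cons, List.not_mem_nil, or_false] at this
            simp only [ncLet, List.mem_cons, List.not_mem_nil, or_false]
            omega
          rw [hX l (ncLet_c l hnc)]
          exact c.rel_split hKm hK hnc
      have := c.rel_mul hl (ih h.2)
      rw [show wval X (l :: w) = X l * wval X w by simp [wval]]
      convert this using 1
      exact Subtype.ext (val_cons l w)
  refine ⟨⟨X, hcent, fun w hw h1 => c.rel_eq_one hKm hK ?_, fun w hw h1 => ?_⟩⟩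
  · convert hn w hw using 1
    exact Subtype.ext h1.symm
  · have h := hn w hw
    rw [h1] at h
    exact congrArg Subtype.val (c.rel_one_eq hKm hK h)

end Cfsg.Lib.McLRecog
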