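import Cfsg.Agent.McLRecog.Model
import Cfsg.Agent.McLRecog.Checks2

/-!
The elementary subgroup, a Sylow 2-subgroup and the involutions of the centraliser in the model.
-/

set_option autoImplicit false
set_option maxRecDepth 20000

namespace Cfsg.Lib.McLRecog

open Cfsg Cfsg.Lib.CosetCert Cfsg.Lib.CosetCert.OutCert
open Cfsg.Lib.McLModel (data valid_data grp_eq)
open Cfsg.Lib.McLModel.Inv

/-- An element of the elementary subgroup. -/
def eE (i : ℕ) : Pm := val (eW i)

/-- An element of the Sylow subgroup. -/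
def sE' (i : ℕ) : Pm := val (sW i)

theorem eE_one : eE 1 = tPerm := t_val

theorem eE_zero : eE 0 = 1 := by rw [eE, e_ok.2, val_nil]

theorem eE_mul {i j : ℕ} (hi : i < 16) (hj : j < 16) : eE i * eE j = eE (tb eMul i j) :=
  ((eW_ok hi).2.2 j hj).2.1

theorem eE_sq {i : ℕ} (hi : i < 16) : eE i * eE i = 1 := by
  rw [eE_mul hi hi, (eW_ok hi).2.1, eE_zero]

theorem eE_comm {i j : ℕ} (hi : i < 16) (hj : j < 16) : eE i * eE j = eE j * eE i := by
  rw [eE_mul hi hj, eE_mul hj hi, ((eW_ok hi).2.2 j hj).2.2.1]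

theorem eE_inj {i j : ℕ} (hi : i < 16) (hj : j < 16) (h : eE i = eE j) : i = j :=
  (((eW_ok hi).2.2 j hj).2.2.2).resolve_right fun hne => hne (key_of_eq (eW_inL hi) (eW_inL hj) h)

theorem eE_centP {i : ℕ} (hi : i < 16) : eE i ∈ centP := val_centP (lets_mono ncLet_c (eW_ok hi).1)

theorem eMul_lt {i j : ℕ} (hi : i < 16) (hj : j < 16) : tb eMul i j < 16 := ((eW_ok hi).2.2 j hj).1

/-- The elementary subgroup, as a set. -/
def Eset : Set Pm := {z | ∃ i < 16, z = eE i}

/-- An image of the elementary subgroup, as a set. -/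
def orbSet (i : ℕ) : Set Pm := {z | ∃ e < 16, z = val (cjW (orbWords.getD i []) (eW e))}

theorem orb_words {i : ℕ} (hi : i < 15) : lets cLet (orbWords.getD i []) = true := by
  have h := List.all_eq_true.1 orb_ok.1 i (List.mem_range.2 hi)
  rw [Bool.and_eq_true] at h
  exact h.1

theorem orb_inL {i e : ℕ} (hi : i < 15) (he : e < 16) : inL (cjW (orbWords.getD i []) (eW e)) = true :=
  inL_cj (lets_inL cLet_lt (orb_words hi)) (eW_inL he)

theorem orbSet_zero : orbSet 0 = Eset := by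
  ext z
  simp only [orbSet, Eset, Set.mem_ofPred_eq, orb_ok.2, cjW, List.reverse_nil, List.nil_append, List.append_nil, eE]

theorem orbKeys_spec {i : ℕ} (hi : i < 15) {w : List ℕ} (hw : inL w = true) :
    key w ∈ orbKeys i ↔ val w ∈ orbSet i := by
  simp only [orbKeys, List.mem_map, List.mem_range, orbSet, Set.mem_ofPred_eq]
  constructor
  · rintro ⟨e, he, h⟩
    exact ⟨e, he, eqW_sound (by rw [eqW, hw, orb_inL hi he, h]; simp)⟩
  · rintro ⟨e, he, h⟩
    exact ⟨e, he, (key_of_eq hw (orb_inL hi he) h).symm⟩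

theorem orb_step {i l : ℕ} (hi : i < 15) (hl : l ∈ cLet) :
    tb orbStep i l < 15 ∧ ∀ z ∈ orbSet i, lt l * z * (lt l)⁻¹ ∈ orbSet (tb orbStep i l) := by
  have h := List.all_eq_true.1 orb_ok.1 i (List.mem_range.2 hi)
  rw [Bool.and_eq_true] at h
  have h2 := List.all_eq_true.1 h.2 l hl
  simp only [Bool.and_eq_true, List.all_eq_true, List.mem_range, List.contains_iff_mem] at h2
  have hj := Nat.le_of_ble_eq_true h2.1
  refine ⟨hj, ?_⟩
  rintro z ⟨e, he, rfl⟩
  have hr := lets_inL cLet_lt (orb_words hi)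
  have hl' : inL [l] = true := lets_inL cLet_lt (show lets cLet [l] = true by simp [lets, hl])
  have := (orbKeys_spec hj (inL_cj (inL_app hl' hr) (eW_inL he))).1 (h2.2 e he)
  rw [val_cj (inL_app hl' hr), val_app, val_one] at this
  rw [val_cj hr]
  simpa [mul_assoc] using this

/-- Every element of the centraliser carries the elementary subgroup to a listed image. -/
theorem orb_exhaust {c : Pm} (hc : c ∈ centP) : ∀ i < 15, ∃ j < 15, ∀ z ∈ orbSet i, c * z * c⁻¹ ∈ orbSet j := by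
  have hc' : c ∈ Submonoid.closure (lt '' {l | l ∈ cLet}) := by
    have hfin : (lt '' {l | l ∈ cLet}).Finite := (List.finite_toSet cLet).image lt
    rw [centP_gen, ← Subgroup.mem_toSubmonoid, Subgroup.closure_toSubmonoid_of_finite] at hc
    exact hc
  induction hc' using Submonoid.closure_induction with
  | mem x hx =>
    obtain ⟨l, hl, rfl⟩ := hx
    exact fun i hi => ⟨_, (orb_step hi hl).1, (orb_step hi hl).2⟩
  | one => exact fun i hi => ⟨i, hi, fun z hz => by simpa using hz⟩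
  | mul a b ha hb iha ihb =>
    intro i hi
    obtain ⟨j, hj, h1⟩ := ihb (by
      rw [centP_gen, ← Subgroup.mem_toSubmonoid, Subgroup.closure_toSubmonoid_of_finite]; exact hb) i hi
    obtain ⟨k, hk, h2⟩ := iha (by
      rw [centP_gen, ← Subgroup.mem_toSubmonoid, Subgroup.closure_toSubmonoid_of_finite]; exact ha) j hj
    exact ⟨k, hk, fun z hz => by simpa [mul_assoc] using h2 _ (h1 z hz)⟩

/-- The second elementary subgroup, as a set. -/
def Oset : Set Pm := {z | ∃ a ∈ sOther, z = sE' a}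

theorem s_words {i : ℕ} (hi : i < 128) : lets cLet (sW i) = true := by
  have h := List.all_eq_true.1 s_ok.1 i (List.mem_range.2 hi)
  rw [Bool.and_eq_true] at h
  exact h.1

theorem s_inL {i : ℕ} (hi : i < 128) : inL (sW i) = true := lets_inL cLet_lt (s_words hi)

theorem sE_centP {i : ℕ} (hi : i < 128) : sE' i ∈ centP := val_centP (s_words hi)

theorem sE'_zero : sE' 0 = 1 := by rw [sE', s_ok.2.1, val_nil]

theorem sE'_one : sE' 1 = tPerm := by rw [sE', eqW_sound s_ok.2.2, t_val]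

theorem sE'_inj {i j : ℕ} (hi : i < 128) (hj : j < 128) (h : sE' i = sE' j) : i = j :=
  List.inj_on_of_nodup_map s_nodup (List.mem_range.2 hi) (List.mem_range.2 hj) (key_of_eq (s_inL hi) (s_inL hj) h)

theorem s_step {i k : ℕ} (hi : i < 128) (hk : k < sGens.length) :
    sG k < 128 ∧ tb sStep i k < 128 ∧ sE' i * sE' (sG k) = sE' (tb sStep i k) := by
  have h := List.all_eq_true.1 s_ok.1 i (List.mem_range.2 hi)
  rw [Bool.and_eq_true] at h
  have h2 := List.all_eq_true.1 h.2 k (List.mem_range.2 hk)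
  simp only [Bool.and_eq_true] at h2
  exact ⟨Nat.le_of_ble_eq_true h2.1.1, Nat.le_of_ble_eq_true h2.1.2,
    by rw [sE', sE', sE', ← val_app]; exact eqW_sound h2.2⟩

/-- The Sylow subgroup of the centraliser. -/
def SM : Subgroup Pm := Subgroup.closure ((fun k => sE' (sG k)) '' Set.Iio sGens.length)

theorem SM_mem : ∀ i < 128, sE' i ∈ SM := by
  have key : ∀ n i : ℕ, i < 128 → ((List.range n).foldl (fun j _ => if j = 0 then 0 else (sPar.getD j (0, 0)).1) i) = 0 →
      sE' i ∈ SM := by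
    intro n
    induction n with
    | zero =>
      intro i _ h0
      obtain rfl : i = 0 := h0
      exact sE'_zero ▸ one_mem _
    | succ n ih =>
      intro i hi h0
      rcases Nat.eq_zero_or_pos i with rfl | hpos
      · exact sE'_zero ▸ one_mem _
      have h := List.all_eq_true.1 s_tree i (List.mem_range'_1.2 ⟨hpos, by omega⟩)
      simp only [Bool.and_eq_true, beq_iff_eq] at h
      have hp := Nat.le_of_ble_eq_true h.2
      obtain ⟨-, -, e⟩ := s_step hp (Nat.le_of_ble_eq_true h.1.1)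
      rw [h.1.2] at e
      rw [← e]
      refine mul_mem (ih _ hp ?_) (Subgroup.subset_closure ⟨_, Nat.le_of_ble_eq_true h.1.1, rfl⟩)
      rw [List.range_succ_eq_map, List.foldl_cons, List.foldl_map, if_neg hpos.ne'] at h0
      exact h0
  intro i hi
  rcases Nat.eq_zero_or_pos i with rfl | hpos
  · exact sE'_zero ▸ one_mem _
  exact key 128 i hi (beq_iff_eq.1 (List.all_eq_true.1 s_depth i (List.mem_range'_1.2 ⟨hpos, by omega⟩)))

theorem SM_exhaust {z : Pm} (hz : z ∈ SM) : ∃ i < 128, z = sE' i := by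
  have hfin : ((fun k => sE' (sG k)) '' Set.Iio sGens.length).Finite := (Set.finite_Iio _).image _
  rw [SM, ← Subgroup.mem_toSubmonoid, Subgroup.closure_toSubmonoid_of_finite] at hz
  induction hz using Submonoid.closure_induction_right with
  | one => exact ⟨0, by norm_num, sE'_zero.symm⟩
  | mul_right x _ y hy ih =>
    obtain ⟨k, hk, rfl⟩ := hy
    obtain ⟨i, hi, rfl⟩ := ih
    exact ⟨_, (s_step hi hk).2.1, (s_step hi hk).2.2⟩

theorem SM_le : SM ≤ centP := fun _ hz => by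
  obtain ⟨i, hi, rfl⟩ := SM_exhaust hz
  exact sE_centP hi

theorem SM_card : Nat.card SM = 128 := by
  rw [← Nat.card_fin 128]
  refine (Nat.card_eq_of_bijective (fun i : Fin 128 => (⟨sE' i, SM_mem i i.2⟩ : SM)) ⟨?_, ?_⟩).symm
  · intro a b h
    exact Fin.ext (sE'_inj a.2 b.2 (congrArg Subtype.val h))
  · rintro ⟨z, hz⟩
    obtain ⟨i, hi, rfl⟩ := SM_exhaust hz
    exact ⟨⟨i, hi⟩, rfl⟩

theorem SM_center {z : Pm} (hz : z ∈ SM) (h : ∀ q ∈ SM, z * q = q * z) : z = 1 ∨ z = tPerm := by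
  obtain ⟨i, hi, rfl⟩ := SM_exhaust hz
  by_cases h2 : i < 2
  · interval_cases i
    · exact Or.inl sE'_zero
    · exact Or.inr sE'_one
  have hc := List.all_eq_true.1 s_center i (List.mem_range'_1.2 ⟨by omega, by omega⟩)
  obtain ⟨k, hk, hk'⟩ := List.any_eq_true.1 hc
  rw [List.mem_range] at hk
  have hg := (s_step hi hk).1
  rw [(comW_iff (s_inL hi) (s_inL hg)).2 (h _ (SM_mem _ hg))] at hk'
  exact Bool.noConfusion hk'

theorem sE_eq {i : ℕ} (hi : i < 16) : sE.getD i 128 < 128 ∧ sE' (sE.getD i 128) = eE i := by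
  have h := List.all_eq_true.1 sE_ok.1 i (List.mem_range.2 hi)
  simp only [Bool.and_eq_true] at h
  exact ⟨Nat.le_of_ble_eq_true h.1.1, eqW_sound h.2⟩

theorem sOther_lt {a : ℕ} (ha : a ∈ sOther) : a < 128 := by
  obtain ⟨i, hi, rfl⟩ := List.getElem_of_mem ha
  rw [sE_ok.2.2.1] at hi
  have h := List.all_eq_true.1 sE_ok.1 i (List.mem_range.2 hi)
  simp only [Bool.and_eq_true] at h
  have h2 := Nat.le_of_ble_eq_true h.1.2
  rwa [List.getD_eq_getElem] at h2

theorem sE_mem_iff {a : ℕ} : a ∈ sE ↔ ∃ i < 16, sE.getD i 128 = a := by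
  constructor
  · intro ha
    obtain ⟨i, hi, rfl⟩ := List.getElem_of_mem ha
    exact ⟨i, by rwa [sE_ok.2.1] at hi, List.getD_eq_getElem _ _ hi⟩
  · rintro ⟨i, hi, rfl⟩
    rw [List.getD_eq_getElem _ _ (by rw [sE_ok.2.1]; exact hi)]
    exact List.getElem_mem _

theorem E_le_SM {z : Pm} (hz : z ∈ Eset) : z ∈ SM := by
  obtain ⟨i, hi, rfl⟩ := hz
  exact (sE_eq hi).2 ▸ SM_mem _ (sE_eq hi).1

/-- The Sylow subgroup normalises both elementary subgroups. -/
theorem SM_norm {n : Pm} (hn : n ∈ SM) : (∀ z ∈ Eset, n * z * n⁻¹ ∈ Eset) ∧ ∀ z ∈ Oset, n * z * n⁻¹ ∈ Oset := by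
  have gen : ∀ A ∈ eSets, ∀ k < sGens.length, ∀ a ∈ A, a < 128 →
      ∃ b ∈ A, (b < 128 → sE' (sG k) * sE' a * (sE' (sG k))⁻¹ = sE' b) := by
    intro A hA k hk a ha ha'
    have h := List.all_eq_true.1 (List.all_eq_true.1 (List.all_eq_true.1 s_norm A hA) k (List.mem_range.2 hk)) a ha
    rw [List.contains_iff_mem, List.mem_map] at h
    obtain ⟨b, hb, e⟩ := h
    refine ⟨b, hb, fun hb' => ?_⟩
    have hg := s_inL (s_step (i := 0) (by norm_num) hk).1
    rw [sE', sE', sE', ← val_cj hg]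
    exact ext5 (val_mem (inL_cj hg (s_inL ha'))) (val_mem (s_inL hb'))
      (by rw [imgs5_val (inL_cj hg (s_inL ha')), imgs5_val (s_inL hb'), e])
  have hfin : ((fun k => sE' (sG k)) '' Set.Iio sGens.length).Finite := (Set.finite_Iio _).image _
  rw [SM, ← Subgroup.mem_toSubmonoid, Subgroup.closure_toSubmonoid_of_finite] at hn
  induction hn using Submonoid.closure_induction with
  | mem x hx =>
    obtain ⟨k, hk, rfl⟩ := hx
    refine ⟨?_, ?_⟩
    · rintro z ⟨i, hi, rfl⟩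
      obtain ⟨b, hb, e⟩ := gen sE (by simp [eSets]) k hk _ (sE_mem_iff.2 ⟨i, hi, rfl⟩) (sE_eq hi).1
      obtain ⟨j, hj, rfl⟩ := sE_mem_iff.1 hb
      exact ⟨j, hj, by rw [← (sE_eq hi).2, ← (sE_eq hj).2]; exact e (sE_eq hj).1⟩
    · rintro z ⟨a, ha, rfl⟩
      obtain ⟨b, hb, e⟩ := gen sOther (by simp [eSets]) k hk a ha (sOther_lt ha)
      exact ⟨b, hb, e (sOther_lt hb)⟩
  | one => exact ⟨fun z hz => by simpa using hz, fun z hz => by simpa using hz⟩
  | mul a b _ _ iha ihb =>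
    exact ⟨fun z hz => by simpa [mul_assoc] using iha.1 _ (ihb.1 z hz),
      fun z hz => by simpa [mul_assoc] using iha.2 _ (ihb.2 z hz)⟩

theorem O_le_SM {z : Pm} (hz : z ∈ Oset) : z ∈ SM := by
  obtain ⟨a, ha, rfl⟩ := hz
  exact SM_mem _ (sOther_lt ha)

theorem Oset_tPerm : tPerm ∈ Oset := ⟨1, List.contains_iff_mem.1 sE_ok.2.2.2.2.2, sE'_one.symm⟩

/-- No element of the centraliser carries one elementary subgroup to the other. -/
theorem not_conj {c : Pm} (hc : c ∈ centP) : ¬ ∀ z, z ∈ Oset ↔ c⁻¹ * z * c ∈ Eset := by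
  intro h
  obtain ⟨j, hj, hj'⟩ := orb_exhaust hc 0 (by norm_num)
  obtain ⟨a, ha, hak⟩ := List.any_eq_true.1 (List.all_eq_true.1 other_sep j (List.mem_range.2 hj))
  have hmem := hj' (c⁻¹ * sE' a * c) (orbSet_zero ▸ (h _).1 ⟨a, ha, rfl⟩)
  rw [show c * (c⁻¹ * sE' a * c) * c⁻¹ = val (sW a) by rw [sE']; group] at hmem
  rw [List.contains_iff_mem.2 ((orbKeys_spec hj (s_inL (sOther_lt ha))).2 hmem)] at hak
  exact Bool.noConfusion hak

theorem mem_sSquare {i : ℕ} (hi : i < 128) (h : sE' i * sE' i = 1) : i ∈ sSquare := by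
  rw [sSquare, List.mem_filter]
  refine ⟨List.mem_range.2 hi, (eqW_iff (inL_app (s_inL hi) (s_inL hi)) rfl).2 ?_⟩
  rw [val_app, val_nil]
  exact h

/-- A non-central involution of the centraliser. -/
def clsE (i : ℕ) : Pm := val (clsW i)

theorem cls_words {i : ℕ} (hi : i < 210) : lets cLet (clsWords.getD i []) = true ∧ inL (clsW i) = true := by
  have h := List.all_eq_true.1 cls_ok.1 i (List.mem_range.2 hi)
  simp only [Bool.and_eq_true] at h
  exact ⟨h.1.1, inL_cj (lets_inL cLet_lt h.1.1) (eW_inL (by norm_num))⟩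

theorem invol_SM {z : Pm} (hz : z ∈ SM) (h : z * z = 1) (h1 : z ≠ 1) (ht : z ≠ tPerm) :
    ∃ c ∈ centP, c * z * c⁻¹ = eE 2 := by
  obtain ⟨i, hi, rfl⟩ := SM_exhaust hz
  have hs := List.all_eq_true.1 sSquare_ok i (mem_sSquare hi h)
  rw [Bool.or_eq_true] at hs
  rcases hs with hs | hs
  · obtain rfl | rfl : i = 0 ∨ i = 1 := by have := Nat.le_of_ble_eq_true hs; omega
    · exact absurd sE'_zero h1
    · exact absurd sE'_one ht
  · obtain ⟨q, -, hq⟩ := List.any_eq_true.1 hs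
    simp only [Bool.and_eq_true, beq_iff_eq] at hq
    have hq2 := Nat.le_of_ble_eq_true hq.1.2
    obtain ⟨hv, -⟩ := cls_words hq2
    refine ⟨(val (clsWords.getD q.2 []))⁻¹, inv_mem (val_centP hv), ?_⟩
    rw [show sE' i = val (clsW q.2) from eqW_sound hq.2, clsW, val_cj (lets_inL cLet_lt hv), eE]
    group

/-- An elementary subgroup of order sixteen of the Sylow subgroup containing the centre is one of the two. -/
theorem elem_SM {A : Subgroup Pm} (hA : A ≤ SM) (hcard : Nat.card A = 16) (hsq : ∀ a ∈ A, a * a = 1)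
    (ht : tPerm ∈ A) : (∀ z, z ∈ A ↔ z ∈ Eset) ∨ ∀ z, z ∈ A ↔ z ∈ Oset := by
  classical
  let T : Finset ℕ := (Finset.range 128).filter fun i => sE' i ∈ A
  have hmem : ∀ i, i ∈ T ↔ i < 128 ∧ sE' i ∈ A := fun i => by simp [T]
  have hT : T.card = 16 := by
    rw [← hcard, ← Nat.card_eq_finsetCard]
    refine Nat.card_eq_of_bijective (fun i : T => (⟨sE' i, ((hmem i).1 i.2).2⟩ : A)) ⟨fun a b h => ?_, fun z => ?_⟩
    · exact Subtype.ext (sE'_inj ((hmem a).1 a.2).1 ((hmem b).1 b.2).1 (congrArg Subtype.val h))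
    · obtain ⟨i, hi, e⟩ := SM_exhaust (hA z.2)
      exact ⟨⟨i, (hmem i).2 ⟨hi, e ▸ z.2⟩⟩, Subtype.ext e.symm⟩
  have hcomm : ∀ a ∈ A, ∀ b ∈ A, a * b = b * a := fun a ha b hb => by
    have e1 : a⁻¹ = a := inv_eq_of_mul_eq_one_left (hsq a ha)
    have e2 : b⁻¹ = b := inv_eq_of_mul_eq_one_left (hsq b hb)
    have e3 : (a * b)⁻¹ = a * b := inv_eq_of_mul_eq_one_left (hsq _ (mul_mem ha hb))
    rw [mul_inv_rev, e1, e2] at e3
    exact e3.symm
  have h0 : 0 ∈ T := (hmem 0).2 ⟨by norm_num, sE'_zero ▸ one_mem _⟩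
  have h1 : 1 ∈ T := (hmem 1).2 ⟨by norm_num, sE'_one ▸ ht⟩
  -- pairs lie in one of the sets
  have pair : ∀ x ∈ T, ∀ y ∈ T, 2 ≤ x → 2 ≤ y → x ≠ y → sE' x * sE' y ≠ tPerm →
      (x ∈ sE ∧ y ∈ sE) ∨ (x ∈ sOther ∧ y ∈ sOther) := by
    intro x hx y hy hx2 hy2 hne hxy
    obtain ⟨hx', hxA⟩ := (hmem x).1 hx
    obtain ⟨hy', hyA⟩ := (hmem y).1 hy
    have h := List.all_eq_true.1 pairs_ok x (mem_sSquare hx' (hsq _ hxA))
    simp only [Bool.or_eq_true, List.all_eq_true, List.any_eq_true, Bool.and_eq_true, beq_iff_eq,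
      List.contains_iff_mem] at h
    rcases h with h | h
    · exact absurd (Nat.le_of_ble_eq_true h) (by omega)
    rcases h y (mem_sSquare hy' (hsq _ hyA)) with (((((h | h) | h) | h) | h) | h)
    · exact absurd (Nat.le_of_ble_eq_true h) (by omega)
    · exact absurd h hne
    · refine absurd ?_ hxy
      rw [sE', sE', ← val_app, eqW_sound h, t_val]
    · rw [(comW_iff (s_inL hx') (s_inL hy')).2 (hcomm _ hxA _ hyA)] at h
      exact absurd h (by simp)
    · have hlt : sSquare.countP (fun z => comW (sW x) (sW z) && comW (sW y) (sW z)) < 16 := Nat.le_of_ble_eq_true h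
      refine absurd hlt (not_lt.2 ?_)
      rw [List.countP_eq_length_filter, ← hT]
      refine le_trans (Finset.card_le_card fun z hz => ?_) (List.toFinset_card_le _)
      obtain ⟨hz', hzA⟩ := (hmem z).1 hz
      rw [List.mem_toFinset, List.mem_filter, Bool.and_eq_true]
      exact ⟨mem_sSquare hz' (hsq _ hzA), (comW_iff (s_inL hx') (s_inL hz')).2 (hcomm _ hxA _ hzA),
        (comW_iff (s_inL hy') (s_inL hz')).2 (hcomm _ hyA _ hzA)⟩
    · obtain ⟨B, hB, hBx, hBy⟩ := h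
      simp only [eSets, List.mem_cons, List.not_mem_nil, or_false] at hB
      rcases hB with rfl | rfl
      · exact Or.inl ⟨hBx, hBy⟩
      · exact Or.inr ⟨hBx, hBy⟩
  have other : ∀ x ∈ T, 2 ≤ x → ∃ y ∈ T, 2 ≤ y ∧ x ≠ y ∧ sE' x * sE' y ≠ tPerm := by
    intro x hx hx2
    obtain ⟨hx', hxA⟩ := (hmem x).1 hx
    obtain ⟨i, hi, e⟩ := SM_exhaust (hA (mul_mem hxA ht))
    have hc : ({0, 1, x, i} : Finset ℕ).card < T.card := lt_of_le_of_lt Finset.card_le_four (by omega)
    obtain ⟨y, hy, hy'⟩ := Finset.exists_mem_notMem_of_card_lt_card hc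
    simp only [Finset.mem_insert, Finset.mem_singleton, not_or] at hy'
    refine ⟨y, hy, by omega, fun h => hy'.2.2.1 h.symm, fun h => hy'.2.2.2 ?_⟩
    refine sE'_inj ((hmem y).1 hy).1 hi ?_
    rw [← e, ← h, ← mul_assoc, hsq _ hxA, one_mul]
  have h1E : 1 ∈ sE := sE_mem_iff.2 ⟨1, by norm_num, sE'_inj (sE_eq (by norm_num)).1 (by norm_num)
    (by rw [(sE_eq (by norm_num)).2, eE_one, sE'_one])⟩
  have h0E : 0 ∈ sE := sE_mem_iff.2 ⟨0, by norm_num, sE'_inj (sE_eq (by norm_num)).1 (by norm_num)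
    (by rw [(sE_eq (by norm_num)).2, eE_zero, sE'_zero])⟩
  have hEA : ∀ B : List ℕ, B.length = 16 → 0 ∈ B → 1 ∈ B → (∀ x ∈ T, 2 ≤ x → x ∈ B) → ∀ x, x ∈ T ↔ x ∈ B := by
    intro B hB hB0 hB1 h x
    have hsub : T ⊆ B.toFinset := fun z hz => List.mem_toFinset.2 (by
      by_cases h2 : 2 ≤ z
      · exact h z hz h2
      · interval_cases z <;> assumption)
    have := Finset.eq_of_subset_of_card_le hsub ((List.toFinset_card_le B).trans (by omega))
    rw [this, List.mem_toFinset]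
  by_cases hall : ∀ x ∈ T, 2 ≤ x → x ∈ sOther
  · right
    have hiff := hEA sOther sE_ok.2.2.1 (List.contains_iff_mem.1 sE_ok.2.2.2.2.1)
      (List.contains_iff_mem.1 sE_ok.2.2.2.2.2) hall
    intro z
    constructor
    · intro hz
      obtain ⟨i, hi, rfl⟩ := SM_exhaust (hA hz)
      exact ⟨i, (hiff i).1 ((hmem i).2 ⟨hi, hz⟩), rfl⟩
    · rintro ⟨a, ha, rfl⟩
      exact ((hmem a).1 ((hiff a).2 ha)).2
  · left
    push Not at hall
    obtain ⟨x, hx, hx2, hxO⟩ := hall
    obtain ⟨hx', hxA⟩ := (hmem x).1 hx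
    have hxE : x ∈ sE := by
      obtain ⟨y, hy, hy2, hne, hxy⟩ := other x hx hx2
      exact ((pair x hx y hy hx2 hy2 hne hxy).resolve_right fun h => hxO h.1).1
    have hiff := hEA sE sE_ok.2.1 h0E h1E fun y hy hy2 => by
      by_cases hne : x = y
      · exact hne ▸ hxE
      by_cases hxy : sE' x * sE' y = tPerm
      · obtain ⟨i, hi, ei⟩ := sE_mem_iff.1 hxE
        have e : sE' y = sE' x * tPerm := by rw [← hxy, ← mul_assoc, hsq _ hxA, one_mul]
        rw [← ei, (sE_eq hi).2, ← eE_one, eE_mul hi (by norm_num), ← (sE_eq (eMul_lt hi (by norm_num))).2] at e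
        exact sE_mem_iff.2 ⟨_, eMul_lt hi (by norm_num),
          (sE'_inj ((hmem y).1 hy).1 (sE_eq (eMul_lt hi (by norm_num))).1 e).symm⟩
      · exact ((pair x hx y hy hx2 hy2 hne hxy).resolve_right fun h => hxO h.1).2
    intro z
    constructor
    · intro hz
      obtain ⟨i, hi, rfl⟩ := SM_exhaust (hA hz)
      obtain ⟨j, hj, e⟩ := sE_mem_iff.1 ((hiff i).1 ((hmem i).2 ⟨hi, hz⟩))
      exact ⟨j, hj, by rw [← e, (sE_eq hj).2]⟩
    · rintro ⟨j, hj, rfl⟩
      rw [← (sE_eq hj).2]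
      exact ((hmem _).1 ((hiff _).2 (sE_mem_iff.2 ⟨j, hj, rfl⟩))).2

end Cfsg.Lib.McLRecog
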