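import Cfsg.Agent.McLRecog.Checks
import Cfsg.Agent.McLModel.Invol

/-!
Seven involutions of the McLaughlin group, its subgroups `C`, `N` and the elementary subgroup `E`.
-/

set_option autoImplicit false
set_option maxRecDepth 20000

namespace Cfsg.Lib.McLRecog

open Cfsg Cfsg.Lib.CosetCert Cfsg.Lib.CosetCert.OutCert Cfsg.Lib.PermCert
open Cfsg.Lib.McLModel (data valid_data grp_eq)
open Cfsg.Lib.McLModel.Inv

/-- The permutations of the 275 points. -/
abbrev Pm : Type := Equiv.Perm (Fin data.n)

/-- A letter. -/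
def lt (l : ℕ) : Pm := wval data.im (lowWords.getD l [])

/-- The value of a word in the letters. -/
def val (w : List ℕ) : Pm := wval lt w

theorem val_nil : val [] = 1 := by simp [val, wval]

theorem val_app (v w : List ℕ) : val (v ++ w) = val v * val w := by simp [val, wval]

theorem val_cons (l : ℕ) (w : List ℕ) : val (l :: w) = lt l * val w := by simp [val, wval]

theorem val_one (l : ℕ) : val [l] = lt l := by simp [val, wval]

/-- A word spelled out in the involutions of the model. -/
def toLow (w : List ℕ) : List ℕ := w.flatMap fun l => lowWords.getD l []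

theorem val_toLow : ∀ w : List ℕ, val w = wval data.im (toLow w)
  | [] => by simp [val, wval, toLow]
  | l :: w => by
    rw [val_cons, val_toLow w, show toLow (l :: w) = lowWords.getD l [] ++ toLow w from List.flatMap_cons .., Data.wval_app]
    rfl

theorem inL_lt {w : List ℕ} (h : inL w = true) : ∀ l ∈ w, l < 7 := fun l hl =>
  Nat.le_of_ble_eq_true (List.all_eq_true.1 h l hl)

theorem let_ok {l : ℕ} (hl : l < 7) : valid 275 (letTabs.getD l (0, 0)) = true ∧
    Data.isLow (lowWords.getD l []) = true ∧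
    ∀ x < 275, evalW letTabs [l] x = evalW data.xTabs (lowWords.getD l []) x := by
  have h := List.all_eq_true.1 tabs_ok.1 l (List.mem_range.2 hl)
  simp only [Bool.and_eq_true, List.all_eq_true, List.mem_range, beq_iff_eq] at h
  exact ⟨h.1.1, h.1.2, h.2⟩

theorem toLow_low {w : List ℕ} (h : inL w = true) : Data.isLow (toLow w) = true := by
  simp only [Data.isLow, toLow, List.all_eq_true, List.mem_flatMap]
  rintro a ⟨l, hl, ha⟩
  exact List.all_eq_true.1 (let_ok (inL_lt h l hl)).2.1 a ha

theorem val_mem {w : List ℕ} (h : inL w = true) : val w ∈ data.grp := by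
  rw [val_toLow]
  exact (low_word (toLow_low h)).2

theorem lt_mem {l : ℕ} (hl : l < 7) : lt l ∈ data.grp := by
  rw [← val_one]
  exact val_mem (by simp [inL, Nat.ble_eq]; omega)

theorem lt_act : ∀ l < letTabs.length, valid data.n (letTabs.getD l (0, 0)) = true ∧
    (MonoidHom.id Pm) (lt l) = perm data.n (letTabs.getD l (0, 0)) := by
  intro l hl
  rw [tabs_ok.2] at hl
  obtain ⟨hv, hlow, he⟩ := let_ok hl
  refine ⟨hv, inv_injective (Equiv.ext fun x => Fin.ext ?_)⟩
  rw [MonoidHom.id_apply, lt, valid_data.evalX (Data.inX_low (Data.isLow_lt hlow)), ← he x.val x.isLt,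
    ← perm_pinv (show valid data.n _ = true from hv)]
  exact (perm_apply (valid_pinv (show valid data.n _ = true from hv)) x).symm

theorem val_inv_apply {w : List ℕ} (h : inL w = true) (x : Fin data.n) :
    (((val w)⁻¹ x : Fin data.n) : ℕ) = evalW letTabs w x :=
  evalW_apply lt (MonoidHom.id Pm) letTabs lt_act w (fun l hl => by rw [tabs_ok.2]; exact inL_lt h l hl) x

theorem base_lt {c : ℕ} (hc : c ∈ bases) : c < data.n := by
  simp only [bases, List.mem_cons, List.not_mem_nil, or_false] at hc
  rcases hc with rfl | rfl | rfl | rfl | rfl <;> decide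

theorem imgs5_val {w : List ℕ} (h : inL w = true) : imgs5 (val w) = key w :=
  List.map_congr_left fun c hc => by rw [imgN, dif_pos (base_lt hc), val_inv_apply h]

theorem imgs5_low {w : List ℕ} (h : Data.isLow w = true) : imgs5 (wval data.im w) = keyLow w :=
  List.map_congr_left fun c hc => by rw [imgN, dif_pos (base_lt hc), valid_data.evalX (low_word h).1]

theorem ext5 {a b : Pm} (ha : a ∈ data.grp) (hb : b ∈ data.grp) (e : imgs5 a = imgs5 b) : a = b := by
  obtain ⟨u, hu, -, eu⟩ := found5 ha
  obtain ⟨v, hv, -, ev⟩ := found5 hb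
  rw [e, hv, Option.some.injEq] at hu
  rw [← eu, ← hu, ev]

theorem eqW_sound {w v : List ℕ} (h : eqW w v = true) : val w = val v := by
  simp only [eqW, Bool.and_eq_true, beq_iff_eq] at h
  exact ext5 (val_mem h.1.1) (val_mem h.1.2) (by rw [imgs5_val h.1.1, imgs5_val h.1.2, h.2])

theorem key_of_eq {w v : List ℕ} (hw : inL w = true) (hv : inL v = true) (e : val w = val v) : key w = key v := by
  rw [← imgs5_val hw, ← imgs5_val hv, e]

theorem eqW_iff {w v : List ℕ} (hw : inL w = true) (hv : inL v = true) : eqW w v = true ↔ val w = val v :=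
  ⟨eqW_sound, fun e => by simp [eqW, hw, hv, key_of_eq hw hv e]⟩

theorem lets_inL {S w : List ℕ} (hS : ∀ l ∈ S, l < 7) (h : lets S w = true) : inL w = true :=
  List.all_eq_true.2 fun l hl => Nat.ble_eq_true_of_le
    (hS l (List.contains_iff_mem.1 (List.all_eq_true.1 h l hl)))

theorem inL_app {w v : List ℕ} (hw : inL w = true) (hv : inL v = true) : inL (w ++ v) = true := by
  rw [inL, List.all_append, Bool.and_eq_true]
  exact ⟨hw, hv⟩

theorem lt_sq {l : ℕ} (hl : l < 7) : lt l * lt l = 1 := by
  have h := eqW_sound (List.all_eq_true.1 sq_ok l (List.mem_range.2 hl))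
  rwa [val_cons, val_one, val_nil] at h

theorem val_rev {w : List ℕ} (h : inL w = true) : val w.reverse = (val w)⁻¹ :=
  wval_reverse lt fun l hl => lt_sq (inL_lt h l hl)

theorem inL_rev {w : List ℕ} (h : inL w = true) : inL w.reverse = true := by
  rwa [inL, List.all_reverse]

theorem val_cj {v : List ℕ} (hv : inL v = true) (w : List ℕ) : val (cjW v w) = val v * val w * (val v)⁻¹ := by
  rw [cjW, val_app, val_app, val_rev hv]

theorem inL_cj {v w : List ℕ} (hv : inL v = true) (hw : inL w = true) : inL (cjW v w) = true :=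
  inL_app (inL_app hv hw) (inL_rev hv)

theorem comW_sound {w v : List ℕ} (h : comW w v = true) : val w * val v = val v * val w := by
  rw [← val_app, ← val_app]
  exact eqW_sound h

theorem comW_iff {w v : List ℕ} (hw : inL w = true) (hv : inL v = true) :
    comW w v = true ↔ val w * val v = val v * val w := by
  rw [← val_app, ← val_app]
  exact eqW_iff (inL_app hw hv) (inL_app hv hw)

theorem cLet_lt : ∀ l ∈ cLet, l < 7 := by decide
theorem nLet_lt : ∀ l ∈ nLet, l < 7 := by decide
theorem ncLet_lt : ∀ l ∈ ncLet, l < 7 := by decide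
theorem ncLet_c : ∀ l ∈ ncLet, l ∈ cLet := by decide
theorem ncLet_n : ∀ l ∈ ncLet, l ∈ nLet := by decide

theorem lets_mono {S T w : List ℕ} (h : ∀ l ∈ S, l ∈ T) (hw : lets S w = true) : lets T w = true :=
  List.all_eq_true.2 fun l hl => List.contains_iff_mem.2 (h l (List.contains_iff_mem.1 (List.all_eq_true.1 hw l hl)))

theorem lets_app {S w v : List ℕ} (hw : lets S w = true) (hv : lets S v = true) : lets S (w ++ v) = true := by
  rw [lets, List.all_append, Bool.and_eq_true]
  exact ⟨hw, hv⟩

theorem eW_ok {i : ℕ} (hi : i < 16) : lets ncLet (eW i) = true ∧ tb eMul i i = 0 ∧ ∀ j < 16,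
    tb eMul i j < 16 ∧ val (eW i) * val (eW j) = val (eW (tb eMul i j)) ∧ tb eMul i j = tb eMul j i ∧
      (i = j ∨ key (eW i) ≠ key (eW j)) := by
  have h := List.all_eq_true.1 e_ok.1 i (List.mem_range.2 hi)
  simp only [Bool.and_eq_true, beq_iff_eq, List.all_eq_true, List.mem_range, Bool.or_eq_true, bne_iff_ne] at h
  refine ⟨h.1.1, h.1.2, fun j hj => ?_⟩
  obtain ⟨⟨⟨h1, h2⟩, h3⟩, h4⟩ := h.2 j hj
  exact ⟨Nat.le_of_ble_eq_true h1, by rw [← val_app]; exact eqW_sound h2, h3, h4⟩

theorem eW_inL {i : ℕ} (hi : i < 16) : inL (eW i) = true := lets_inL ncLet_lt (eW_ok hi).1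

theorem tW_inL : inL tW = true := eW_inL (by norm_num)

theorem t_val : val tW = tPerm := by
  have h := t_ok
  simp only [Bool.and_eq_true, beq_iff_eq] at h
  have h0 : Data.isLow [0] = true := rfl
  refine ext5 (val_mem tW_inL) tPerm_mem ?_
  rw [imgs5_val tW_inL, h.1.1, ← imgs5_low h0, Data.wval_one]
  rfl

theorem lt_centP {l : ℕ} (hl : l ∈ cLet) : lt l ∈ centP := by
  have h := t_ok
  simp only [Bool.and_eq_true, List.all_eq_true] at h
  have := comW_sound (h.2 l hl)
  rw [val_one, t_val] at this
  exact mem_centP.2 ⟨lt_mem (cLet_lt l hl), this⟩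

theorem val_centP : ∀ {w : List ℕ}, lets cLet w = true → val w ∈ centP
  | [], _ => by rw [val_nil]; exact one_mem _
  | l :: w, h => by
    rw [lets, List.all_cons, Bool.and_eq_true, List.contains_iff_mem] at h
    rw [val_cons]
    exact mul_mem (lt_centP h.1) (val_centP h.2)

/-- The letters generate the centraliser of the involution. -/
theorem centP_gen : centP = Subgroup.closure (lt '' {l | l ∈ cLet}) := by
  refine le_antisymm ?_ ((Subgroup.closure_le _).2 fun x ⟨l, hl, e⟩ => e ▸ lt_centP hl)
  rw [centP_eq.1, centGrp, Subgroup.closure_le]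
  rintro _ ⟨w, hw, rfl⟩
  obtain ⟨k, hk, rfl⟩ := List.getElem_of_mem hw
  have hk' : k < 11 := by rwa [chainC_ok.2.2.2.2.1] at hk
  have h := List.all_eq_true.1 cent_ok k (List.mem_range.2 hk')
  rw [Bool.and_eq_true, beq_iff_eq, List.getD_eq_getElem _ _ hk] at h
  have hlow := List.all_eq_true.1 chainC_ok.2.2.2.1 _ (List.getElem_mem hk)
  rw [Bool.and_eq_true] at hlow
  have hin := lets_inL cLet_lt h.1
  have e : wval data.im centGens[k] = val (centWords.getD k []) :=
    ext5 (low_word hlow.1).2 (val_mem hin) ((imgs5_low hlow.1).trans (h.2.symm.trans (imgs5_val hin).symm))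
  show wval data.im centGens[k] ∈ _
  rw [e]
  exact Subgroup.list_prod_mem _ fun g hg => by
    obtain ⟨l, hl, rfl⟩ := List.mem_map.1 hg
    exact Subgroup.subset_closure ⟨l, List.contains_iff_mem.1 (List.all_eq_true.1 h.1 l hl), rfl⟩

end Cfsg.Lib.McLRecog
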