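import Cfsg.Agent.McLRecog.Local

/-!
The normaliser of the elementary subgroup in the centraliser of the model.
-/

set_option autoImplicit false
set_option maxRecDepth 20000

namespace Cfsg.Lib.McLRecog

open Cfsg Cfsg.Lib.CosetCert Cfsg.Lib.CosetCert.OutCert
open Cfsg.Lib.McLModel (data valid_data grp_eq)
open Cfsg.Lib.McLModel.Inv

/-- A list standing for a map of sixteen points. -/
def Canon (p : List ℕ) : Prop := p = (List.range 16).map (pap p)

theorem pap_map {f : ℕ → ℕ} {i : ℕ} (hi : i < 16) : pap ((List.range 16).map f) i = f i := by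
  rw [pap, List.getD_eq_getElem _ _ (by simpa using hi)]
  simp

theorem pap_pmul {p q : List ℕ} {i : ℕ} (hi : i < 16) : pap (pmul p q) i = pap p (pap q i) := pap_map hi

theorem canon_ext {p q : List ℕ} (hp : Canon p) (hq : Canon q) (h : ∀ i < 16, pap p i = pap q i) : p = q := by
  rw [hp, hq]
  exact List.map_congr_left fun i hi => h i (List.mem_range.1 hi)

theorem canon_map (f : ℕ → ℕ) : Canon ((List.range 16).map f) :=
  (List.map_congr_left fun _ hi => pap_map (List.mem_range.1 hi)).symm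

theorem canon_pmul (p q : List ℕ) : Canon (pmul p q) := canon_map _

theorem canon_range : Canon (List.range 16) := by
  show List.range 16 = _
  decide

theorem pap_range {i : ℕ} (hi : i < 16) : pap (List.range 16) i = i := by
  rw [pap, List.getD_eq_getElem _ _ (by simpa using hi)]
  simp

theorem eAct_canon : ∀ l < 7, Canon (eAct.getD l []) := by unfold Canon; decide +kernel

/-- The action of a word. -/
def actW (w : List ℕ) : List ℕ := w.foldr (fun l q => pmul (eAct.getD l []) q) (List.range 16)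

theorem canon_actW : ∀ w : List ℕ, Canon (actW w)
  | [] => canon_range
  | _ :: _ => canon_pmul _ _

theorem act_letter {l : ℕ} (hl : l ∈ nLet) {i : ℕ} (hi : i < 16) :
    pap (eAct.getD l []) i < 16 ∧ lt l * eE i * (lt l)⁻¹ = eE (pap (eAct.getD l []) i) := by
  have h := List.all_eq_true.1 (List.all_eq_true.1 act_ok l hl) i (List.mem_range.2 hi)
  rw [Bool.and_eq_true] at h
  refine ⟨Nat.le_of_ble_eq_true h.1, ?_⟩
  have hl7 : inL [l] = true := lets_inL nLet_lt (show lets nLet [l] = true by simp [lets, hl])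
  have := eqW_sound h.2
  rw [val_cj hl7, val_one] at this
  exact this

theorem act_word : ∀ {w : List ℕ}, lets nLet w = true → ∀ i < 16,
    pap (actW w) i < 16 ∧ val w * eE i * (val w)⁻¹ = eE (pap (actW w) i)
  | [], _, i, hi => by
    rw [show actW [] = List.range 16 from rfl, pap_range hi]
    simp [val_nil, hi]
  | l :: w, h, i, hi => by
    rw [lets, List.all_cons, Bool.and_eq_true, List.contains_iff_mem] at h
    obtain ⟨h1, h2⟩ := act_word h.2 i hi
    obtain ⟨h3, h4⟩ := act_letter h.1 h1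
    rw [show actW (l :: w) = pmul (eAct.getD l []) (actW w) from rfl, pap_pmul hi]
    refine ⟨h3, ?_⟩
    rw [val_cons, ← h4, ← h2]
    group

theorem lam_word {p : ℕ} (hp : p < 168) :
    lets ncLet (lamWords.getD p []) = true ∧ actW (lamWords.getD p []) = lamList.getD p [] := by
  have h := lam_ok
  simp only [Bool.and_eq_true, List.all_eq_true, List.mem_range, beq_iff_eq] at h
  exact ⟨(h.2 p hp).1.1, (h.2 p hp).1.2⟩

theorem lam_len : lamList.length = 168 ∧ lamList.getD 0 [] = List.range 16 := by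
  have h := lam_ok
  simp only [Bool.and_eq_true, beq_iff_eq] at h
  exact ⟨h.1.1, h.1.2⟩

theorem lamWord_zero : lamWords.getD 0 [] = [] := by decide +kernel

theorem lam_inj {p q : ℕ} (hp : p < 168) (hq : q < 168) (h : lamList.getD p [] = lamList.getD q []) : p = q := by
  have hp' : p < lamList.length := by rw [lam_len.1]; exact hp
  have hq' : q < lamList.length := by rw [lam_len.1]; exact hq
  rw [List.getD_eq_getElem _ _ hp', List.getD_eq_getElem _ _ hq'] at h
  exact (List.Nodup.getElem_inj_iff lam_nodup).1 h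

/-- A standard element of the normaliser in the centraliser. -/
def stdE (p i : ℕ) : Pm := val (lamWords.getD p []) * eE i

theorem stdE_centP {p i : ℕ} (hp : p < 168) (hi : i < 16) : stdE p i ∈ centP :=
  mul_mem (val_centP (lets_mono ncLet_c (lam_word hp).1)) (eE_centP hi)

theorem stdE_act {p i j : ℕ} (hp : p < 168) (hi : i < 16) (hj : j < 16) :
    pap (lamList.getD p []) j < 16 ∧ stdE p i * eE j * (stdE p i)⁻¹ = eE (pap (lamList.getD p []) j) := by
  obtain ⟨h1, h2⟩ := act_word (lets_mono ncLet_n (lam_word hp).1) j hj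
  rw [(lam_word hp).2] at h1 h2
  refine ⟨h1, ?_⟩
  rw [← h2, stdE]
  calc val (lamWords.getD p []) * eE i * eE j * (val (lamWords.getD p []) * eE i)⁻¹
      = val (lamWords.getD p []) * (eE i * eE j * (eE i)⁻¹) * (val (lamWords.getD p []))⁻¹ := by group
    _ = _ := by rw [eE_comm hi hj, mul_inv_cancel_right]

/-- The elements of the centraliser normalising the elementary subgroup. -/
def NCM : Subgroup Pm where
  carrier := {z | z ∈ centP ∧ (∀ x ∈ Eset, z * x * z⁻¹ ∈ Eset) ∧ ∀ x ∈ Eset, z⁻¹ * x * z ∈ Eset}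
  one_mem' := ⟨one_mem _, fun x hx => by simpa using hx, fun x hx => by simpa using hx⟩
  mul_mem' := fun {a b} ha hb => ⟨mul_mem ha.1 hb.1,
    fun x hx => by simpa [mul_assoc] using ha.2.1 _ (hb.2.1 x hx),
    fun x hx => by simpa [mul_assoc] using hb.2.2 _ (ha.2.2 x hx)⟩
  inv_mem' := fun {a} ha => ⟨inv_mem ha.1, fun x hx => by simpa using ha.2.2 x hx,
    fun x hx => by simpa using ha.2.1 x hx⟩

theorem Eset_finite : Eset.Finite := Set.toFinite _

theorem mem_NCM {z : Pm} (hz : z ∈ centP) (h : ∀ x ∈ Eset, z * x * z⁻¹ ∈ Eset) : z ∈ NCM := by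
  refine ⟨hz, h, fun x hx => ?_⟩
  have himg : (fun q => z * q * z⁻¹) '' Eset = Eset :=
    Set.eq_of_subset_of_ncard_le (Set.image_subset_iff.2 h)
      (Set.ncard_image_of_injective _ fun a b e => by simpa using e).ge Eset_finite
  obtain ⟨y, hy, e⟩ := himg.symm ▸ hx
  simp only at e
  rw [← e]
  simpa [mul_assoc] using hy

theorem orb_unique {i j : ℕ} (hi : i < 15) (hj : j < 15) (h : orbSet i ⊆ orbSet j) : i = j := by
  by_contra hne
  have hs := List.all_eq_true.1 (List.all_eq_true.1 orbSep_ok j (List.mem_range.2 hj)) i (List.mem_range.2 hi)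
  simp only [Bool.or_eq_true, beq_iff_eq, hne, false_or, Bool.and_eq_true] at hs
  have he := Nat.le_of_ble_eq_true hs.1
  rw [List.contains_iff_mem.2 ((orbKeys_spec hj (orb_inL hi he)).2 (h ⟨_, he, rfl⟩))] at hs
  exact Bool.noConfusion hs.2

theorem NCM_card : Nat.card NCM * 15 = 40320 := by
  have hle : NCM ≤ centP := fun _ hz => hz.1
  have hidx : (NCM.subgroupOf centP).index = 15 := by
    let rv : ℕ → Pm := fun j => val (orbWords.getD j [])
    have hrv : ∀ j < 15, rv j ∈ centP := fun j hj => val_centP (orb_words hj)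
    have hset : ∀ j < 15, ∀ x, x ∈ orbSet j ↔ ∃ e ∈ Eset, x = rv j * e * (rv j)⁻¹ := by
      intro j hj x
      have hw := lets_inL cLet_lt (orb_words hj)
      simp only [orbSet, Eset, Set.mem_ofPred_eq, val_cj hw]
      exact ⟨fun ⟨e, he, h⟩ => ⟨_, ⟨e, he, rfl⟩, h⟩, fun ⟨_, ⟨e, he, rfl⟩, h⟩ => ⟨e, he, h⟩⟩
    let F : Fin 15 → centP ⧸ NCM.subgroupOf centP := fun j => QuotientGroup.mk ⟨rv j, hrv j j.2⟩
    rw [Subgroup.index, ← Nat.card_fin 15]
    refine (Nat.card_eq_of_bijective F ⟨fun a b h => ?_, fun q => ?_⟩).symm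
    · rw [QuotientGroup.eq, Subgroup.mem_subgroupOf] at h
      refine Fin.ext (orb_unique a.2 b.2 fun x hx => ?_)
      obtain ⟨e, he, rfl⟩ := (hset a a.2 x).1 hx
      refine (hset b b.2 _).2 ⟨((rv a)⁻¹ * rv b)⁻¹ * e * ((rv a)⁻¹ * rv b), h.2.2 e he, ?_⟩
      group
    · obtain ⟨⟨c, hc⟩, rfl⟩ := QuotientGroup.mk_surjective q
      obtain ⟨j, hj, h⟩ := orb_exhaust hc 0 (by norm_num)
      refine ⟨⟨j, hj⟩, QuotientGroup.eq.2 ?_⟩
      rw [Subgroup.mem_subgroupOf]
      refine mem_NCM (mul_mem (inv_mem (hrv j hj)) hc) fun x hx => ?_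
      obtain ⟨e, he, h2⟩ := (hset j hj _).1 (h x (orbSet_zero ▸ hx))
      show (rv j)⁻¹ * c * x * ((rv j)⁻¹ * c)⁻¹ ∈ Eset
      rw [show (rv j)⁻¹ * c * x * ((rv j)⁻¹ * c)⁻¹ = (rv j)⁻¹ * (c * x * c⁻¹) * rv j by group, h2]
      simpa [mul_assoc] using he
  have := Subgroup.card_mul_index (NCM.subgroupOf centP)
  rw [hidx, centP_eq.2, Nat.card_congr (Subgroup.subgroupOfEquivOfLe hle).toEquiv] at this
  exact this

/-- Every element of the centraliser normalising the elementary subgroup is standard. -/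
theorem nc_form {z : Pm} (hz : z ∈ centP) (h : ∀ x ∈ Eset, z * x * z⁻¹ ∈ Eset) :
    ∃ p < 168, ∃ i < 16, z = stdE p i := by
  have hmem : ∀ q : Fin 168 × Fin 16, stdE q.1 q.2 ∈ NCM := fun q => by
    refine mem_NCM (stdE_centP q.1.2 q.2.2) ?_
    rintro _ ⟨j, hj, rfl⟩
    obtain ⟨h1, h2⟩ := stdE_act q.1.2 q.2.2 hj
    exact ⟨_, h1, h2⟩
  have hbij : Function.Bijective (fun q => (⟨_, hmem q⟩ : NCM)) := by
    refine (Nat.bijective_iff_injective_and_card _).2 ⟨fun a b e => ?_, ?_⟩
    · have e' : stdE a.1 a.2 = stdE b.1 b.2 := congrArg Subtype.val e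
      have hp : a.1 = b.1 := by
        refine Fin.ext (lam_inj a.1.2 b.1.2 ?_)
        rw [← (lam_word a.1.2).2, ← (lam_word b.1.2).2]
        refine canon_ext (canon_actW _) (canon_actW _) fun j hj => ?_
        rw [(lam_word a.1.2).2, (lam_word b.1.2).2]
        obtain ⟨h1, h2⟩ := stdE_act a.1.2 a.2.2 hj
        obtain ⟨h3, h4⟩ := stdE_act b.1.2 b.2.2 hj
        rw [e', h4] at h2
        exact (eE_inj h3 h1 h2).symm
      rw [hp, stdE, stdE] at e'
      exact Prod.ext hp (Fin.ext (eE_inj a.2.2 b.2.2 (mul_left_cancel e')))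
    · have := NCM_card
      rw [Nat.card_prod, Nat.card_fin, Nat.card_fin]
      omega
  obtain ⟨⟨p, i⟩, e⟩ := hbij.2 ⟨z, mem_NCM hz h⟩
  exact ⟨p, p.2, i, i.2, (congrArg Subtype.val e).symm⟩

/-- The elementary subgroup is its own centraliser in the centraliser. -/
theorem cent_E {z : Pm} (hz : z ∈ centP) (h : ∀ i < 16, z * eE i = eE i * z) : ∃ i < 16, z = eE i := by
  obtain ⟨p, hp, i, hi, rfl⟩ := nc_form hz (by
    rintro _ ⟨j, hj, rfl⟩
    exact ⟨j, hj, mul_inv_eq_iff_eq_mul.2 (h j hj)⟩)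
  have : p = 0 := by
    refine lam_inj hp (by norm_num) ?_
    rw [lam_len.2, ← (lam_word hp).2]
    refine canon_ext (canon_actW _) canon_range fun j hj => ?_
    rw [pap_range hj, (lam_word hp).2]
    obtain ⟨h1, h2⟩ := stdE_act hp hi hj
    rw [mul_inv_eq_iff_eq_mul.2 (h j hj)] at h2
    exact (eE_inj hj h1 h2).symm
  subst this
  refine ⟨i, hi, ?_⟩
  rw [stdE, lamWord_zero, val_nil, one_mul]

end Cfsg.Lib.McLRecog
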