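import Cfsg.Agent.McLRecog.Local

/-!
The element of order three of the common part and its centraliser in the centraliser of the involution.
-/

set_option autoImplicit false
set_option maxRecDepth 20000
set_option linter.style.haveILetI false

namespace Cfsg.Lib.McLRecog

open Cfsg Cfsg.Lib.CosetCert Cfsg.Lib.CosetCert.OutCert
open Cfsg.Lib.McLModel (data valid_data grp_eq)
open Cfsg.Lib.McLModel.Inv

/-- The first element of order three. -/
def yE : Pm := val yWord

/-- The second element of order three. -/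
def xE : Pm := val xWord

/-- An element of the subgroup of order nine. -/
def pE (i : ℕ) : Pm := val (pW i)

/-- An element of the centraliser of the element of order three. -/
def cyE (i : ℕ) : Pm := val (cyW i)

theorem val_flatten (m : ℕ) (w : List ℕ) : val (List.replicate m w).flatten = val w ^ m := by
  induction m with
  | zero => simp [val_nil]
  | succ m ih => rw [List.replicate_succ, List.flatten_cons, val_app, ih, pow_succ']

theorem lets_flatten {S : List ℕ} (m : ℕ) {w : List ℕ} (h : lets S w = true) :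
    lets S (List.replicate m w).flatten = true := by
  induction m with
  | zero => rfl
  | succ m ih =>
    rw [List.replicate_succ, List.flatten_cons]
    exact lets_app h ih

theorem pE_eq (i : ℕ) : pE i = yE ^ (i / 3) * xE ^ (i % 3) := by
  rw [pE, pW, val_app, val_flatten, val_flatten, yE, xE]

theorem p_facts : lets ncLet yWord = true ∧ lets cLet xWord = true ∧ yE * xE = xE * yE ∧ yE * yE * yE = 1 ∧
    xE * xE * xE = 1 ∧ eE wIdx * xE * (eE wIdx)⁻¹ = xE⁻¹ ∧ eE wIdx * yE = yE * eE wIdx ∧ 1 < wIdx ∧ wIdx < 16 := by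
  have h := p_ok.1
  simp only [Bool.and_eq_true] at h
  obtain ⟨⟨⟨⟨⟨⟨⟨⟨hy, hx⟩, hc⟩, y3⟩, x3⟩, hw⟩, hwy⟩, h16⟩, h1⟩ := h
  have h16' : wIdx < 16 := Nat.le_of_ble_eq_true h16
  have e1 := eqW_sound y3
  have e2 := eqW_sound x3
  have e3 := eqW_sound hw
  rw [val_app, val_app, val_nil] at e1 e2
  rw [val_cj (eW_inL h16'), val_rev (lets_inL cLet_lt hx)] at e3
  exact ⟨hy, hx, comW_sound hc, e1, e2, e3, comW_sound hwy, Nat.le_of_ble_eq_true h1, h16'⟩

theorem yE_centP : yE ∈ centP := val_centP (lets_mono ncLet_c p_facts.1)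

theorem xE_centP : xE ∈ centP := val_centP p_facts.2.1

theorem p_words (i : ℕ) : lets cLet (pW i) = true :=
  lets_app (lets_flatten _ (lets_mono ncLet_c p_facts.1)) (lets_flatten _ p_facts.2.1)

theorem pE_centP (i : ℕ) : pE i ∈ centP := val_centP (p_words i)

theorem pE_inj {i j : ℕ} (hi : i < 9) (hj : j < 9) (h : pE i = pE j) : i = j :=
  List.inj_on_of_nodup_map p_ok.2 (List.mem_range.2 hi) (List.mem_range.2 hj)
    (key_of_eq (lets_inL cLet_lt (p_words i)) (lets_inL cLet_lt (p_words j)) h)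

theorem cy_facts {i : ℕ} (hi : i < 36) : lets cLet (cyW i) = true ∧ cyE i * yE = yE * cyE i := by
  have h := List.all_eq_true.1 cy_ok.1 i (List.mem_range.2 hi)
  rw [Bool.and_eq_true] at h
  exact ⟨h.1, comW_sound h.2⟩

theorem incr_pairwise : ∀ l : List ℕ, incr l = true → l.Pairwise (· < ·)
  | [], _ => List.Pairwise.nil
  | [a], _ => List.pairwise_singleton _ a
  | a :: b :: r, h => by
    have h' : (Nat.blt a b && incr (b :: r)) = true := h
    rw [Bool.and_eq_true] at h'
    have ih := incr_pairwise (b :: r) h'.2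
    have hab : a < b := Nat.le_of_ble_eq_true h'.1
    refine List.pairwise_cons.2 ⟨fun c hc => ?_, ih⟩
    rcases List.mem_cons.1 hc with rfl | hc'
    · exact hab
    · exact hab.trans ((List.pairwise_cons.1 ih).1 c hc')

/-- The centraliser of the element of order three is the listed one. -/
theorem cy_exhaust {z : Pm} (hz : z ∈ centP) (h : z * yE = yE * z) : ∃ i < 36, z = cyE i := by
  classical
  let S : Subgroup Pm := centP ⊓ Subgroup.centralizer ({yE} : Set Pm)
  have hS : ∀ s, s ∈ S ↔ s ∈ centP ∧ s * yE = yE * s := fun s => by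
    simp [S, Subgroup.mem_centralizer_singleton_iff]
  have hw : ∀ i < 1120, lets cLet (yClass.getD i []) = true := fun i hi =>
    List.all_eq_true.1 yClass_words i (List.mem_range.2 hi)
  have hnd : ycCodes.Nodup := (incr_pairwise _ yClass_sorted).imp fun h => h.ne
  let f : Fin 1120 × S → centP := fun p =>
    ⟨val (yClass.getD p.1 []) * p.2.1, mul_mem (val_centP (hw _ p.1.2)) ((hS _).1 p.2.2).1⟩
  have hf : Function.Injective f := by
    rintro ⟨a, s⟩ ⟨b, s'⟩ e
    have e' : val (yClass.getD a []) * s.1 = val (yClass.getD b []) * s'.1 := congrArg Subtype.val e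
    have conj : ∀ (i : ℕ) (hi : i < 1120) (r : S), val (yClass.getD i []) * r.1 * yE * (val (yClass.getD i []) * r.1)⁻¹ =
        val (ycW i) := fun i hi r => by
      rw [ycW, val_cj (lets_inL cLet_lt (hw i hi)), mul_inv_rev, mul_assoc (val (yClass.getD i [])), ((hS _).1 r.2).2, yE]
      group
    have hab : (a : ℕ) = b := by
      refine List.inj_on_of_nodup_map hnd (List.mem_range.2 a.2) (List.mem_range.2 b.2) ?_
      refine congrArg code (key_of_eq ?_ ?_ ?_)
      · exact inL_cj (lets_inL cLet_lt (hw _ a.2)) (lets_inL ncLet_lt p_facts.1)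
      · exact inL_cj (lets_inL cLet_lt (hw _ b.2)) (lets_inL ncLet_lt p_facts.1)
      · rw [← conj a a.2 s, ← conj b b.2 s', e']
    obtain rfl : a = b := Fin.ext hab
    exact Prod.ext rfl (Subtype.ext (mul_left_cancel e'))
  have hcard : Nat.card S ≤ 36 := by
    have := Nat.card_le_card_of_injective f hf
    rw [Nat.card_prod, Nat.card_fin, centP_eq.2] at this
    omega
  let g : Fin 36 → S := fun i => ⟨cyE i, (hS _).2 ⟨val_centP (cy_facts i.2).1, (cy_facts i.2).2⟩⟩
  have hg : Function.Injective g := fun a b e => Fin.ext (List.inj_on_of_nodup_map cy_ok.2 (List.mem_range.2 a.2)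
    (List.mem_range.2 b.2) (key_of_eq (lets_inL cLet_lt (cy_facts a.2).1) (lets_inL cLet_lt (cy_facts b.2).1)
      (congrArg Subtype.val e)))
  have hsur : Function.Surjective g := (hg.bijective_of_nat_card_le (by rw [Nat.card_fin]; exact hcard)).2
  obtain ⟨i, e⟩ := hsur ⟨z, (hS z).2 ⟨hz, h⟩⟩
  exact ⟨i, i.2, (congrArg Subtype.val e).symm⟩

theorem cy_three {z : Pm} (hz : z ∈ centP) (h : z * yE = yE * z) (h9 : z ^ 9 = 1) : ∃ i < 9, z = pE i := by
  obtain ⟨i, hi, rfl⟩ := cy_exhaust hz h
  have hh := List.all_eq_true.1 cy_odd i (List.mem_range.2 hi)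
  simp only [Bool.or_eq_true, List.any_eq_true, List.mem_range, Bool.not_eq_true'] at hh
  rcases hh with ⟨j, hj, e⟩ | e
  · exact ⟨j, hj, eqW_sound e⟩
  · have hw := (cy_facts hi).1
    rw [(eqW_iff (lets_inL cLet_lt (lets_flatten 9 hw)) rfl).2 (by rw [val_flatten, val_nil]; exact h9)] at e
    exact Bool.noConfusion e

theorem cy_card {z : Pm} (hz : z ∈ centP) (h : z * yE = yE * z) (hodd : Odd (orderOf z)) : z ^ 9 = 1 := by
  classical
  let S : Subgroup Pm := centP ⊓ Subgroup.centralizer ({yE} : Set Pm)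
  have hzS : z ∈ S := ⟨hz, Subgroup.mem_centralizer_singleton_iff.2 h⟩
  have hcard : Nat.card S = 36 := by
    rw [← Nat.card_fin 36]
    refine (Nat.card_eq_of_bijective (fun i : Fin 36 => (⟨cyE i, val_centP (cy_facts i.2).1,
      Subgroup.mem_centralizer_singleton_iff.2 (cy_facts i.2).2⟩ : S)) ⟨fun a b e => ?_, fun s => ?_⟩).symm
    · exact Fin.ext (List.inj_on_of_nodup_map cy_ok.2 (List.mem_range.2 a.2) (List.mem_range.2 b.2)
        (key_of_eq (lets_inL cLet_lt (cy_facts a.2).1) (lets_inL cLet_lt (cy_facts b.2).1) (congrArg Subtype.val e)))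
    · obtain ⟨i, hi, e⟩ := cy_exhaust s.2.1 (Subgroup.mem_centralizer_singleton_iff.1 s.2.2)
      exact ⟨⟨i, hi⟩, Subtype.ext e.symm⟩
  have hd : orderOf z ∣ 36 := hcard ▸ (Subgroup.orderOf_mk z hzS ▸ orderOf_dvd_natCard _)
  refine orderOf_dvd_iff_pow_eq_one.1 ?_
  have hco : Nat.Coprime (orderOf z) 4 := by
    rw [show (4 : ℕ) = 2 ^ 2 by norm_num]
    exact (Nat.coprime_two_right.2 hodd).pow_right 2
  exact hco.dvd_of_dvd_mul_left (show orderOf z ∣ 4 * 9 by simpa using hd)

theorem cy_both {z : Pm} (hz : z ∈ centP) (hy : z * yE = yE * z) (hx : z * xE = xE * z) :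
    ∃ i < 9, z = pE i ∨ z = pE i * tPerm := by
  obtain ⟨i, hi, rfl⟩ := cy_exhaust hz hy
  have hh := List.all_eq_true.1 cy_cent i (List.mem_range.2 hi)
  simp only [Bool.or_eq_true, List.any_eq_true, List.mem_range, Bool.not_eq_true'] at hh
  rcases hh with e | ⟨j, hj, e | e⟩
  · rw [(comW_iff (lets_inL cLet_lt (cy_facts hi).1) (lets_inL cLet_lt p_facts.2.1)).2 hx] at e
    exact Bool.noConfusion e
  · exact ⟨j, hj, Or.inl (eqW_sound e)⟩
  · have := eqW_sound e
    rw [val_app, t_val] at this
    exact ⟨j, hj, Or.inr this⟩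

theorem cls_exhaust {d : Pm} (hd : d ∈ centP) : ∃ j < 210, d * eE 2 * d⁻¹ = clsE j := by
  haveI hfin : (lt '' {l | l ∈ cLet}).Finite := (List.finite_toSet cLet).image lt
  have key : ∀ e ∈ Submonoid.closure (lt '' {l | l ∈ cLet}), ∀ j < 210, ∃ j' < 210, e * clsE j * e⁻¹ = clsE j' := by
    intro e he
    induction he using Submonoid.closure_induction with
    | mem x hx =>
      obtain ⟨l, hl, rfl⟩ := hx
      intro j hj
      have h := List.all_eq_true.1 cls_ok.1 j (List.mem_range.2 hj)
      simp only [Bool.and_eq_true, List.all_eq_true] at h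
      obtain ⟨h1, h2⟩ := h.2 l hl
      refine ⟨_, Nat.le_of_ble_eq_true h1, ?_⟩
      have := eqW_sound h2
      rw [val_cj (lets_inL cLet_lt (show lets cLet [l] = true by simpa [lets] using hl)), val_one] at this
      exact this
    | one => exact fun j hj => ⟨j, hj, by simp⟩
    | mul a b _ _ iha ihb =>
      intro j hj
      obtain ⟨j', hj', e1⟩ := ihb j hj
      obtain ⟨j'', hj'', e2⟩ := iha j' hj'
      exact ⟨j'', hj'', by rw [← e2, ← e1]; group⟩
  have hd' : d ∈ Submonoid.closure (lt '' {l | l ∈ cLet}) := by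
    rw [centP_gen, ← Subgroup.mem_toSubmonoid, Subgroup.closure_toSubmonoid_of_finite] at hd
    exact hd
  have h0 := eqW_sound cls_ok.2
  obtain ⟨j, hj, e⟩ := key d hd' clsStart (by decide +kernel)
  exact ⟨j, hj, by rw [← e, clsE, h0, eE]⟩

theorem single_facts {i j : ℕ} (hi : i = 4 ∨ i = 5 ∨ i = 7 ∨ i = 8) (hj : j < 210) :
    pE i * clsE j ≠ clsE j * pE i := by
  intro e
  have h := List.all_eq_true.1 (List.all_eq_true.1 p_single i (by rcases hi with rfl | rfl | rfl | rfl <;> simp)) j
    (List.mem_range.2 hj)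
  rw [(comW_iff (lets_inL cLet_lt (p_words i)) (cls_words hj).2).2 e] at h
  exact Bool.noConfusion h

end Cfsg.Lib.McLRecog
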