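import Cfsg.Agent.McLRecog.Letters
import Cfsg.Agent.McLRecog.ThreeModel
import Cfsg.Agent.Coprime.Generation
import Cfsg.Agent.PermGen.AltPair

/-!
The last relation: two conjugates of an element of order three commute.
-/

set_option autoImplicit false
set_option maxRecDepth 20000
set_option linter.style.haveILetI false

namespace Cfsg.Lib.McLRecog

open Cfsg Cfsg.Lib.CosetCert Cfsg.Lib.CosetCert.OutCert
open Cfsg.Lib.McLModel (data valid_data grp_eq)
open Cfsg.Lib.McLModel.Inv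

/-- A four-group centralises the element. -/
def HasFour {G : Type*} [Group G] (g : G) : Prop :=
  ∃ u v : G, u * u = 1 ∧ v * v = 1 ∧ u ≠ 1 ∧ v ≠ 1 ∧ u ≠ v ∧ u * v = v * u ∧ u * g = g * u ∧ v * g = g * v

theorem HasFour.conj {G : Type*} [Group G] {g : G} (h : HasFour g) (n : G) : HasFour (n * g * n⁻¹) := by
  obtain ⟨u, v, u2, v2, u1, v1, huv, c, cu, cv⟩ := h
  have m : ∀ a b : G, n * a * n⁻¹ * (n * b * n⁻¹) = n * (a * b) * n⁻¹ := fun a b => by group
  refine ⟨n * u * n⁻¹, n * v * n⁻¹, by rw [m, u2]; group, by rw [m, v2]; group, ?_, ?_, ?_, by rw [m, m, c],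
    by rw [m, m, cu], by rw [m, m, cv]⟩
  · exact fun e => u1 (conj_eq_one_iff.1 e)
  · exact fun e => v1 (conj_eq_one_iff.1 e)
  · exact fun e => huv (mul_left_cancel (mul_right_cancel e))

/-- The elements of odd order of a group whose involutions of the centraliser of one are trivial form a subgroup. -/
theorem odd_closure {G : Type*} [Group G] [Finite G] (D : Subgroup G) {t : G} (ht : t ∈ D) (t2 : t * t = 1)
    (t1 : t ≠ 1) (hC : ∀ s ∈ D, s * t = t * s → (∃ k : ℕ, s ^ 2 ^ k = 1) → s = 1 ∨ s = t) :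
    ∃ O : Subgroup G, O ≤ D ∧ Odd (Nat.card O) ∧ ∀ g ∈ D, Odd (orderOf g) → g ∈ O := by
  classical
  haveI := Fact.mk Nat.prime_two
  set T : Set G := {g | g ∈ D ∧ Odd (orderOf g)}
  refine ⟨Subgroup.closure T, (Subgroup.closure_le D).2 fun g hg => hg.1, ?_,
    fun g hg ho => Subgroup.subset_closure ⟨hg, ho⟩⟩
  -- a Sylow subgroup of `D` has order two
  have hz : IsPGroup 2 (Subgroup.zpowers t) := IsPGroup.of_card (n := 1) (by
    rw [Nat.card_zpowers, pow_one]
    exact orderOf_eq_prime (by rw [pow_two, t2]) t1)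
  obtain ⟨S, hS⟩ := (hz.of_equiv (Subgroup.subgroupOfEquivOfLe (Subgroup.zpowers_le.2 ht)).symm).exists_le_sylow
  have htS : (⟨t, ht⟩ : D) ∈ (S : Subgroup D) := hS (Subgroup.mem_zpowers t)
  have hpow : ∀ s ∈ (S : Subgroup D), ∃ k : ℕ, (s : G) ^ 2 ^ k = 1 := fun s hs => by
    obtain ⟨k, hk⟩ := S.isPGroup' ⟨s, hs⟩
    exact ⟨k, by simpa using congrArg (fun a : (S : Subgroup D) => ((a : D) : G)) hk⟩
  let Z : Subgroup D := (Subgroup.zpowers t).subgroupOf D
  have hZ : ∀ s : D, s ∈ Z ↔ (s : G) = 1 ∨ (s : G) = t := fun s => by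
    constructor
    · intro h
      obtain ⟨n, hn⟩ := Subgroup.mem_zpowers_iff.1 (show (s : G) ∈ Subgroup.zpowers t from h)
      rw [← hn]
      rcases Int.even_or_odd' n with ⟨m, rfl | rfl⟩
      · left
        rw [zpow_mul, zpow_two, t2, one_zpow]
      · right
        rw [zpow_add, zpow_mul, zpow_two, t2, one_zpow, zpow_one, one_mul]
    · rintro (h | h) <;> show (s : G) ∈ Subgroup.zpowers t <;> rw [h]
      · exact one_mem _
      · exact Subgroup.mem_zpowers t
  have hSZ : (S : Subgroup D) = Z := by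
    refine le_antisymm ?_ hS
    by_contra hne
    have hlt : Z.subgroupOf (S : Subgroup D) < ⊤ := lt_top_iff_ne_top.2 fun h => hne fun s hs => by
      have : (⟨s, hs⟩ : (S : Subgroup D)) ∈ Z.subgroupOf (S : Subgroup D) := h ▸ Subgroup.mem_top _
      exact this
    haveI : Group.IsNilpotent (S : Subgroup D) := S.isPGroup'.isNilpotent
    obtain ⟨n, hn, hn'⟩ := SetLike.exists_of_lt (Group.normalizerCondition_of_isNilpotent _ hlt)
    have hm := (Subgroup.mem_normalizer_iff.1 hn ⟨⟨t, ht⟩, htS⟩).1 (by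
      show (⟨t, ht⟩ : D) ∈ Z
      exact (hZ _).2 (Or.inr rfl))
    rcases (hZ _).1 hm with e | e
    · exact t1 (conj_eq_one_iff.1 (show (n.1 : G) * t * (n.1 : G)⁻¹ = 1 from e))
    · have hc : (n.1 : G) * t = t * n.1 := mul_inv_eq_iff_eq_mul.1 (show (n.1 : G) * t * (n.1 : G)⁻¹ = t from e)
      exact hn' (show n.1 ∈ Z from (hZ _).2 (hC _ n.1.2 hc (hpow _ n.2)))
  have hS2 : Nat.card (S : Subgroup D) = 2 := by
    rw [hSZ, Nat.card_congr (Subgroup.subgroupOfEquivOfLe (Subgroup.zpowers_le.2 ht)).toEquiv, Nat.card_zpowers]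
    exact orderOf_eq_prime (by rw [pow_two, t2]) t1
  by_contra hev
  rw [Nat.not_odd_iff_even, even_iff_two_dvd] at hev
  obtain ⟨k, hk⟩ := hev
  set O := Subgroup.closure T with hO
  have hkodd : Odd k := by
    rw [← Nat.not_even_iff_odd, even_iff_two_dvd]
    intro h2
    have h4 : 2 ^ 2 ∣ Nat.card D := (show 2 ^ 2 ∣ Nat.card O by rw [hk, pow_two]; exact Nat.mul_dvd_mul_left 2 h2).trans
      (Subgroup.card_dvd_of_le ((Subgroup.closure_le D).2 fun g hg => hg.1))
    have := S.pow_dvd_card_of_pow_dvd_card h4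
    rw [hS2] at this
    norm_num at this
  refine PermGen.not_two_mul_odd_of_odd_generators hkodd hk (((↑) : O → G) ⁻¹' T) (fun g hg => ?_) ?_
  · rw [← Subgroup.orderOf_coe]
    exact hg.2
  · exact Subgroup.closure_closure_coe_preimage

/-- The fourth power fixes two elements when their lines are permuted. -/
theorem four_fix {G : Type*} [Group G] {n a b : G} (hab : a ≠ b) (hab' : a ≠ b⁻¹)
    (ha : n * a * n⁻¹ = a ∨ n * a * n⁻¹ = a⁻¹ ∨ n * a * n⁻¹ = b ∨ n * a * n⁻¹ = b⁻¹)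
    (hb : n * b * n⁻¹ = a ∨ n * b * n⁻¹ = a⁻¹ ∨ n * b * n⁻¹ = b ∨ n * b * n⁻¹ = b⁻¹) :
    n ^ 4 * a = a * n ^ 4 ∧ n ^ 4 * b = b * n ^ 4 := by
  obtain ⟨σ, hσ⟩ : ∃ σ : G ≃* G, ∀ x, σ x = n * x * n⁻¹ := ⟨MulAut.conj n, fun x => MulAut.conj_apply n x⟩
  have h4 : ∀ x, σ (σ (σ (σ x))) = x → n ^ 4 * x = x * n ^ 4 := fun x h => by
    rw [hσ, hσ, hσ, hσ] at h
    rw [← mul_inv_eq_iff_eq_mul]
    refine Eq.trans ?_ h
    simp [pow_succ, mul_assoc]
  rw [← hσ] at ha hb
  have fix : σ (σ (σ (σ a))) = a ∧ σ (σ (σ (σ b))) = b := by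
    rcases ha with e | e | e | e <;> rcases hb with f | f | f | f <;>
      first
        | exact absurd (σ.injective (e.trans f.symm)) hab
        | (refine absurd (σ.injective (a₁ := a) (a₂ := b⁻¹) ?_) hab'; simp only [map_inv, e, f, inv_inv]; done)
        | simp [e, f]
  exact ⟨h4 _ fix.1, h4 _ fix.2⟩

namespace Ctx

variable {G : Type*} [Group G] [Finite G] {c : Ctx G} (D : Images c)

/-- An element of the subgroup of order nine. -/
noncomputable def pg (c : Ctx G) (i : ℕ) : G := c.f (pE i)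

/-- The element conjugating. -/
def kg (D : Images c) : G := wval D.X kWord

theorem wv_app (u v : List ℕ) : wval D.X (u ++ v) = wval D.X u * wval D.X v := by simp [wval]

theorem X_sq {l : ℕ} (hl : l < 7) : D.X l * D.X l = 1 := by
  have e : val [l, l] = 1 := by rw [val_cons, val_one, lt_sq hl]
  have h : wval D.X [l, l] = D.X l * D.X l := by simp [wval]
  rw [← h]
  by_cases h4 : l = 4
  · subst h4
    exact D.normal _ (by decide) e
  · rw [D.cent _ (by interval_cases l <;> first | decide | exact absurd rfl h4), e, c.f_one]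

theorem wv_rev {w : List ℕ} (hw : inL w = true) : wval D.X w.reverse = (wval D.X w)⁻¹ :=
  wval_reverse D.X fun l hl => X_sq D (inL_lt hw l hl)

theorem wv_cj {v : List ℕ} (hv : inL v = true) (w : List ℕ) :
    wval D.X (cjW v w) = wval D.X v * wval D.X w * (wval D.X v)⁻¹ := by
  rw [cjW, wv_app, wv_app, wv_rev D hv]

theorem nEq {u v : List ℕ} (hu : lets nLet u = true) (hv : lets nLet v = true) :
    wval D.X u = wval D.X v ↔ val u = val v := by
  have hr : lets nLet v.reverse = true := by rw [lets, List.all_reverse]; exact hv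
  have hvi := lets_inL nLet_lt hv
  constructor
  · intro e
    have := D.faithful _ (lets_app hu hr) (by rw [wv_app, wv_rev D hvi, e, mul_inv_cancel])
    rwa [val_app, val_rev hvi, mul_inv_eq_one] at this
  · intro e
    have := D.normal _ (lets_app hu hr) (by rw [val_app, val_rev hvi, e, mul_inv_cancel])
    rwa [wv_app, wv_rev D hvi, mul_inv_eq_one] at this

theorem wv_t : wval D.X tW = c.t := by
  rw [D.cent tW (lets_mono ncLet_c (eW_ok (i := 1) (by norm_num)).1), t_val, c.f_t]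

theorem wv_e {i : ℕ} (hi : i < 16) : wval D.X (eW i) = c.ge i :=
  D.cent _ (lets_mono ncLet_c (eW_ok hi).1)

theorem wv_y : wval D.X yWord = c.f yE := D.cent _ (lets_mono ncLet_c p_facts.1)

theorem wv_x : wval D.X xWord = c.f xE := D.cent _ p_facts.2.1

theorem k_rel : kg D * c.f yE = c.f yE * kg D ∧ kg D * kg D * kg D = 1 ∧ kg D * c.t * (kg D)⁻¹ = c.ge wIdx ∧
    kg D * c.ge wIdx * (kg D)⁻¹ = c.t * c.ge wIdx := by
  have h := k_ok
  simp only [Bool.and_eq_true] at h
  obtain ⟨⟨⟨⟨hk, hky⟩, k3⟩, kt⟩, kw⟩ := h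
  obtain ⟨hy, -, -, -, -, -, -, -, hw⟩ := p_facts
  have hy' := lets_mono ncLet_n hy
  have ht : lets nLet tW = true := lets_mono ncLet_n (eW_ok (by norm_num)).1
  have he : lets nLet (eW wIdx) = true := lets_mono ncLet_n (eW_ok hw).1
  have hkr : lets nLet kWord.reverse = true := by rw [lets, List.all_reverse]; exact hk
  have hki := lets_inL nLet_lt hk
  refine ⟨?_, ?_, ?_, ?_⟩
  · have e := (nEq D (lets_app hk hy') (lets_app hy' hk)).2 (eqW_sound hky)
    rwa [wv_app, wv_app, wv_y] at e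
  · have e := (nEq D (lets_app (lets_app hk hk) hk) (v := []) rfl).2 (eqW_sound k3)
    rw [wv_app, wv_app] at e
    exact e.trans (by simp [wval])
  · have e := (nEq D (lets_app (lets_app hk ht) hkr) he).2 (eqW_sound kt)
    rw [wv_e D hw] at e
    rw [← e]
    show _ = wval D.X (cjW kWord tW)
    rw [wv_cj D hki, wv_t]
    rfl
  · have e := (nEq D (lets_app (lets_app hk he) hkr) (lets_app ht he)).2 (eqW_sound kw)
    rw [wv_app D tW, wv_t, wv_e D hw] at e
    rw [← e]
    show _ = wval D.X (cjW kWord (eW wIdx))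
    rw [wv_cj D hki, wv_e D hw]
    rfl

variable (c)

theorem yx_facts : c.f yE * c.f xE = c.f xE * c.f yE ∧ c.f yE ^ 3 = 1 ∧ c.f xE ^ 3 = 1 ∧
    c.ge wIdx * c.f xE * (c.ge wIdx)⁻¹ = (c.f xE)⁻¹ ∧ c.ge wIdx * c.f yE = c.f yE * c.ge wIdx ∧
    c.t * c.f yE = c.f yE * c.t ∧ c.t * c.f xE = c.f xE * c.t ∧ c.ge wIdx ≠ 1 ∧ c.ge wIdx ≠ c.t := by
  obtain ⟨-, -, hc, y3, x3, hw, hwy, h1, h16⟩ := p_facts
  have he := eE_centP h16
  refine ⟨?_, ?_, ?_, ?_, ?_, ?_, ?_, ?_, ?_⟩
  · rw [← c.f_mul yE_centP xE_centP, hc, c.f_mul xE_centP yE_centP]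
  · rw [pow_succ, pow_two, ← c.f_mul yE_centP yE_centP, ← c.f_mul (mul_mem yE_centP yE_centP) yE_centP, y3, c.f_one]
  · rw [pow_succ, pow_two, ← c.f_mul xE_centP xE_centP, ← c.f_mul (mul_mem xE_centP xE_centP) xE_centP, x3, c.f_one]
  · rw [Ctx.ge, ← c.f_conj he xE_centP, hw, c.f_inv xE_centP]
  · rw [Ctx.ge, ← c.f_mul he yE_centP, hwy, c.f_mul yE_centP he]
  · exact (Subgroup.mem_centralizer_singleton_iff.1 (c.f_cent yE_centP)).symm
  · exact (Subgroup.mem_centralizer_singleton_iff.1 (c.f_cent xE_centP)).symm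
  · exact fun e => absurd (c.ge_inj h16 (by norm_num) (e.trans c.ge_zero.symm)) (by omega)
  · exact fun e => absurd (c.ge_inj h16 (by norm_num) (e.trans c.ge_one.symm)) (by omega)

theorem pg_eq (i : ℕ) : pg c i = c.f yE ^ (i / 3) * c.f xE ^ (i % 3) := by
  have hf : ∀ {z : Pm}, z ∈ centP → ∀ m : ℕ, c.f (z ^ m) = c.f z ^ m := fun {z} hz m => by
    induction m with
    | zero => rw [pow_zero, pow_zero, c.f_one]
    | succ m ih => rw [pow_succ, pow_succ, c.f_mul (pow_mem hz m) hz, ih]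
  rw [pg, pE_eq, c.f_mul (pow_mem yE_centP _) (pow_mem xE_centP _), hf yE_centP, hf xE_centP]

theorem pg_mem (a b : ℕ) : ∃ i < 9, c.f yE ^ a * c.f xE ^ b = pg c i := by
  obtain ⟨-, y3, x3, -⟩ := yx_facts c
  refine ⟨3 * (a % 3) + b % 3, by omega, ?_⟩
  rw [pg_eq, show (3 * (a % 3) + b % 3) / 3 = a % 3 by omega, show (3 * (a % 3) + b % 3) % 3 = b % 3 by omega]
  rw [← pow_mod a y3, ← pow_mod b x3]
where
  pow_mod {g : G} (a : ℕ) (h : g ^ 3 = 1) : g ^ a = g ^ (a % 3) := by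
    conv_lhs => rw [← Nat.div_add_mod a 3, pow_add, pow_mul, h, one_pow, one_mul]

/-- The subgroup of order nine. -/
def P : Subgroup G where
  carrier := {g | ∃ i < 9, g = pg c i}
  one_mem' := ⟨0, by norm_num, by rw [pg_eq]; simp⟩
  mul_mem' := by
    rintro _ _ ⟨i, -, rfl⟩ ⟨j, -, rfl⟩
    obtain ⟨hc, -⟩ := yx_facts c
    obtain ⟨k, hk, e⟩ := pg_mem c (i / 3 + j / 3) (i % 3 + j % 3)
    refine ⟨k, hk, ?_⟩
    rw [← e, pg_eq, pg_eq, pow_add, pow_add]
    exact (Commute.pow_pow (show Commute (c.f xE) (c.f yE) from hc.symm) _ _).mul_mul_mul_comm _ _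
  inv_mem' := by
    rintro _ ⟨i, -, rfl⟩
    obtain ⟨hc, y3, x3, -⟩ := yx_facts c
    obtain ⟨k, hk, e⟩ := pg_mem c (2 * (i / 3)) (2 * (i % 3))
    refine ⟨k, hk, ?_⟩
    rw [← e]
    refine inv_eq_of_mul_eq_one_left ?_
    rw [pg_eq, (Commute.pow_pow (show Commute (c.f xE) (c.f yE) from hc.symm) _ _).mul_mul_mul_comm, ← pow_add,
      ← pow_add, show 2 * (i / 3) + i / 3 = 3 * (i / 3) by omega, show 2 * (i % 3) + i % 3 = 3 * (i % 3) by omega,
      pow_mul, pow_mul, y3, x3]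
    simp

theorem mem_P {g : G} : g ∈ P c ↔ ∃ i < 9, g = pg c i := Iff.rfl

theorem P_card : Nat.card (P c) = 9 := by
  rw [← Nat.card_fin 9]
  refine (Nat.card_eq_of_bijective (fun i : Fin 9 => (⟨pg c i, i, i.2, rfl⟩ : P c)) ⟨fun a b h => ?_, ?_⟩).symm
  · exact Fin.ext (pE_inj a.2 b.2 (c.f_inj (pE_centP _) (pE_centP _) (congrArg Subtype.val h)))
  · rintro ⟨_, i, hi, rfl⟩
    exact ⟨⟨i, hi⟩, rfl⟩

theorem y_mem_P : c.f yE ∈ P c := ⟨3, by norm_num, by rw [pg_eq]; simp⟩

theorem x_mem_P : c.f xE ∈ P c := ⟨1, by norm_num, by rw [pg_eq]; simp⟩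

theorem comm_P {g : G} (hy : g * c.f yE = c.f yE * g) (hx : g * c.f xE = c.f xE * g) : ∀ p ∈ P c, g * p = p * g := by
  rintro _ ⟨i, -, rfl⟩
  rw [pg_eq]
  exact ((show Commute g (c.f yE) from hy).pow_right _).mul_right ((show Commute g (c.f xE) from hx).pow_right _)

/-- An element of odd order centralising the first element and the involution lies in the subgroup. -/
theorem odd_in_P {g : G} (ht : g * c.t = c.t * g) (hy : g * c.f yE = c.f yE * g) (ho : Odd (orderOf g)) : g ∈ P c := by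
  obtain ⟨z, hz, rfl⟩ := c.exists_f (Subgroup.mem_centralizer_singleton_iff.2 ht)
  have hy' : z * yE = yE * z := c.f_inj (mul_mem hz yE_centP) (mul_mem yE_centP hz) (by
    rw [c.f_mul hz yE_centP, c.f_mul yE_centP hz, hy])
  rw [c.f_def hz, orderOf_injective c.ι c.inj, Subgroup.orderOf_mk] at ho
  obtain ⟨i, hi, e⟩ := cy_three hz hy' (cy_card hz hy' ho)
  exact ⟨i, hi, by rw [e, pg]⟩

theorem cent_both {g : G} (ht : g * c.t = c.t * g) (hy : g * c.f yE = c.f yE * g) (hx : g * c.f xE = c.f xE * g) :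
    ∃ p ∈ P c, g = p ∨ g = p * c.t := by
  obtain ⟨z, hz, rfl⟩ := c.exists_f (Subgroup.mem_centralizer_singleton_iff.2 ht)
  obtain ⟨i, hi, e | e⟩ := cy_both hz
    (c.f_inj (mul_mem hz yE_centP) (mul_mem yE_centP hz) (by rw [c.f_mul hz yE_centP, c.f_mul yE_centP hz, hy]))
    (c.f_inj (mul_mem hz xE_centP) (mul_mem xE_centP hz) (by rw [c.f_mul hz xE_centP, c.f_mul xE_centP hz, hx]))
  · exact ⟨_, ⟨i, hi, rfl⟩, Or.inl (by rw [e, pg])⟩
  · exact ⟨_, ⟨i, hi, rfl⟩, Or.inr (by rw [e, c.f_mul (pE_centP i) (mem_centP.2 ⟨tPerm_mem, rfl⟩), c.f_t, pg])⟩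

/-- The elements of odd order centralising the subgroup. -/
theorem exists_odd_cent : ∃ O : Subgroup G, Odd (Nat.card O) ∧
    (∀ g, g ∈ O → g * c.f yE = c.f yE * g ∧ g * c.f xE = c.f xE * g) ∧
    ∀ g, g * c.f yE = c.f yE * g → g * c.f xE = c.f xE * g → Odd (orderOf g) → g ∈ O := by
  obtain ⟨-, y3, x3, -, -, hty, htx, -⟩ := yx_facts c
  let C : Subgroup G := Subgroup.centralizer ({c.f yE} : Set G) ⊓ Subgroup.centralizer ({c.f xE} : Set G)
  have hC : ∀ g, g ∈ C ↔ g * c.f yE = c.f yE * g ∧ g * c.f xE = c.f xE * g := fun g => by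
    simp [C, Subgroup.mem_centralizer_singleton_iff]
  obtain ⟨O, hle, hodd, hmax⟩ := odd_closure C ((hC _).2 ⟨hty, htx⟩) c.t_sq c.t_ne fun s hs hst ⟨k, hk⟩ => by
    obtain ⟨hy, hx⟩ := (hC s).1 hs
    obtain ⟨p, hp, e⟩ := cent_both c hst hy hx
    have hp9 : p ^ 9 = 1 := by
      have := pow_card_eq_one' (G := P c) (x := ⟨p, hp⟩)
      rw [P_card] at this
      exact congrArg Subtype.val this
    have hk' : s ^ (2 * 2 ^ k) = 1 := by rw [mul_comm, pow_mul, hk, one_pow]
    have hpk : p ^ (2 * 2 ^ k) = 1 := by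
      rcases e with rfl | rfl
      · exact hk'
      · have hcp : Commute p c.t := (comm_P c hty htx p hp).symm
        rwa [hcp.mul_pow, pow_mul c.t, pow_two, c.t_sq, one_pow, mul_one] at hk'
    have hp1 : p = 1 := orderOf_eq_one_iff.1 (Nat.eq_one_of_dvd_coprimes
      ((show Nat.Coprime 9 2 by norm_num).pow_right (k + 1)) (orderOf_dvd_of_pow_eq_one hp9)
      (orderOf_dvd_of_pow_eq_one (by rw [pow_succ']; exact hpk)))
    rw [hp1, one_mul] at e
    exact e
  exact ⟨O, hodd, fun g hg => (hC g).1 (hle hg), fun g hy hx => hmax g ((hC g).2 ⟨hy, hx⟩)⟩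

variable {c}

/-- If some element of odd order outside the subgroup centralises it, the two conjugates commute. -/
theorem comm_of_fixed {a : G} (hay : a * c.f yE = c.f yE * a) (hax : a * c.f xE = c.f xE * a) (ho : Odd (orderOf a))
    (ha : a ∉ P c) {k : G} (hky : k * c.f yE = c.f yE * k) (hkt : a * (k * c.t * k⁻¹) = k * c.t * k⁻¹ * a) :
    Commute (c.f xE) (k * c.f xE * k⁻¹) := by
  obtain ⟨hc, y3, x3, -⟩ := yx_facts c
  have hy' : k⁻¹ * c.f yE * k = c.f yE := by rw [mul_assoc, ← hky, inv_mul_cancel_left]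
  have h1 : k⁻¹ * a * k * c.f yE = c.f yE * (k⁻¹ * a * k) := by
    calc k⁻¹ * a * k * c.f yE = k⁻¹ * (a * c.f yE) * k := by rw [mul_assoc (k⁻¹ * a), hky]; group
      _ = k⁻¹ * (c.f yE * a) * k := by rw [hay]
      _ = (k⁻¹ * c.f yE * k) * (k⁻¹ * a * k) := by group
      _ = _ := by rw [hy']
  have h2 : k⁻¹ * a * k * c.t = c.t * (k⁻¹ * a * k) := by
    calc k⁻¹ * a * k * c.t = k⁻¹ * (a * (k * c.t * k⁻¹)) * k := by group
      _ = k⁻¹ * (k * c.t * k⁻¹ * a) * k := by rw [hkt]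
      _ = _ := by group
  have h3 : Odd (orderOf (k⁻¹ * a * k)) := by
    rwa [show k⁻¹ * a * k = MulAut.conj k⁻¹ a by simp, MulEquiv.orderOf_eq]
  obtain ⟨i, hi, e⟩ := odd_in_P c h2 h1 h3
  have hb : i % 3 ≠ 0 := fun h0 => ha (by
    have ea : a = k * pg c i * k⁻¹ := by rw [← e]; group
    rw [ea, pg_eq, h0, pow_zero, mul_one, ← conj_pow, hky, mul_inv_cancel_right]
    exact pow_mem (y_mem_P c) _)
  have hX : Commute (c.f xE) ((k * c.f xE * k⁻¹) ^ (i % 3)) := by
    have ea : a = c.f yE ^ (i / 3) * (k * c.f xE * k⁻¹) ^ (i % 3) := by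
      have : a = k * pg c i * k⁻¹ := by rw [← e]; group
      rw [this, pg_eq, conj_pow, ← mul_assoc, ((show Commute k (c.f yE) from hky).pow_right _).eq]
      group
    have e2 : (k * c.f xE * k⁻¹) ^ (i % 3) = (c.f yE ^ (i / 3))⁻¹ * a := by rw [ea, inv_mul_cancel_left]
    rw [e2]
    exact ((show Commute (c.f xE) (c.f yE) from hc.symm).pow_right _).inv_right.mul_right
      (show Commute (c.f xE) a from hax.symm)
  have h3' : (k * c.f xE * k⁻¹) ^ 3 = 1 := by rw [conj_pow, x3]; group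
  obtain h | h : i % 3 = 1 ∨ i % 3 = 2 := by omega
  · rwa [h, pow_one] at hX
  · rw [h] at hX
    have := hX.mul_right hX
    rwa [← pow_add, show (k * c.f xE * k⁻¹) ^ (2 + 2) = k * c.f xE * k⁻¹ by
      rw [show 2 + 2 = 3 + 1 from rfl, pow_succ, h3', one_mul]] at this

theorem four_P {i : ℕ} (hi : i = 1 ∨ i = 2 ∨ i = 3 ∨ i = 6) : HasFour (pg c i) := by
  have h := List.all_eq_true.1 pFour_ok i (by rcases hi with rfl | rfl | rfl | rfl <;> simp)
  simp only [fourOK, Bool.and_eq_true, beq_iff_eq, bne_iff_ne, List.all_eq_true] at h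
  obtain ⟨⟨⟨hlen, hall⟩, hcom⟩, hne⟩ := h
  set q := pFour.getD i []
  have hq : ∀ j < 2, lets cLet (q.getD j []) = true ∧ val (q.getD j []) * val (q.getD j []) = 1 ∧
      key (q.getD j []) ≠ key [] ∧ val (q.getD j []) * pE i = pE i * val (q.getD j []) := fun j hj => by
    rw [List.getD_eq_getElem _ _ (by rw [hlen]; exact hj)]
    obtain ⟨⟨⟨h1, h2⟩, h3⟩, h4⟩ := hall _ (List.getElem_mem _)
    have := eqW_sound h2
    rw [val_app, val_nil] at this
    exact ⟨h1, this, h3, comW_sound h4⟩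
  obtain ⟨a1, a2, a3, a4⟩ := hq 0 (by norm_num)
  obtain ⟨b1, b2, b3, b4⟩ := hq 1 (by norm_num)
  have ha := val_centP a1
  have hb := val_centP b1
  refine ⟨c.f (val (q.getD 0 [])), c.f (val (q.getD 1 [])), by rw [← c.f_mul ha ha, a2, c.f_one],
    by rw [← c.f_mul hb hb, b2, c.f_one], fun e => a3 ?_, fun e => b3 ?_, fun e => hne ?_,
    by rw [← c.f_mul ha hb, comW_sound hcom, c.f_mul hb ha],
    by rw [pg, ← c.f_mul ha (pE_centP i), a4, c.f_mul (pE_centP i) ha],
    by rw [pg, ← c.f_mul hb (pE_centP i), b4, c.f_mul (pE_centP i) hb]⟩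
  · exact key_of_eq (lets_inL cLet_lt a1) rfl (by rw [val_nil]; exact c.f_inj ha (one_mem _) (e.trans c.f_one.symm))
  · exact key_of_eq (lets_inL cLet_lt b1) rfl (by rw [val_nil]; exact c.f_inj hb (one_mem _) (e.trans c.f_one.symm))
  · exact key_of_eq (lets_inL cLet_lt a1) (lets_inL cLet_lt b1) (c.f_inj ha hb e)

theorem no_four_P {i : ℕ} (hi : i = 4 ∨ i = 5 ∨ i = 7 ∨ i = 8) : ¬ HasFour (pg c i) := by
  haveI := Fact.mk Nat.prime_two
  rintro ⟨u, v, u2, v2, u1, v1, huv, hc, cu, cv⟩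
  obtain ⟨-, -, -, -, -, hty, htx, -⟩ := yx_facts c
  have hcent : ∀ s, s * s = 1 → s ≠ 1 → s * c.t = c.t * s → s * pg c i = pg c i * s → s = c.t := by
    intro s s2 s1 hst hsp
    by_contra hne
    obtain ⟨g, hg, e⟩ := c.invol_conj (Subgroup.mem_centralizer_singleton_iff.2 hst) s2 s1 hne
    obtain ⟨d, hd, rfl⟩ := c.exists_f hg
    obtain ⟨j, hj, ej⟩ := cls_exhaust (inv_mem hd)
    have hs : s = c.f (clsE j) := by
      rw [← ej, c.f_conj (inv_mem hd) (eE_centP (by norm_num)), c.f_inv hd, show c.f (eE 2) = c.ge 2 from rfl, ← e]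
      group
    have hjc : clsE j ∈ centP := by
      rw [← ej]; exact mul_mem (mul_mem (inv_mem hd) (eE_centP (by norm_num))) (inv_mem (inv_mem hd))
    refine single_facts hi hj (c.f_inj (mul_mem (pE_centP i) hjc) (mul_mem hjc (pE_centP i)) ?_)
    rw [c.f_mul (pE_centP i) hjc, c.f_mul hjc (pE_centP i), ← hs]
    exact hsp.symm
  set H := Subgroup.centralizer ({pg c i} : Set G) with hH
  have htH : c.t ∈ H := Subgroup.mem_centralizer_singleton_iff.2 (comm_P c hty htx _ ⟨i, by omega, rfl⟩)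
  have ht2 : (⟨c.t, htH⟩ : H) ^ 2 ^ 1 = 1 := Subtype.ext (by simp [pow_two, c.t_sq])
  obtain ⟨S, hS⟩ := (IsPGroup.of_card (n := 1) (show Nat.card (Subgroup.zpowers (⟨c.t, htH⟩ : H)) = 2 ^ 1 by
    rw [Nat.card_zpowers]
    exact (orderOf_eq_prime (by simpa using ht2) fun e => c.t_ne (congrArg Subtype.val e)).trans (pow_one 2).symm))
      |>.exists_le_sylow
  have htS : (⟨c.t, htH⟩ : H) ∈ (S : Subgroup H) := hS (Subgroup.mem_zpowers _)
  -- the only involution of `S`
  haveI : Nontrivial (S : Subgroup H) := ⟨⟨⟨_, htS⟩, 1, fun e => c.t_ne (congrArg (fun a : (S : Subgroup H) => ((a : H) : G)) e)⟩⟩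
  haveI : Nontrivial (Subgroup.center (S : Subgroup H)) := S.isPGroup'.center_nontrivial
  obtain ⟨z, hz2⟩ := exists_prime_orderOf_dvd_card' (G := Subgroup.center (S : Subgroup H)) 2 (by
    obtain ⟨n, hn, hcard⟩ := (S.isPGroup'.to_subgroup _).nontrivial_iff_card.1 ‹_›
    rw [hcard]
    exact dvd_pow_self 2 (by omega))
  have zfacts : ∀ s : (S : Subgroup H), ((s : H) : G) * (((z.1 : (S : Subgroup H)) : H) : G) =
      (((z.1 : (S : Subgroup H)) : H) : G) * ((s : H) : G) := fun s =>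
    congrArg (fun a : (S : Subgroup H) => ((a : H) : G)) (Subgroup.mem_center_iff.1 z.2 s)
  have hzt : (((z.1 : (S : Subgroup H)) : H) : G) = c.t := by
    have hz := pow_orderOf_eq_one z
    rw [hz2, pow_two] at hz
    refine hcent _ (congrArg (fun a : Subgroup.center (S : Subgroup H) => ((a.1 : H) : G)) hz) (fun e => ?_)
      (zfacts ⟨_, htS⟩).symm (Subgroup.mem_centralizer_singleton_iff.1 z.1.1.2)
    rw [show z = 1 from Subtype.ext (Subtype.ext (Subtype.ext e)), orderOf_one] at hz2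
    exact absurd hz2 (by norm_num)
  -- conjugate the four-group into `S`
  let W : Subgroup H := Subgroup.closure {⟨u, Subgroup.mem_centralizer_singleton_iff.2 cu⟩,
    ⟨v, Subgroup.mem_centralizer_singleton_iff.2 cv⟩}
  have hW : IsPGroup 2 W := by
    have key : ∀ g ∈ W, g * g = 1 ∧ (g : G) * u = u * g ∧ (g : G) * v = v * g := by
      intro g hg
      induction hg using Subgroup.closure_induction with
      | mem g hg =>
        simp only [Set.mem_insert_iff, Set.mem_singleton_iff] at hg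
        rcases hg with rfl | rfl
        · exact ⟨Subtype.ext u2, rfl, hc⟩
        · exact ⟨Subtype.ext v2, hc.symm, rfl⟩
      | one => simp
      | mul g h hg hh ihg ihh =>
        obtain ⟨g2, gu, gv⟩ := ihg
        obtain ⟨h2, hu, hv⟩ := ihh
        have hgh : Commute g h := by
          clear h2 hu hv
          induction hh using Subgroup.closure_induction with
          | mem x hx =>
            simp only [Set.mem_insert_iff, Set.mem_singleton_iff] at hx
            rcases hx with rfl | rfl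
            · exact Subtype.ext gu
            · exact Subtype.ext gv
          | one => exact Commute.one_right g
          | mul a b _ _ h1 h2 => exact h1.mul_right h2
          | inv a _ h1 => exact h1.inv_right
        refine ⟨?_, ?_, ?_⟩
        · rw [hgh.symm.mul_mul_mul_comm, g2, h2, one_mul]
        · exact ((show Commute (g : G) u from gu).mul_left hu)
        · exact ((show Commute (g : G) v from gv).mul_left hv)
      | inv g hg ih =>
        obtain ⟨g2, gu, gv⟩ := ih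
        rw [inv_eq_of_mul_eq_one_left g2]
        exact ⟨g2, gu, gv⟩
    intro a
    refine ⟨1, Subtype.ext ?_⟩
    show a.1 ^ 2 ^ 1 = 1
    rw [pow_one, pow_two]
    exact (key a.1 a.2).1
  obtain ⟨R, hR⟩ := hW.exists_le_sylow
  obtain ⟨n, hn⟩ := MulAction.exists_smul_eq H R S
  have hin : ∀ g ∈ W, g * g = 1 → g ≠ 1 → ((n * g * n⁻¹ : H) : G) = c.t := by
    intro g hg g2 g1
    have hgS : n * g * n⁻¹ ∈ (S : Subgroup H) := by
      rw [← hn, Sylow.coe_subgroup_smul]
      exact ⟨g, hR hg, rfl⟩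
    have g2' : n * g * n⁻¹ * (n * g * n⁻¹) = 1 := by
      calc n * g * n⁻¹ * (n * g * n⁻¹) = n * (g * g) * n⁻¹ := by group
        _ = 1 := by rw [g2]; group
    refine hcent _ (congrArg Subtype.val g2') (fun e => g1 (conj_eq_one_iff.1 (Subtype.ext e))) ?_
      (Subgroup.mem_centralizer_singleton_iff.1 (n * g * n⁻¹).2)
    rw [← hzt]
    exact zfacts ⟨_, hgS⟩
  have e1 := hin ⟨u, _⟩ (Subgroup.subset_closure (Or.inl rfl)) (Subtype.ext u2) fun e => u1 (congrArg Subtype.val e)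
  have e2 := hin ⟨v, _⟩ (Subgroup.subset_closure (Or.inr rfl)) (Subtype.ext v2) fun e => v1 (congrArg Subtype.val e)
  exact huv (congrArg Subtype.val (mul_left_cancel (mul_right_cancel (Subtype.ext (e1.trans e2.symm)))))

theorem four_iff {p : G} (hp : p ∈ P c) (h1 : p ≠ 1) :
    HasFour p ↔ p = c.f xE ∨ p = (c.f xE)⁻¹ ∨ p = c.f yE ∨ p = (c.f yE)⁻¹ := by
  obtain ⟨-, y3, x3, -⟩ := yx_facts c
  have ex : (c.f xE)⁻¹ = c.f xE ^ 2 := inv_eq_of_mul_eq_one_left (by rw [← pow_succ, x3])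
  have ey : (c.f yE)⁻¹ = c.f yE ^ 2 := inv_eq_of_mul_eq_one_left (by rw [← pow_succ, y3])
  have p1 : pg c 1 = c.f xE := by rw [pg_eq]; simp
  have p2 : pg c 2 = (c.f xE)⁻¹ := by rw [pg_eq, ex]; simp
  have p3 : pg c 3 = c.f yE := by rw [pg_eq]; simp
  have p6 : pg c 6 = (c.f yE)⁻¹ := by rw [pg_eq, ey]; simp
  constructor
  · intro hf
    obtain ⟨i, hi, rfl⟩ := hp
    interval_cases i
    · exact absurd (by rw [pg_eq]; simp) h1
    · exact Or.inl p1
    · exact Or.inr (Or.inl p2)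
    · exact Or.inr (Or.inr (Or.inl p3))
    · exact absurd hf (no_four_P (by norm_num))
    · exact absurd hf (no_four_P (by norm_num))
    · exact Or.inr (Or.inr (Or.inr p6))
    · exact absurd hf (no_four_P (by norm_num))
    · exact absurd hf (no_four_P (by norm_num))
  · rintro (rfl | rfl | rfl | rfl)
    · exact p1 ▸ four_P (by norm_num)
    · exact p2 ▸ four_P (by norm_num)
    · exact p3 ▸ four_P (by norm_num)
    · exact p6 ▸ four_P (by norm_num)

/-- If the subgroup is the odd part of its centraliser it is a Sylow subgroup. -/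
theorem P_max (hO : ∀ g : G, g * c.f yE = c.f yE * g → g * c.f xE = c.f xE * g → Odd (orderOf g) → g ∈ P c)
    (Q : Subgroup G) (hQ : IsPGroup 3 Q) (hle : P c ≤ Q) : Q = P c := by
  haveI := Fact.mk Nat.prime_three
  by_contra hne
  have hlt : (P c).subgroupOf Q < ⊤ := lt_top_iff_ne_top.2 fun h => hne (le_antisymm (fun q hq => by
    have : (⟨q, hq⟩ : Q) ∈ (P c).subgroupOf Q := h ▸ Subgroup.mem_top _
    exact this) hle)
  haveI : Group.IsNilpotent Q := hQ.isNilpotent
  obtain ⟨⟨n, hnQ⟩, hn, hn'⟩ := SetLike.exists_of_lt (Group.normalizerCondition_of_isNilpotent _ hlt)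
  have hnP : ∀ p ∈ P c, n * p * n⁻¹ ∈ P c := fun p hp =>
    (Subgroup.mem_normalizer_iff.1 hn ⟨p, hle hp⟩).1 hp
  obtain ⟨hc, y3, x3, -⟩ := yx_facts c
  have x1 : c.f xE ≠ 1 := fun e => absurd (pE_inj (i := 1) (j := 0) (by norm_num) (by norm_num)
    (c.f_inj (pE_centP 1) (pE_centP 0) (show pg c 1 = pg c 0 by rw [pg_eq, pg_eq, e]; simp))) (by norm_num)
  have y1 : c.f yE ≠ 1 := fun e => absurd (pE_inj (i := 3) (j := 0) (by norm_num) (by norm_num)
    (c.f_inj (pE_centP 3) (pE_centP 0) (show pg c 3 = pg c 0 by rw [pg_eq, pg_eq, e]; simp))) (by norm_num)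
  have xy : c.f xE ≠ c.f yE := fun e => absurd (pE_inj (i := 1) (j := 3) (by norm_num) (by norm_num)
    (c.f_inj (pE_centP 1) (pE_centP 3) (show pg c 1 = pg c 3 by rw [pg_eq, pg_eq, e]; simp))) (by norm_num)
  have xy' : c.f xE ≠ (c.f yE)⁻¹ := fun e => absurd (pE_inj (i := 1) (j := 6) (by norm_num) (by norm_num)
    (c.f_inj (pE_centP 1) (pE_centP 6) (show pg c 1 = pg c 6 by
      rw [pg_eq, pg_eq, e, inv_eq_of_mul_eq_one_left (show c.f yE ^ 2 * c.f yE = 1 by rw [← pow_succ, y3])]; simp)))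
    (by norm_num)
  have img : ∀ p ∈ P c, p ≠ 1 → HasFour p → n * p * n⁻¹ = c.f xE ∨ n * p * n⁻¹ = (c.f xE)⁻¹ ∨
      n * p * n⁻¹ = c.f yE ∨ n * p * n⁻¹ = (c.f yE)⁻¹ := fun p hp hp1 hf =>
    (four_iff (hnP p hp) fun e => hp1 (conj_eq_one_iff.1 e)).1 (hf.conj n)
  obtain ⟨h4x, h4y⟩ := four_fix xy xy' (img _ (x_mem_P c) x1 ((four_iff (x_mem_P c) x1).2 (Or.inl rfl)))
    (img _ (y_mem_P c) y1 ((four_iff (y_mem_P c) y1).2 (Or.inr (Or.inr (Or.inl rfl)))))
  obtain ⟨m, hm⟩ := hQ ⟨n, hnQ⟩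
  have hm' : n ^ 3 ^ m = 1 := congrArg Subtype.val hm
  have h4 : n ^ 4 ∈ P c := hO _ h4y h4x ((show Odd (3 ^ m) from (show Odd 3 by decide).pow).of_dvd_nat
    (orderOf_dvd_of_pow_eq_one (by rw [← pow_mul, mul_comm, pow_mul, hm', one_pow])))
  have hco : (orderOf n).Coprime 4 := by
    refine Nat.Coprime.coprime_dvd_left (orderOf_dvd_of_pow_eq_one hm') ?_
    exact Nat.Coprime.pow_left m (by norm_num)
  obtain ⟨e, he⟩ := exists_pow_eq_self_of_coprime hco.symm
  exact hn' (show n ∈ P c from he ▸ pow_mem h4 e)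

theorem kW_four {i : ℕ} (hi : 1 ≤ i) (hi9 : i < 9) : lets nLet (kW i) = true ∧ HasFour (wval D.X (kW i)) := by
  have h := kFour_ok.1
  simp only [Bool.and_eq_true, List.all_eq_true] at h
  obtain ⟨⟨⟨⟨⟨hp, hq⟩, -⟩, -⟩, -⟩, hall⟩ := h
  have hw : lets nLet (kW i) = true := lets_app (lets_flatten _ hp) (lets_flatten _ hq)
  have hf := hall i (List.mem_range'_1.2 ⟨hi, by omega⟩)
  simp only [fourOK, Bool.and_eq_true, beq_iff_eq, bne_iff_ne, List.all_eq_true] at hf
  obtain ⟨⟨⟨hlen, hall'⟩, hcom⟩, hne⟩ := hf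
  set q := kFour.getD i []
  have hq' : ∀ j < 2, lets nLet (q.getD j []) = true ∧ val (q.getD j [] ++ q.getD j []) = val [] ∧
      key (q.getD j []) ≠ key [] ∧ val (q.getD j [] ++ kW i) = val (kW i ++ q.getD j []) := fun j hj => by
    rw [List.getD_eq_getElem _ _ (by rw [hlen]; exact hj)]
    obtain ⟨⟨⟨h1, h2⟩, h3⟩, h4⟩ := hall' _ (List.getElem_mem _)
    exact ⟨h1, eqW_sound h2, h3, eqW_sound h4⟩
  obtain ⟨a1, a2, a3, a4⟩ := hq' 0 (by norm_num)
  obtain ⟨b1, b2, b3, b4⟩ := hq' 1 (by norm_num)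
  have nil : wval D.X [] = 1 := by simp [wval]
  refine ⟨hw, wval D.X (q.getD 0 []), wval D.X (q.getD 1 []), ?_, ?_, fun e => a3 ?_, fun e => b3 ?_,
    fun e => hne ?_, ?_, ?_, ?_⟩
  · rw [← wv_app, ← nil]; exact (nEq D (lets_app a1 a1) rfl).2 a2
  · rw [← wv_app, ← nil]; exact (nEq D (lets_app b1 b1) rfl).2 b2
  · exact key_of_eq (lets_inL nLet_lt a1) rfl ((nEq D a1 rfl).1 (e.trans nil.symm))
  · exact key_of_eq (lets_inL nLet_lt b1) rfl ((nEq D b1 rfl).1 (e.trans nil.symm))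
  · exact key_of_eq (lets_inL nLet_lt a1) (lets_inL nLet_lt b1) ((nEq D a1 b1).1 e)
  · rw [← wv_app, ← wv_app]; exact (nEq D (lets_app a1 b1) (lets_app b1 a1)).2 (eqW_sound hcom)
  · rw [← wv_app, ← wv_app]; exact (nEq D (lets_app a1 hw) (lets_app hw a1)).2 a4
  · rw [← wv_app, ← wv_app]; exact (nEq D (lets_app b1 hw) (lets_app hw b1)).2 b4

include D in
/-- The subgroup is smaller than the odd part of its centraliser. -/
theorem exists_outside : ∃ a : G, a * c.f yE = c.f yE * a ∧ a * c.f xE = c.f xE * a ∧ Odd (orderOf a) ∧ a ∉ P c := by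
  haveI := Fact.mk Nat.prime_three
  by_contra hno
  push Not at hno
  have hPp : IsPGroup 3 (P c) := IsPGroup.of_card (n := 2) (by rw [P_card]; norm_num)
  obtain ⟨Q, hQ⟩ := hPp.exists_le_sylow
  have hQP := P_max hno Q Q.isPGroup' hQ
  have h := kFour_ok.1
  simp only [Bool.and_eq_true] at h
  obtain ⟨⟨⟨⟨⟨hp, hq⟩, hc⟩, p3⟩, q3⟩, -⟩ := h
  set p := wval D.X pKWord
  set q := wval D.X qKWord
  have nil : wval D.X [] = 1 := by simp [wval]
  have cpq : Commute p q := by
    show p * q = q * p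
    rw [← wv_app, ← wv_app]
    exact (nEq D (lets_app hp hq) (lets_app hq hp)).2 (eqW_sound hc)
  have p3' : p ^ 3 = 1 := by
    rw [pow_succ, pow_two, ← wv_app, ← wv_app, ← nil]
    exact (nEq D (lets_app (lets_app hp hp) hp) rfl).2 (eqW_sound p3)
  have q3' : q ^ 3 = 1 := by
    rw [pow_succ, pow_two, ← wv_app, ← wv_app, ← nil]
    exact (nEq D (lets_app (lets_app hq hq) hq) rfl).2 (eqW_sound q3)
  let K : Subgroup G :=
    { carrier := {g | ∃ a b : ℕ, g = p ^ a * q ^ b}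
      one_mem' := ⟨0, 0, by simp⟩
      mul_mem' := by
        rintro _ _ ⟨a, b, rfl⟩ ⟨a', b', rfl⟩
        exact ⟨a + a', b + b', by rw [pow_add, pow_add, (cpq.symm.pow_pow b a').mul_mul_mul_comm]⟩
      inv_mem' := by
        rintro _ ⟨a, b, rfl⟩
        refine ⟨2 * a, 2 * b, inv_eq_of_mul_eq_one_left ?_⟩
        rw [(cpq.symm.pow_pow _ _).mul_mul_mul_comm, ← pow_add, ← pow_add, show 2 * a + a = 3 * a by omega,
          show 2 * b + b = 3 * b by omega, pow_mul, pow_mul, p3', q3']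
        simp }
  have hK3 : IsPGroup 3 K := by
    rintro ⟨_, a, b, rfl⟩
    refine ⟨1, Subtype.ext ?_⟩
    show (p ^ a * q ^ b) ^ 3 ^ 1 = 1
    rw [pow_one, (cpq.pow_pow a b).mul_pow, pow_right_comm, p3', pow_right_comm, q3']
    simp
  obtain ⟨R, hR⟩ := hK3.exists_le_sylow
  obtain ⟨g, hg⟩ := MulAction.exists_smul_eq G R Q
  have hflat : ∀ (m : ℕ) (w : List ℕ), wval D.X (List.replicate m w).flatten = wval D.X w ^ m := fun m w => by
    induction m with
    | zero => simpa using nil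
    | succ m ih => rw [List.replicate_succ, List.flatten_cons, wv_app, ih, pow_succ']
  have hkmem : ∀ i, wval D.X (kW i) ∈ K := fun i => by
    rw [kW, wv_app, hflat, hflat]
    exact ⟨_, _, rfl⟩
  have hconj : ∀ i, g * wval D.X (kW i) * g⁻¹ ∈ P c := fun i => by
    rw [← hQP, ← hg, Sylow.coe_subgroup_smul]
    exact ⟨_, hR (hkmem i), rfl⟩
  have hw : ∀ i, lets nLet (kW i) = true := fun i => lets_app (lets_flatten _ hp) (lets_flatten _ hq)
  have hinj : Function.Injective (fun i : Fin 9 => (⟨_, hconj i⟩ : P c)) := fun a b e =>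
    Fin.ext (List.inj_on_of_nodup_map kFour_ok.2 (List.mem_range.2 a.2) (List.mem_range.2 b.2)
      (key_of_eq (lets_inL nLet_lt (hw a)) (lets_inL nLet_lt (hw b))
        ((nEq D (hw a) (hw b)).1 (mul_left_cancel (mul_right_cancel (congrArg Subtype.val e))))))
  obtain ⟨⟨i, hi⟩, e⟩ := (hinj.bijective_of_nat_card_le (by rw [P_card, Nat.card_fin])).2 ⟨pg c 4, 4, by norm_num, rfl⟩
  have e' : g * wval D.X (kW i) * g⁻¹ = pg c 4 := congrArg Subtype.val e
  rcases Nat.eq_zero_or_pos i with rfl | hpos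
  · have h0 : kW 0 = [] := by simp [kW]
    rw [h0, nil, mul_one, mul_inv_cancel] at e'
    exact absurd (pE_inj (i := 4) (j := 0) (by norm_num) (by norm_num)
      (c.f_inj (pE_centP 4) (pE_centP 0) (show pg c 4 = pg c 0 by rw [← e', pg_eq]; simp))) (by norm_num)
  · exact no_four_P (c := c) (i := 4) (by norm_num) (e' ▸ (kW_four D hpos hi).2.conj g)

theorem three_comm : Commute (c.f xE) (kg D * c.f xE * (kg D)⁻¹) := by
  obtain ⟨ky, k3, kt, kw⟩ := k_rel D
  obtain ⟨hc, y3, x3, hwx, hwy, hty, htx, w1, wt⟩ := yx_facts c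
  obtain ⟨a, hay, hax, hao, haP⟩ := exists_outside D
  obtain ⟨O, hodd, hOc, hOmax⟩ := exists_odd_cent c
  set k := kg D
  set w := c.ge wIdx
  obtain ⟨-, -, -, -, -, -, -, -, h16⟩ := p_facts
  have w2 : w * w = 1 := c.ge_sq h16
  have tw : c.t * w = w * c.t := by rw [← c.ge_one]; exact c.ge_comm (by norm_num) h16
  let V : Subgroup G :=
    { carrier := {g | g = 1 ∨ g = c.t ∨ g = w ∨ g = c.t * w}
      one_mem' := Or.inl rfl
      mul_mem' := by
        have r1 : ∀ b, c.t * (c.t * b) = b := fun b => by rw [← mul_assoc, c.t_sq, one_mul]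
        have r2 : ∀ b, w * (w * b) = b := fun b => by rw [← mul_assoc, w2, one_mul]
        have r3 : ∀ b, w * (c.t * b) = c.t * (w * b) := fun b => by rw [← mul_assoc, ← tw, mul_assoc]
        rintro a b (rfl | rfl | rfl | rfl) (rfl | rfl | rfl | rfl) <;>
          simp [mul_assoc, r1, r3, c.t_sq, w2, tw.symm]
      inv_mem' := by
        rintro a (rfl | rfl | rfl | rfl)
        · exact Or.inl inv_one
        · exact Or.inr (Or.inl (inv_eq_of_mul_eq_one_left c.t_sq))
        · exact Or.inr (Or.inr (Or.inl (inv_eq_of_mul_eq_one_left w2)))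
        · refine Or.inr (Or.inr (Or.inr (inv_eq_of_mul_eq_one_left ?_)))
          rw [mul_assoc, ← mul_assoc w, ← tw, mul_assoc, w2, mul_one, c.t_sq] }
  have hVsq : ∀ v ∈ V, v * v = 1 := by
    rintro v (rfl | rfl | rfl | rfl)
    · exact one_mul 1
    · exact c.t_sq
    · exact w2
    · rw [mul_assoc, ← mul_assoc w, ← tw, mul_assoc, w2, mul_one, c.t_sq]
  haveI : IsMulCommutative V := ⟨⟨fun u v => Subtype.ext (by
    have e1 : u.1⁻¹ = u.1 := inv_eq_of_mul_eq_one_left (hVsq _ u.2)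
    have e2 : v.1⁻¹ = v.1 := inv_eq_of_mul_eq_one_left (hVsq _ v.2)
    have e3 : (u.1 * v.1)⁻¹ = u.1 * v.1 := inv_eq_of_mul_eq_one_left (hVsq _ (mul_mem u.2 v.2))
    rw [mul_inv_rev, e1, e2] at e3
    exact e3.symm)⟩⟩
  have hcyc : ¬ IsCyclic V := by
    intro hc'
    obtain ⟨g, hg⟩ := hc'.exists_generator
    have hmem : ∀ v ∈ V, v = 1 ∨ v = g.1 := fun v hv => by
      obtain ⟨m, hm⟩ := Subgroup.mem_zpowers_iff.1 (hg ⟨v, hv⟩)
      have hm' : g.1 ^ m = v := congrArg Subtype.val hm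
      rw [← hm']
      rcases Int.even_or_odd' m with ⟨l, rfl | rfl⟩
      · left
        rw [zpow_mul, zpow_two, hVsq _ g.2, one_zpow]
      · right
        rw [zpow_add, zpow_mul, zpow_two, hVsq _ g.2, one_zpow, zpow_one, one_mul]
    exact wt (((hmem w (Or.inr (Or.inr (Or.inl rfl)))).resolve_left w1).trans
      ((hmem c.t (Or.inr (Or.inl rfl))).resolve_left c.t_ne).symm)
  have hnorm : V ≤ Subgroup.normalizer (O : Set G) := by
    have key : ∀ v ∈ V, ∀ g ∈ O, v * g * v⁻¹ ∈ O := by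
      intro v hv g hg
      obtain ⟨gy, gx⟩ := hOc g hg
      have ho : Odd (orderOf (v * g * v⁻¹)) := by
        rw [← MulAut.conj_apply, MulEquiv.orderOf_eq, ← Subgroup.orderOf_mk g hg]
        exact hodd.of_dvd_nat (orderOf_dvd_natCard _)
      have conj : ∀ u, g * u = u * g → v * g * v⁻¹ * (v * u * v⁻¹) = v * u * v⁻¹ * (v * g * v⁻¹) := fun u hu => by
        calc v * g * v⁻¹ * (v * u * v⁻¹) = v * (g * u) * v⁻¹ := by group
          _ = v * (u * g) * v⁻¹ := by rw [hu]
          _ = _ := by group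
      have hy := conj _ gy
      have hx := conj _ gx
      have fy : v * c.f yE * v⁻¹ = c.f yE := by
        rw [mul_inv_eq_iff_eq_mul]
        rcases hv with rfl | rfl | rfl | rfl
        · simp
        · exact hty
        · exact hwy
        · rw [mul_assoc, hwy, ← mul_assoc, hty, mul_assoc]
      rw [fy] at hy
      have fx : v * c.f xE * v⁻¹ = c.f xE ∨ v * c.f xE * v⁻¹ = (c.f xE)⁻¹ := by
        rcases hv with rfl | rfl | rfl | rfl
        · simp
        · exact Or.inl (mul_inv_eq_iff_eq_mul.2 htx)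
        · exact Or.inr hwx
        · refine Or.inr ?_
          rw [show c.t * w * c.f xE * (c.t * w)⁻¹ = c.t * (w * c.f xE * w⁻¹) * c.t⁻¹ by group, hwx,
            mul_inv_eq_iff_eq_mul]
          exact (show Commute c.t (c.f xE) from htx).inv_right
      refine hOmax _ hy ?_ ho
      rcases fx with f | f <;> rw [f] at hx
      · exact hx
      · have := (show Commute (v * g * v⁻¹) (c.f xE)⁻¹ from hx).inv_right
        rwa [inv_inv] at this
    intro v hv
    refine Subgroup.mem_normalizer_iff.2 fun g => ⟨key v hv g, fun h => ?_⟩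
    have := key _ (inv_mem hv) _ h
    simpa [mul_assoc] using this
  have hcop : (Nat.card V).Coprime (Nat.card O) := by
    haveI := Fact.mk Nat.prime_two
    have hV2 : IsPGroup 2 V := fun v => ⟨1, Subtype.ext (by simpa [pow_two] using hVsq _ v.2)⟩
    obtain ⟨n, hn⟩ := IsPGroup.iff_card.1 hV2
    rw [hn]
    exact (Nat.coprime_two_left.2 hodd).pow_left n
  by_contra hnot
  refine haP ?_
  have hle : Coprime.centralizerJoin V O ≤ P c := by
    refine iSup₂_le fun v hv g hg => ?_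
    obtain ⟨hv, hv1⟩ := hv
    obtain ⟨hgO, hgv⟩ := hg
    obtain ⟨gy, gx⟩ := hOc g hgO
    have gv : g * v = v * g := Subgroup.mem_centralizer_singleton_iff.1 hgv
    have go : Odd (orderOf g) := by
      rw [← Subgroup.orderOf_mk g hgO]
      exact hodd.of_dvd_nat (orderOf_dvd_natCard _)
    rcases hv with rfl | rfl | rfl | rfl
    · exact absurd rfl hv1
    · exact odd_in_P c gv gy go
    · by_contra hgP
      exact hnot (comm_of_fixed gy gx go hgP ky (by rw [kt]; exact gv))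
    · by_contra hgP
      have h2 := comm_of_fixed gy gx go hgP (k := k * k)
        ((show Commute k (c.f yE) from ky).mul_left ky)
        (by rw [show k * k * c.t * (k * k)⁻¹ = k * (k * c.t * k⁻¹) * k⁻¹ by group, kt, kw]; exact gv)
      refine hnot ?_
      have h3 := h2.map (MulAut.conj k).toMonoidHom
      simp only [MulEquiv.coe_toMonoidHom, MulAut.conj_apply] at h3
      have e3 : k * (k * k * c.f xE * (k * k)⁻¹) * k⁻¹ = c.f xE := by
        rw [show k * (k * k * c.f xE * (k * k)⁻¹) * k⁻¹ = (k * k * k) * c.f xE * (k * k * k)⁻¹ by group, k3]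
        group
      rw [e3] at h3
      exact h3.symm
  exact hle ((Coprime.centralizerJoin_eq hcyc hnorm hcop).symm ▸ hOmax a hay hax hao)

/-- The last relation holds. -/
theorem three_rel : wval D.X relThree = 1 := by
  have hki : inL kWord = true := by
    have h := k_ok
    simp only [Bool.and_eq_true] at h
    exact lets_inL nLet_lt h.1.1.1.1
  have hxi := lets_inL cLet_lt p_facts.2.1
  rw [relThree_eq, wv_app, wv_app, wv_app, wv_cj D hki, wv_cj D hki, wv_rev D hxi, wv_x]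
  have h : c.f xE * (kg D * c.f xE * (kg D)⁻¹) = kg D * c.f xE * (kg D)⁻¹ * c.f xE := three_comm D
  rw [show wval D.X kWord = kg D from rfl, h]
  group

end Ctx

end Cfsg.Lib.McLRecog
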